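import Cfsg.Agent.SymBlocks.Count
import Cfsg.Agent.Blocks.SecondMain
import Cfsg.Agent.Blocks.NormalSub
import Cfsg.Agent.Blocks.MinMax
import Mathlib.Data.ZMod.Basic

/-!
# Elementary abelian subgroups of defect groups

If a member of a block does not vanish at a `p`-element `x`, every `p`-subgroup normalised by the
centralizer of `x` and contained in it lies in a defect group. For the symmetric groups this puts
the group generated by `w` disjoint `p`-cycles into a defect group of a block of weight `w`.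
-/

set_option autoImplicit false

namespace CfsgLib.SymBlocks

open Finset Cfsg CfsgLib.Block CfsgLib.Char

section Generic

universe u

variable {G : Type u} [Group G] [Fintype G] {M : Ideal AlgInt} [M.IsPrime] {p : ℕ}

theorem exists_coeff_of_apply_ne_zero (hM : IsPModular p M) {B : Set (IrrCharacter G)}
    (hB : IsPBlock M B) {χ : IrrCharacter G} (hχ : χ ∈ B) {x : G} {k : ℕ}
    (hx : orderOf x = p ^ k) (hne : (χ : G → ℂ) x ≠ 0) {E : Subgroup G} (hE : IsPGroup p E)
    (hEC : E ≤ Subgroup.centralizer ({x} : Set G))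
    (hEN : ∀ c ∈ Subgroup.centralizer ({x} : Set G), ∀ e ∈ E, c * e * c⁻¹ ∈ E) :
    ∃ h : G, h ∈ Subgroup.centralizer (E : Set G) ∧ ¬ MemLocalIdeal M (blockCoeff B h) := by
  classical
  haveI : Fact p.Prime := ⟨hM.1⟩
  set H := Subgroup.centralizer ({x} : Set G) with hH
  haveI : Fintype H := Fintype.ofFinite _
  letI := Chr.irrFintype (G := H)
  have hθ : IsClassFunction H (fun c : H => (χ : G → ℂ) (x * (c : G))) := by
    intro c v
    have hv : Commute x (v : G) := (Subgroup.mem_centralizer_singleton_iff.1 v.2).symm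
    show (χ : G → ℂ) (x * ((v * c * v⁻¹ : H) : G)) = (χ : G → ℂ) (x * (c : G))
    rw [← Chr.isClassFunction_irr χ (x * (c : G)) (v : G)]
    push_cast
    refine congrArg (χ : G → ℂ) ?_
    calc x * ((v : G) * c * (v : G)⁻¹) = (x * (v : G)) * c * (v : G)⁻¹ := by group
      _ = (v : G) * (x * c) * (v : G)⁻¹ := by rw [hv.eq]; group
  -- some block of the centralizer induces `B`
  obtain ⟨ξ, hind⟩ : ∃ ξ : IrrCharacter H, IsInducedBlock M H (blockOf M (ξ : H → ℂ)) B := by
    by_contra hnone
    push Not at hnone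
    set θ : H → ℂ := fun c => (χ : G → ℂ) (x * (c : G)) with hθdef
    have hcl : IsClassFunction H (regPart p θ) := fun c v => by
      have ho : orderOf (v * c * v⁻¹) = orderOf c :=
        orderOf_injective (MulAut.conj v).toMonoidHom (MulAut.conj v).injective c
      by_cases hc : p ∣ orderOf c
      · rw [regPart_of_dvd hc, regPart_of_dvd (by rw [ho]; exact hc)]
      · rw [regPart_of_not_dvd hc, regPart_of_not_dvd (by rw [ho]; exact hc), hθ]
    have hz : ∀ ξ, IsIrrCharacter H ξ → classInner (regPart p θ) ξ = 0 := by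
      intro ξ hξ
      have hb := isPBlock_blockOf (M := M) (⟨ξ, hξ⟩ : IrrCharacter H)
      have h0 : blockPart (blockOf M ξ) (regPart p θ) = 0 := by
        rw [blockPart_regPart hM hb]
        funext y
        by_cases hy : p ∣ orderOf y
        · rw [regPart_of_dvd hy]; rfl
        · rw [regPart_of_not_dvd hy]
          exact blockPart_eq_zero_of_not_induced hM hx hB hχ hb (hnone ⟨ξ, hξ⟩) y hy
      have h1 := classInner_blockPart (blockOf M ξ) (regPart p θ) ⟨ξ, hξ⟩
      rw [if_pos (mem_blockOf_self (⟨ξ, hξ⟩ : IrrCharacter H)), h0] at h1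
      rw [← h1]
      exact classInner_zero_left _
    have h2 := congrFun (CfsgLib.Char.eq_zero_of_classInner_eq_zero hcl hz) 1
    rw [regPart_of_not_dvd (by rw [orderOf_one]; exact hM.1.not_dvd_one)] at h2
    exact hne (by simpa [hθdef] using h2)
  obtain ⟨hbξ, -, hcong⟩ := hind
  have hω := induced_cong H (hcong ξ (mem_blockOf_self ξ) χ hχ) (isIntClass_blockCoeff hB)
  rw [omega_blockCoeff, if_pos hχ] at hω
  set E' : Subgroup H := E.subgroupOf H with hE'
  haveI : E'.Normal := ⟨fun e he c => hEN _ c.2 _ he⟩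
  have hE'p : IsPGroup p E' :=
    hE.comap_of_injective H.subtype H.subtype_injective
  obtain ⟨h, hhC, hh⟩ : ∃ h : H, h ∈ Subgroup.centralizer (E' : Set H) ∧
      ¬ MemLocalIdeal M (blockCoeff B (h : G)) := by
    by_contra hall
    push Not at hall
    refine not_memLocalIdeal_one (M := M) ((memLocalIdeal_iff_of_cong hω).1 ?_)
    rw [omega_eq_sum_classes ξ (isIntClass_resFun H (isIntClass_blockCoeff hB)).1]
    refine memLocalIdeal_sum fun C _ => ?_
    by_cases hC : C.out ∈ Subgroup.centralizer (E' : Set H)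
    · exact memLocalIdeal_mul_right (hall C.out hC) (centralChar_mem ξ _)
    · exact memLocalIdeal_mul_left ((isIntClass_blockCoeff hB).2 _)
        (centralChar_mem_ideal_of_normal hM E' hE'p ξ hC)
  refine ⟨(h : G), ?_, hh⟩
  rw [Subgroup.mem_centralizer_iff]
  intro e he
  exact congrArg Subtype.val (Subgroup.mem_centralizer_iff.1 hhC ⟨e, hEC he⟩ he)

theorem exists_conj_le_of_apply_ne_zero (hM : IsPModular p M) {B : Set (IrrCharacter G)}
    (hB : IsPBlock M B) {χ : IrrCharacter G} (hχ : χ ∈ B) {x : G} {k : ℕ}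
    (hx : orderOf x = p ^ k) (hne : (χ : G → ℂ) x ≠ 0) {E : Subgroup G} (hE : IsPGroup p E)
    (hEC : E ≤ Subgroup.centralizer ({x} : Set G))
    (hEN : ∀ c ∈ Subgroup.centralizer ({x} : Set G), ∀ e ∈ E, c * e * c⁻¹ ∈ E)
    {D : Subgroup G} (hD : IsDefectGroup p M B D) :
    ∃ g : G, E.map (MulAut.conj g).toMonoidHom ≤ D := by
  obtain ⟨h, hhC, hh⟩ := exists_coeff_of_apply_ne_zero hM hB hχ hx hne hE hEC hEN
  exact exists_conj_le_defectGroup hM hB hD hh hE hhC

end Generic

end CfsgLib.SymBlocks
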