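import Cfsg.Agent.SymBlocks.Chars
import Cfsg.Agent.Blocks.Basic
import Mathlib.Algebra.Polynomial.Roots
import Mathlib.Data.Int.CardIntervalMod

/-!
# Characters in one block have the same residue counts
-/

set_option autoImplicit false

namespace CfsgLib.SymBlocks

open Finset Cfsg CfsgLib.Block Polynomial

variable {N n p : ℕ}

/-- The number of entries with a given residue. -/
def resCount (p : ℕ) (β : Fin N → ℕ) (c : ℕ) : ℕ := (univ.filter fun i => β i % p = c).card

/-- The multiset of the values below the entries. -/
def sea (β : Fin N → ℕ) : Multiset ℕ := univ.val.bind fun i => (range (β i)).val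

/-- The sea polynomial over a ring. -/
noncomputable def seaPoly (R : Type*) [CommRing R] (β : Fin N → ℕ) : R[X] :=
  (((sea β).map fun j : ℕ => (N : R) - 1 - (j : R)).map fun a => X - C a).prod

theorem seaPoly_map {R S : Type*} [CommRing R] [CommRing S] (f : R →+* S) (β : Fin N → ℕ) :
    (seaPoly R β).map f = seaPoly S β := by
  simp only [seaPoly, Polynomial.map_multiset_prod, Multiset.map_map]
  congr 1
  exact Multiset.map_congr rfl fun j _ => by simp

theorem eval_seaPoly (β : Fin N → ℕ) (z : ℂ) : (seaPoly ℂ β).eval z = seaProd β z := by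
  simp only [seaPoly, sea, eval_multiset_prod, Multiset.map_map, Multiset.map_bind,
    Multiset.prod_bind]
  refine prod_congr rfl fun i _ => ?_
  simp only [Function.comp_apply, eval_multiset_prod, Multiset.map_map]
  refine prod_congr rfl fun j _ => ?_
  simp
  ring

theorem count_modEq {b a : ℕ} (ha : a < p) :
    ((range b).filter fun j => j % p = a).card = b / p + if a < b % p then 1 else 0 := by
  have h := Nat.count_modEq_card b (r := p) (by omega) a
  rw [Nat.mod_eq_of_lt ha] at h
  rw [← h, Nat.count_eq_card_filter_range]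
  congr 1
  refine filter_congr fun j _ => ?_
  simp [Nat.ModEq, Nat.mod_eq_of_lt ha]

/-- The block determines the residue counts. -/
theorem resCount_eq {M : Ideal AlgInt} [M.IsPrime] (hM : IsPModular p M)
    {χ ψ : IrrCharacter (Equiv.Perm (Fin n))}
    (hsame : SameBlock M (χ : Equiv.Perm (Fin n) → ℂ) (ψ : Equiv.Perm (Fin n) → ℂ))
    {β γ : Fin N → ℕ} {e f : ℂ} (hinjβ : Function.Injective β) (hβ : ∑ i, β i = tri N + n)
    (hinjγ : Function.Injective γ) (hγ : ∑ i, γ i = tri N + n) (he : e ≠ 0) (hf : f ≠ 0)
    (hχ : (χ : Equiv.Perm (Fin n) → ℂ) = e • chi n β)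
    (hψ : (ψ : Equiv.Perm (Fin n) → ℂ) = f • chi n γ) (c : ℕ) (hc : c < p) :
    resCount p β c = resCount p γ c := by
  classical
  haveI := charP_residue hM
  set a : ℕ → Equiv.Perm (Fin n) → ℂ := fun k g => if (parts g).card = k then 1 else 0
  have ha : ∀ k, IsIntClass M (a k) := fun k => ⟨fun g h => by simp only [a, parts_conj],
    fun g => by simp only [a]; split_ifs <;> [exact memLocalRing_one; exact memLocalRing_zero]⟩
  have hcard : ∀ g : Equiv.Perm (Fin n), (parts g).card ∈ range (n + 1) := by
    intro g
    rw [mem_range, Nat.lt_succ_iff]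
    have h1 := Multiset.card_nsmul_le_sum (s := parts g) (a := 1) fun m hm => parts_pos hm
    rwa [parts_sum, Fintype.card_fin, smul_eq_mul, mul_one] at h1
  set P : IrrCharacter (Equiv.Perm (Fin n)) → (localRing M)[X] := fun φ =>
    ∑ k ∈ range (n + 1), C (⟨omega (φ : Equiv.Perm (Fin n) → ℂ) (a k), omega_mem φ (ha k)⟩ :
      localRing M) * X ^ k
  have hPeq : ∀ (φ : IrrCharacter (Equiv.Perm (Fin n))) (δ : Fin N → ℕ) (u : ℂ), u ≠ 0 →
      Function.Injective δ → ∑ i, δ i = tri N + n →
      (φ : Equiv.Perm (Fin n) → ℂ) = u • chi n δ →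
      P φ * seaPoly (localRing M) (stair N) = seaPoly (localRing M) δ := by
    intro φ δ u hu hinj hs hφ
    refine Polynomial.map_injective (localRing M).subtype Subtype.coe_injective ?_
    rw [Polynomial.map_mul, seaPoly_map, seaPoly_map]
    refine Polynomial.funext fun z => ?_
    rw [eval_mul, eval_seaPoly, eval_seaPoly]
    have hd : (chm (Multiset.replicate n 1) δ : ℂ) ≠ 0 := by
      exact_mod_cast deg_ne_zero hinj hs
    have hev : ((P φ).map (localRing M).subtype).eval z =
        (n.factorial : ℂ) * cyc n z δ / (chm (Multiset.replicate n 1) δ : ℂ) := by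
      simp only [P, Polynomial.map_sum, Polynomial.map_mul, Polynomial.map_pow, map_C, map_X,
        eval_finsetSum, eval_mul, eval_C, eval_pow, eval_X, Subring.subtype_apply, omega]
      rw [cyc, ← sum_perm_parts, sum_div]
      simp only [sum_div, sum_mul]
      rw [sum_comm]
      refine sum_congr rfl fun g _ => ?_
      rw [sum_eq_single (parts g).card]
      · simp only [a, if_true, one_mul, hφ, Pi.smul_apply, smul_eq_mul, chi_one]
        simp only [chi]
        field_simp
      · intro k _ hk
        simp [a, Ne.symm hk]
      · intro h; exact absurd (hcard g) h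
    rw [hev, div_mul_eq_mul_div, cyc_eq, mul_div_cancel_left₀ _ hd]
  have hP : (P χ).map (res M) = (P ψ).map (res M) := by
    simp only [P, Polynomial.map_sum, Polynomial.map_mul, Polynomial.map_pow, map_C, map_X]
    refine sum_congr rfl fun k _ => ?_
    congr 2
    exact res_eq_iff.2 (omega_cong hsame (ha k))
  have hsea : seaPoly (Residue M) β = seaPoly (Residue M) γ := by
    rw [← seaPoly_map (res M) β, ← seaPoly_map (res M) γ, ← hPeq χ β e he hinjβ hβ hχ,
      ← hPeq ψ γ f hf hinjγ hγ hψ, Polynomial.map_mul, Polynomial.map_mul, hP]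
  have hmul : (sea β).map (fun j : ℕ => (N : Residue M) - 1 - (j : Residue M)) =
      (sea γ).map (fun j : ℕ => (N : Residue M) - 1 - (j : Residue M)) := by
    rw [← Polynomial.roots_multiset_prod_X_sub_C
      ((sea β).map fun j : ℕ => (N : Residue M) - 1 - (j : Residue M)),
      ← Polynomial.roots_multiset_prod_X_sub_C
      ((sea γ).map fun j : ℕ => (N : Residue M) - 1 - (j : Residue M))]
    exact congrArg Polynomial.roots hsea
  have hg : ∀ a < p, ∑ i, (β i / p + if a < β i % p then 1 else 0) =
      ∑ i, (γ i / p + if a < γ i % p then 1 else 0) := by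
    intro a ha
    have key : ∀ δ : Fin N → ℕ,
        ((sea δ).map (fun j : ℕ => (N : Residue M) - 1 - (j : Residue M))).count
          ((N : Residue M) - 1 - (a : Residue M)) =
        ∑ i, (δ i / p + if a < δ i % p then 1 else 0) := by
      intro δ
      rw [Multiset.count_map, sea, Multiset.filter_bind, Multiset.card_bind]
      refine sum_congr rfl fun i _ => ?_
      rw [← count_modEq ha]
      simp only [Function.comp_apply]
      rw [← filter_val, ← card_def]
      congr 1
      refine filter_congr fun j _ => ?_
      rw [sub_right_inj, CharP.natCast_eq_natCast (Residue M) p, Nat.ModEq, Nat.mod_eq_of_lt ha]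
      exact eq_comm
    rw [← key β, ← key γ, hmul]
  have hp : 0 < p := hM.1.pos
  have hlast := hg (p - 1) (by omega)
  have hz : ∀ δ : Fin N → ℕ, ∑ i, (δ i / p + if p - 1 < δ i % p then 1 else 0) = ∑ i, δ i / p :=
    fun δ => sum_congr rfl fun i _ => by
      have := Nat.mod_lt (δ i) hp
      rw [if_neg (by omega), add_zero]
  rw [hz, hz] at hlast
  have hgt : ∀ a < p, (univ.filter fun i => a < β i % p).card =
      (univ.filter fun i => a < γ i % p).card := by
    intro a ha
    have h := hg a ha
    rw [sum_add_distrib, sum_add_distrib, sum_boole, sum_boole, hlast] at h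
    simpa using h
  have hsplit : ∀ δ : Fin N → ℕ, ∀ a, (univ.filter fun i => a < δ i % p).card =
      resCount p δ (a + 1) + (univ.filter fun i => a + 1 < δ i % p).card := by
    intro δ a
    rw [resCount, ← card_union_of_disjoint]
    · congr 1
      ext i
      simp only [mem_filter, mem_univ, true_and, mem_union]
      omega
    · rw [Finset.disjoint_left]
      intro i h1 h2
      simp only [mem_filter, mem_univ, true_and] at h1 h2
      omega
  rcases Nat.eq_zero_or_pos c with rfl | hc0
  · have h0 : ∀ δ : Fin N → ℕ,
        resCount p δ 0 + (univ.filter fun i => 0 < δ i % p).card = N := by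
      intro δ
      have := card_filter_add_card_filter_not (s := (univ : Finset (Fin N))) (fun i => δ i % p = 0)
      rw [card_univ, Fintype.card_fin] at this
      have he : (univ.filter fun i => 0 < δ i % p) = univ.filter fun i => ¬ δ i % p = 0 :=
        filter_congr fun i _ => Nat.pos_iff_ne_zero
      rw [resCount, he]
      exact this
    have := hgt 0 hp
    have := h0 β
    have := h0 γ
    omega
  · obtain ⟨b, rfl⟩ : ∃ b, c = b + 1 := ⟨c - 1, by omega⟩
    have := hgt b (by omega)
    rw [hsplit β, hsplit γ, hgt (b + 1) hc] at this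
    omega

end CfsgLib.SymBlocks
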