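import Cfsg.Agent.SymBlocks.Cycles
import Cfsg.Agent.SymBlocks.Defect
import Cfsg.Agent.SymBlocks.Nakayama
import Cfsg.Prelude.Def_CaseTheorems
import Mathlib.Data.Fin.Tuple.Sort
import Mathlib.Data.Prod.Lex

/-!
# The regular rank of a block of a symmetric group and the rank of its defect group
-/

set_option autoImplicit false

namespace CfsgLib.SymBlocks

open Finset Cfsg CfsgLib.Block

/-- A group of sectional rank at most `s` has rank at most `s`. -/
theorem card_le_of_sectional {G : Type*} [Group G] {p s : ℕ} {D : Subgroup G}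
    (hs : SectionalPRankLE p s D) {A : Subgroup G} (hAD : A ≤ D) (hAc : IsMulCommutative A)
    (hAp : ∀ a ∈ A, a ^ p = 1) : Nat.card A ≤ p ^ s := by
  classical
  let q : (⊤ : Subgroup D) →* (⊤ : Subgroup D) ⧸ (⊥ : Subgroup (⊤ : Subgroup D)) := QuotientGroup.mk' _
  let f : A →* (⊤ : Subgroup D) ⧸ (⊥ : Subgroup (⊤ : Subgroup D)) :=
    q.comp ((Subgroup.topEquiv.symm : D ≃* (⊤ : Subgroup D)).toMonoidHom.comp (Subgroup.inclusion hAD))
  have hf : Function.Injective f := by
    intro a b hab
    have h1 : Subgroup.topEquiv.symm (Subgroup.inclusion hAD a) =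
        Subgroup.topEquiv.symm (Subgroup.inclusion hAD b) := by
      have h2 := QuotientGroup.eq.1 hab
      rw [Subgroup.mem_bot] at h2
      exact inv_mul_eq_one.1 h2
    exact Subgroup.inclusion_injective hAD (Subgroup.topEquiv.symm.injective h1)
  have h := hs ⊤ ⊥ f.range ⟨⟨fun x y => ?_⟩⟩ fun x hx => ?_
  · rwa [← Nat.card_congr (MonoidHom.ofInjective hf).toEquiv] at h
  · obtain ⟨_, a, rfl⟩ := x
    obtain ⟨_, b, rfl⟩ := y
    exact Subtype.ext (by
      show f a * f b = f b * f a
      rw [← map_mul, ← map_mul, hAc.is_comm.comm a b])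
  · obtain ⟨a, rfl⟩ := hx
    rw [← map_pow, show a ^ p = 1 from Subtype.ext (by simpa using hAp a a.2), map_one]

theorem one_le_of_sectional {G : Type*} [Group G] [Finite G] {p s : ℕ} [Fact p.Prime]
    {D : Subgroup G} (hD : IsPGroup p D) (hD1 : D ≠ ⊥) (hs : SectionalPRankLE p s D) : 1 ≤ s := by
  haveI : Nontrivial D := D.nontrivial_iff_ne_bot.2 hD1
  obtain ⟨k, hk, hcard⟩ := hD.nontrivial_iff_card.1 ‹_›
  obtain ⟨a, ha⟩ := exists_prime_orderOf_dvd_card' (G := D) p (hcard ▸ dvd_pow_self p hk.ne')
  have h := card_le_of_sectional hs (A := Subgroup.zpowers (a : G))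
    (Subgroup.zpowers_le.2 a.2) inferInstance fun b hb => ?_
  · rw [Nat.card_zpowers, Subgroup.orderOf_coe, ha] at h
    by_contra h0
    rw [show s = 0 by omega, pow_zero] at h
    have := (Fact.out : p.Prime).two_le
    omega
  · obtain ⟨i, rfl⟩ := hb
    show ((a : G) ^ i) ^ p = 1
    rw [← zpow_natCast, ← zpow_mul, mul_comm, zpow_mul, zpow_natCast,
      show (a : G) ^ p = 1 by rw [← ha, ← Subgroup.orderOf_coe]; exact pow_orderOf_eq_one _, one_zpow]

theorem exists_perm_residues {N p : ℕ} (hp : 0 < p) (β γ : Fin N → ℕ)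
    (h : ∀ c < p, resCount p β c = resCount p γ c) :
    ∃ τ : Equiv.Perm (Fin N), ∀ i, γ (τ i) % p = β i % p := by
  classical
  have hc : ∀ c, Fintype.card {i // β i % p = c} = Fintype.card {i // γ i % p = c} := by
    intro c
    rw [Fintype.card_subtype, Fintype.card_subtype]
    by_cases hcp : c < p
    · exact h c hcp
    · rw [filter_false_of_mem, filter_false_of_mem]
      all_goals
        intro i _ e
        exact hcp (e ▸ Nat.mod_lt _ hp)
  exact ⟨Equiv.ofFiberEquiv fun c => Fintype.equivOfCardEq (hc c),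
    fun i => Equiv.ofFiberEquiv_map (f := fun i => β i % p) (g := fun i => γ i % p) _ i⟩

/-- An elementary abelian group of the order of the weight in a defect group, and the bound on the
regular rank. -/
theorem blockRank_lt_of_weight (n p : ℕ) [hp : Fact p.Prime] (M : Ideal AlgInt)
    (hM : IsPModular p M) (B : Set (IrrCharacter (Equiv.Perm (Fin n))))
    (hB : IsPBlock M B) (D : Subgroup (Equiv.Perm (Fin n))) (hD : IsDefectGroup p M B D) :
    ∃ w : ℕ, blockRank p B < (if w = 0 then 2 else p ^ w) ∧
      ∀ s : ℕ, SectionalPRankLE p s D → p ^ w ≤ p ^ s := by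
  classical
  haveI : M.IsPrime := hM.2.1.isPrime
  have hp0 : 0 < p := hp.out.pos
  obtain ⟨χ, hχ⟩ := exists_mem_block hB
  obtain ⟨β, hinjβ, hsβ, e, he, hχβ⟩ := exists_chi (N := n) le_rfl χ
  set σ₀ := Tuple.sort fun i => toLex (β i % p, β i)
  set β₁ := β ∘ σ₀ with hβ₁
  set r : Fin n → ℕ := fun i => β₁ i % p with hrdef
  set x : Fin n → ℕ := fun i => β₁ i / p with hxdef
  have hr : ∀ i, r i < p := fun i => Nat.mod_lt _ hp0
  have hjoin : join p r x = β₁ := funext fun i => Nat.div_add_mod (β₁ i) p
  have hinj₁ : Function.Injective β₁ := hinjβ.comp σ₀.injective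
  have hs₁ : ∑ i, β₁ i = tri n + n := (Equiv.sum_comp σ₀ β).trans hsβ
  have hstrict : ∀ i j, i < j → r i = r j → x i < x j := by
    intro i j hij hrij
    have h := Tuple.monotone_sort (fun i => toLex (β i % p, β i)) hij.le
    have hle : β₁ i ≤ β₁ j := by
      rcases (Prod.Lex.toLex_le_toLex.1 h) with h | h
      · exact absurd hrij h.ne
      · exact h.2
    have hne : β₁ i ≠ β₁ j := fun h => hij.ne (hinj₁ h)
    refine lt_of_le_of_ne (Nat.div_le_div_right hle) fun hx => hne ?_
    rw [← congrFun hjoin i, ← congrFun hjoin j]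
    simp only [join, hrij, hx]
  set w := wt r x with hw
  refine ⟨w, ?_, ?_⟩
  · refine lt_of_le_of_lt ?_ (finrank_span_vec_le (n := n) hp.out.two_le le_rfl hr
      (by rw [hjoin]; exact hs₁) (by rw [hjoin]; exact hinj₁))
    refine Submodule.finrank_mono (Submodule.span_le.2 ?_)
    rintro _ ⟨φ, hφ, rfl⟩
    obtain ⟨γ, hinjγ, hsγ, f, hf, hφγ⟩ := exists_chi (N := n) le_rfl φ
    have he0 : e ≠ 0 := by rcases he with rfl | rfl <;> norm_num
    have hf0 : f ≠ 0 := by rcases hf with rfl | rfl <;> norm_num
    have hres : ∀ c < p, resCount p β₁ c = resCount p γ c := by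
      intro c hc
      rw [← resCount_eq hM (sameBlock_of_mem hB hχ hφ) hinjβ hsβ hinjγ hsγ he0 hf0 hχβ hφγ c hc]
      unfold resCount
      exact card_equiv σ₀ fun i => by simp [hβ₁]
    obtain ⟨τ, hτ⟩ := exists_perm_residues hp0 β₁ γ hres
    have hjy : join p r (fun i => γ (τ i) / p) = γ ∘ τ := funext fun i => by
      simp only [join, hrdef, ← hτ i, Function.comp_apply]
      exact Nat.div_add_mod (γ (τ i)) p
    have hvec : vec n p r (fun i => γ (τ i) / p) =
        ((Equiv.Perm.sign τ : ℤ) : ℂ) • pRegularPart p (chi n γ) := by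
      rw [vec, hjy, ← pRegularPart_smul]
      congr 1
      funext g
      simp [chi, chm_comp]
    have hmem : vec n p r (fun i => γ (τ i) / p) ∈ Submodule.span ℂ
        (vec n p r '' {x : Fin n → ℕ | ∑ i, join p r x i = tri n + n}) :=
      Submodule.subset_span ⟨_, (by
        show ∑ i, join p r (fun i => γ (τ i) / p) i = _
        rw [hjy]; exact (Equiv.sum_comp τ γ).trans hsγ), rfl⟩
    simp only [SetLike.mem_coe]
    rw [show pRegularPart p (φ : Equiv.Perm (Fin n) → ℂ) =
        (f * ((Equiv.Perm.sign τ : ℤ) : ℂ)) • vec n p r (fun i => γ (τ i) / p) by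
      rw [hvec, hφγ, pRegularPart_smul, smul_smul, mul_assoc, ← Int.cast_mul, ← Units.val_mul,
        Int.units_mul_self, Units.val_one, Int.cast_one, mul_one]]
    exact Submodule.smul_mem _ _ hmem
  · intro s hs
    have hlow : ∀ i j, i < j → r i = r j → low r i < low r j := fun i j hij hrij => by
      rw [← rnk_eq_low hstrict, ← rnk_eq_low hstrict]
      exact rnk_lt_rnk hrij (hstrict i j hij hrij)
    have hlinj := join_injective hr (runner_injective hlow)
    have hge := tri_le_sum hlinj
    have hsum : p * w + ∑ i, join p r (low r) i = tri n + n := by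
      rw [← hs₁, ← hjoin, sum_join, sum_join, ← sum_low_le hstrict, mul_add]
      ring
    have hwn : p * w ≤ n := by omega
    set m := n - p * w with hm
    obtain ⟨c, hc, hval⟩ := chm_replicate_ne_zero hr m w x hstrict rfl
      (by rw [hjoin, hs₁, hm]; omega)
    set ε : Pts p w m ≃ Fin n := Fintype.equivFinOfCardEq (by
      simp only [Fintype.card_sum, Fintype.card_prod, Fintype.card_fin, ZMod.card]
      rw [hm, mul_comm w p]
      omega) with hε
    set u : Equiv.Perm (Fin n) := ε.permCongr (cyclesPerm p w m) with hu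
    have hχu : (χ : Equiv.Perm (Fin n) → ℂ) u ≠ 0 := by
      rw [hχβ, Pi.smul_apply, smul_eq_mul, chi, hu, parts_permCongr, parts_cyclesPerm]
      refine mul_ne_zero (by rcases he with rfl | rfl <;> norm_num) ?_
      rw [Int.cast_ne_zero]
      intro h0
      have h1 := chm_comp (Multiset.replicate w p + Multiset.replicate m 1) β σ₀
      rw [h0, mul_zero, ← hβ₁, ← hjoin, hval, mul_eq_zero] at h1
      exact deg_ne_zero hlinj (by omega) (h1.resolve_left hc.ne')
    obtain ⟨k, hk⟩ := orderOf_cyclesPerm (p := p) (w := w) (m := m)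
    set F : Multiplicative (Fin w → ZMod p) →* Equiv.Perm (Fin n) :=
      ε.permCongrHom.toMonoidHom.comp (shift p w m) with hF
    have hFinj : Function.Injective F :=
      ε.permCongrHom.injective.comp shift_injective
    have hpow : ∀ v : Multiplicative (Fin w → ZMod p), v ^ p = 1 := fun v => by
      refine Multiplicative.toAdd.injective (funext fun j => ?_)
      simp
    have hE : IsPGroup p F.range := fun g => ⟨1, by
      obtain ⟨_, v, rfl⟩ := g
      refine Subtype.ext ?_
      rw [SubmonoidClass.coe_pow, pow_one, ← map_pow, hpow, map_one]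
      rfl⟩
    have hord : orderOf u = p ^ k := by
      rw [hu, ← hk]
      exact MulEquiv.orderOf_eq ε.permCongrHom _
    obtain ⟨g, hg⟩ := exists_conj_le_of_apply_ne_zero hM hB hχ hord hχu hE
      (by
        rintro _ ⟨v, rfl⟩
        rw [Subgroup.mem_centralizer_singleton_iff]
        show ε.permCongrHom (shift p w m v) * ε.permCongrHom (cyclesPerm p w m) =
          ε.permCongrHom (cyclesPerm p w m) * ε.permCongrHom (shift p w m v)
        rw [← map_mul, ← map_mul, shift_mem_centralizer])
      (by
        rintro c hc _ ⟨v, rfl⟩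
        rw [Subgroup.mem_centralizer_singleton_iff] at hc
        obtain ⟨c', rfl⟩ := ε.permCongrHom.surjective c
        have hcomm : Commute c' (cyclesPerm p w m) := ε.permCongrHom.injective (by
          rw [map_mul, map_mul]; exact hc)
        obtain ⟨v', hv'⟩ := conj_shift_mem hp.out.one_lt hcomm v
        refine ⟨v', ?_⟩
        show ε.permCongrHom (shift p w m v') = _
        rw [hv', map_mul, map_mul, map_inv]
        rfl) hD
    have h := card_le_of_sectional hs hg ⟨⟨fun a b => ?_⟩⟩ fun a ha => ?_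
    · rw [Subgroup.card_map_of_injective (MulAut.conj g).injective,
        ← Nat.card_congr (MonoidHom.ofInjective hFinj).toEquiv,
        Nat.card_eq_fintype_card, Fintype.card_multiplicative, Fintype.card_fun, ZMod.card,
        Fintype.card_fin] at h
      exact h
    · obtain ⟨_, _, ⟨v, rfl⟩, rfl⟩ := a
      obtain ⟨_, _, ⟨v', rfl⟩, rfl⟩ := b
      exact Subtype.ext (by
        show (MulAut.conj g).toMonoidHom (F v) * (MulAut.conj g).toMonoidHom (F v') = _
        rw [← map_mul, ← map_mul, mul_comm v v', map_mul, map_mul]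
        rfl)
    · obtain ⟨_, ⟨v, rfl⟩, rfl⟩ := ha
      rw [← map_pow, ← map_pow, hpow, map_one, map_one]

/-- `l(B) < p ^ s`. -/
theorem blockRank_lt (n p : ℕ) [hp : Fact p.Prime] (M : Ideal AlgInt) (hM : IsPModular p M)
    (B : Set (IrrCharacter (Equiv.Perm (Fin n)))) (hB : IsPBlock M B)
    (D : Subgroup (Equiv.Perm (Fin n))) (hD : IsDefectGroup p M B D) (hD1 : D ≠ ⊥) (s : ℕ)
    (hs : SectionalPRankLE p s D) : blockRank p B < p ^ s := by
  haveI : M.IsPrime := hM.2.1.isPrime
  obtain ⟨w, hw, hws⟩ := blockRank_lt_of_weight n p M hM B hB D hD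
  by_cases h0 : w = 0
  · rw [if_pos h0] at hw
    have h1 : p ^ 1 ≤ p ^ s := Nat.pow_le_pow_right hp.out.pos
      (one_le_of_sectional (isPGroup_defectGroup hD) hD1 hs)
    have := hp.out.two_le
    rw [pow_one] at h1
    omega
  · rw [if_neg h0] at hw
    exact hw.trans_le (hws s hs)

end CfsgLib.SymBlocks
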