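import Cfsg.Agent.SymBlocks.Count
import Mathlib.Combinatorics.Enumerative.Composition
import Mathlib.Data.Multiset.Sort

/-!
# Counting sets of codes
-/

set_option autoImplicit false

namespace CfsgLib.SymBlocks

open Finset

theorem dropWhile_replicate (k : ℕ) {l : List ℕ} (h : ∀ a ∈ l.head?, a ≠ 0) :
    ((List.replicate k 0 ++ l).dropWhile fun a => a == 0) = l := by
  induction k with
  | zero =>
    cases l with
    | nil => rfl
    | cons a t => simp [h a (by simp)]
  | succ k ih => simpa [List.replicate_succ] using ih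

/-- Codes of weight at most `w` are fewer than the words of length `w`. -/
theorem card_lt_pow {p w : ℕ} (hp : 0 < p) (U : Finset (Multiset (ℕ × ℕ)))
    (hU : ∀ C ∈ U, (∀ q ∈ C, q.1 ≠ 0 ∧ 0 < q.2 ∧ q.1 < p) ∧
      0 < (C.map Prod.snd).sum ∧ (C.map Prod.snd).sum ≤ w) : U.card < p ^ w := by
  classical
  haveI : NeZero p := ⟨hp.ne'⟩
  set word : Multiset (ℕ × ℕ) → List ℕ := fun C =>
    List.replicate (w - (C.map Prod.snd).sum) 0 ++ spell C.toList
  have hq : ∀ C ∈ U, ∀ q ∈ C.toList, q.1 ≠ 0 ∧ 0 < q.2 ∧ q.1 < p := fun C hC q hq =>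
    (hU C hC).1 q (Multiset.mem_toList.1 hq)
  have hsl : ∀ C ∈ U, (spell C.toList).length = (C.map Prod.snd).sum := fun C hC => by
    rw [spell_length _ fun q h => (hq C hC q h).2.1, ← Multiset.sum_coe, ← Multiset.map_coe,
      Multiset.coe_toList]
  have hlen : ∀ C ∈ U, (word C).length = w := fun C hC => by
    have := (hU C hC).2.2
    simp only [word, List.length_append, List.length_replicate, hsl C hC]
    omega
  have hlt : ∀ C ∈ U, ∀ d ∈ word C, d < p := fun C hC d hd => by
    rcases List.mem_append.1 hd with h | h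
    · rw [(List.mem_replicate.1 h).2]; exact hp
    · exact spell_lt hp _ (fun q h => (hq C hC q h).2.2) d h
  have hhead : ∀ C ∈ U, ∀ a ∈ (spell C.toList).head?, a ≠ 0 := fun C hC a ha => by
    rcases hL : C.toList with _ | ⟨q, l⟩
    · rw [hL] at ha; simp [spell] at ha
    · rw [hL] at ha
      simp only [spell, List.head?_cons, Option.mem_def, Option.some.injEq] at ha
      rw [← ha]
      exact (hq C hC q (by rw [hL]; exact List.mem_cons_self)).1
  have hdrop : ∀ C ∈ U, ((word C).dropWhile fun a => a == 0) = spell C.toList :=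
    fun C hC => dropWhile_replicate _ (hhead C hC)
  set key : Multiset (ℕ × ℕ) → (Fin w → Fin p) := fun C k => Fin.ofNat p ((word C).getD k 0)
    with hkey
  have hinj : Set.InjOn key (U : Set (Multiset (ℕ × ℕ))) := by
    intro C hC C' hC' h
    have hword : word C = word C' := by
      refine List.ext_getElem ((hlen C hC).trans (hlen C' hC').symm) fun k h1 h2 => ?_
      have := congrArg Fin.val (congrFun h ⟨k, hlen C hC ▸ h1⟩)
      simp only [hkey, Fin.val_ofNat, List.getD_eq_getElem?_getD, List.getElem?_eq_getElem h1,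
        List.getElem?_eq_getElem h2, Option.getD_some] at this
      rwa [Nat.mod_eq_of_lt (hlt C hC _ (List.getElem_mem h1)),
        Nat.mod_eq_of_lt (hlt C' hC' _ (List.getElem_mem h2))] at this
    have hs : spell C.toList = spell C'.toList := by rw [← hdrop C hC, hword, hdrop C' hC']
    have := spell_inj _ _ (fun q h => ⟨(hq C hC q h).1, (hq C hC q h).2.1⟩)
      (fun q h => ⟨(hq C' hC' q h).1, (hq C' hC' q h).2.1⟩) hs
    rw [← Multiset.coe_toList C, this, Multiset.coe_toList]
  have h0 : (fun _ => 0 : Fin w → Fin p) ∉ U.image key := by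
    intro h
    obtain ⟨C, hC, hC0⟩ := mem_image.1 h
    have hz : word C = List.replicate w 0 := by
      refine List.ext_getElem (by rw [hlen C hC, List.length_replicate]) fun k h1 h2 => ?_
      have := congrArg Fin.val (congrFun hC0 ⟨k, hlen C hC ▸ h1⟩)
      simp only [hkey, Fin.val_ofNat, List.getD_eq_getElem?_getD, List.getElem?_eq_getElem h1,
        Option.getD_some, Nat.mod_eq_of_lt (hlt C hC _ (List.getElem_mem h1)), Fin.val_zero] at this
      simp [this]
    have h1 := hdrop C hC
    have h2 := dropWhile_replicate (l := []) w (by simp)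
    rw [List.append_nil] at h2
    rw [hz, h2] at h1
    have h3 := hsl C hC
    rw [← h1] at h3
    have := (hU C hC).2.1
    simp at h3
    omega
  have := card_lt_card ((ssubset_iff_of_subset (subset_univ (U.image key))).2 ⟨_, mem_univ _, h0⟩)
  rwa [card_univ, Fintype.card_fun, Fintype.card_fin, Fintype.card_fin, card_image_of_injOn hinj]
    at this

/-- With one colour, codes of weight `w` and of weight `w / 2` are fewer than the compositions. -/
theorem card_add_card_lt_two_pow {w : ℕ} (hw : 3 ≤ w) (C₁ C₂ : Finset (Multiset (ℕ × ℕ)))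
    (h₁ : ∀ C ∈ C₁, (C.map Prod.snd).sum = w ∧ ∀ q ∈ C, q.1 = 1 ∧ 0 < q.2)
    (h₂ : ∀ C ∈ C₂, 2 * (C.map Prod.snd).sum = w ∧ ∀ q ∈ C, q.1 = 1 ∧ 0 < q.2) :
    C₁.card + C₂.card < 2 ^ (w - 1) := by
  classical
  set srt : Multiset (ℕ × ℕ) → List ℕ := fun C => Multiset.sort (C.map Prod.snd) (· ≥ ·)
  have hrec : ∀ C : Multiset (ℕ × ℕ), (∀ q ∈ C, q.1 = 1 ∧ 0 < q.2) →
      C = ((srt C : List ℕ) : Multiset ℕ).map fun v => (1, v) := by
    intro C hC
    simp only [srt, Multiset.sort_eq, Multiset.map_map]
    conv_lhs => rw [← Multiset.map_id C]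
    exact Multiset.map_congr rfl fun q hq => Prod.ext (hC q hq).1 rfl
  have hsum : ∀ C, (srt C).sum = (C.map Prod.snd).sum := fun C => by
    rw [← Multiset.sum_coe, Multiset.sort_eq]
  have hpos : ∀ C : Multiset (ℕ × ℕ), (∀ q ∈ C, q.1 = 1 ∧ 0 < q.2) → ∀ v ∈ srt C, 0 < v := by
    intro C hC v hv
    obtain ⟨q, hq, rfl⟩ := Multiset.mem_map.1 ((Multiset.mem_sort _).1 hv)
    exact (hC q hq).2
  set g : Multiset (ℕ × ℕ) → List ℕ := fun C =>
    match srt C with
    | [] => []
    | a :: l => 1 :: (a + (C.map Prod.snd).sum - 1) :: l with hg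
  set extra : List ℕ := if w = 3 then [1, 2] else [1, 1, w - 2]
  have hform : ∀ C ∈ C₂, ∃ a l, srt C = a :: l ∧ 0 < a ∧
      g C = 1 :: (a + (C.map Prod.snd).sum - 1) :: l := by
    intro C hC
    rcases hL : srt C with _ | ⟨a, l⟩
    · have h := (hsum C).symm.trans (by rw [hL]; rfl : (srt C).sum = 0)
      have := (h₂ C hC).1
      omega
    · exact ⟨a, l, rfl, hpos C (h₂ C hC).2 a (by rw [hL]; exact List.mem_cons_self),
        by simp only [hg, hL]⟩
  have hdesc : ∀ C, (srt C).Pairwise (· ≥ ·) := fun C => Multiset.pairwise_sort _ _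
  have hext : ¬ extra.Pairwise (· ≥ ·) := by
    simp only [extra]
    split_ifs <;> simp <;> omega
  have hd₁ : Disjoint (C₁.image srt) (C₂.image g) := by
    rw [Finset.disjoint_left]
    intro l hl hl'
    obtain ⟨C, -, rfl⟩ := mem_image.1 hl
    obtain ⟨C', hC', he⟩ := mem_image.1 hl'
    obtain ⟨a, l, -, ha, hgC⟩ := hform C' hC'
    have h := hdesc C
    rw [← he, hgC, List.pairwise_cons] at h
    have := h.1 _ List.mem_cons_self
    have := (h₂ C' hC').1
    omega
  have he₁ : extra ∉ C₁.image srt ∪ C₂.image g := by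
    rw [mem_union]
    rintro (h | h)
    · obtain ⟨C, -, hC⟩ := mem_image.1 h
      exact hext (hC ▸ hdesc C)
    · obtain ⟨C, hC, he⟩ := mem_image.1 h
      obtain ⟨a, l, -, ha, hgC⟩ := hform C hC
      have := (h₂ C hC).1
      rw [hgC] at he
      simp only [extra] at he
      split_ifs at he with h3
      · omega
      · simp only [List.cons.injEq] at he
        omega
  have hsub : insert extra (C₁.image srt ∪ C₂.image g) ⊆
      (univ : Finset (Composition w)).image Composition.blocks := by
    intro l hl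
    rw [mem_image]
    suffices h : (∀ v ∈ l, 0 < v) ∧ l.sum = w from
      ⟨⟨l, fun {v} hv => h.1 v hv, h.2⟩, mem_univ _, rfl⟩
    rcases mem_insert.1 hl with rfl | hl
    · simp only [extra]
      split_ifs <;> simp <;> omega
    rcases mem_union.1 hl with h | h
    · obtain ⟨C, hC, rfl⟩ := mem_image.1 h
      exact ⟨hpos C (h₁ C hC).2, (hsum C).trans (h₁ C hC).1⟩
    · obtain ⟨C, hC, rfl⟩ := mem_image.1 h
      obtain ⟨a, l, hs, ha, hgC⟩ := hform C hC
      have h2 := (h₂ C hC).1
      have h3 := hsum C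
      rw [hs, List.sum_cons] at h3
      rw [hgC]
      refine ⟨?_, by simp only [List.sum_cons]; omega⟩
      simp only [List.mem_cons, forall_eq_or_imp]
      exact ⟨one_pos, by omega, fun v hv =>
        hpos C (h₂ C hC).2 v (by rw [hs]; exact List.mem_cons_of_mem _ hv)⟩
  have hcard := (card_le_card hsub).trans card_image_le
  rw [card_univ, composition_card, card_insert_of_notMem he₁, card_union_of_disjoint hd₁,
    card_image_of_injOn, card_image_of_injOn] at hcard
  · omega
  · intro C hC C' hC' h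
    obtain ⟨a, l, hs, ha, hgC⟩ := hform C hC
    obtain ⟨a', l', hs', ha', hgC'⟩ := hform C' hC'
    rw [hgC, hgC'] at h
    simp only [List.cons.injEq, true_and] at h
    have h2 := (h₂ C hC).1
    have h2' := (h₂ C' hC').1
    have hs'' : srt C = srt C' := by
      rw [hs, hs', h.2, show a = a' by omega]
    rw [hrec C (h₂ C hC).2, hrec C' (h₂ C' hC').2, hs'']
  · intro C hC C' hC' h
    rw [hrec C (h₁ C hC).2, hrec C' (h₁ C' hC').2]
    rw [show srt C = srt C' from h]

end CfsgLib.SymBlocks
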