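import Cfsg.Agent.SymBlocks.AltFamily
import Cfsg.Agent.Blocks.InvariantCover

/-!
# Elementary abelian subgroups of defect groups of alternating groups
-/

set_option autoImplicit false
set_option linter.style.haveILetI false

namespace CfsgLib.SymBlocks

open Finset Cfsg CfsgLib.Block CfsgLib.Char
open scoped ComplexConjugate

variable {N n p : ℕ} [hp : Fact p.Prime] {M : Ideal AlgInt} [M.IsPrime]

/-- A character does not vanish at some product of disjoint cycles, as many as its weight. -/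
theorem exists_cycles {r x : Fin N → ℕ} (hr : ∀ i, r i < p)
    (hstrict : ∀ i j, i < j → r i = r j → x i < x j) {χ : IrrCharacter (Equiv.Perm (Fin n))}
    (hχ : Expo n p r x χ) :
    ∃ (m : ℕ) (ε : Pts p (wt r x) m ≃ Fin n),
      (χ : Equiv.Perm (Fin n) → ℂ) (ε.permCongr (cyclesPerm p (wt r x) m)) ≠ 0 := by
  classical
  set w := wt r x with hw
  have hlow : ∀ i j, i < j → r i = r j → low r i < low r j := fun i j hij hrij => by
    rw [← rnk_eq_low hstrict, ← rnk_eq_low hstrict]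
    exact rnk_lt_rnk hrij (hstrict i j hij hrij)
  have hlinj := join_injective hr (runner_injective hlow)
  have hge := tri_le_sum hlinj
  have hsum : p * w + ∑ i, join p r (low r) i = tri N + n := by
    rw [← hχ.1, sum_join, sum_join, ← sum_low_le hstrict, mul_add]
    ring
  have hwn : p * w ≤ n := by omega
  refine ⟨n - p * w, Fintype.equivFinOfCardEq (by
      simp only [Fintype.card_sum, Fintype.card_prod, Fintype.card_fin, ZMod.card]
      rw [mul_comm w p]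
      omega), ?_⟩
  obtain ⟨c, hc, hval⟩ := chm_replicate_ne_zero hr (n - p * w) w x hstrict rfl
    (by rw [hχ.1]; omega)
  obtain ⟨e, he, hφ⟩ := hχ.2.2
  rw [hφ, Pi.smul_apply, smul_eq_mul, chi, parts_permCongr, parts_cyclesPerm, hval]
  exact mul_ne_zero he (Int.cast_ne_zero.2 (mul_ne_zero hc.ne' (deg_ne_zero hlinj (by omega))))

section Model

variable {w m : ℕ}

theorem mul_left_pow_eq_one (v : Multiplicative (Fin w → ZMod p)) : v ^ p = 1 := by
  refine Multiplicative.toAdd.injective (funext fun j => ?_)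
  simp

/-- The translations, moved to `Fin n`. -/
noncomputable def cyc' (ε : Pts p w m ≃ Fin n) :
    Multiplicative (Fin w → ZMod p) →* Equiv.Perm (Fin n) :=
  ε.permCongrHom.toMonoidHom.comp (shift p w m)

theorem cyc'_centralize (ε : Pts p w m ≃ Fin n) (v : Multiplicative (Fin w → ZMod p)) :
    Commute (cyc' ε v) (ε.permCongr (cyclesPerm p w m)) := by
  show ε.permCongrHom (shift p w m v) * ε.permCongrHom (cyclesPerm p w m) =
    ε.permCongrHom (cyclesPerm p w m) * ε.permCongrHom (shift p w m v)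
  rw [← map_mul, ← map_mul, shift_mem_centralizer]

theorem cyc'_normal (ε : Pts p w m ≃ Fin n) {c : Equiv.Perm (Fin n)}
    (hc : Commute c (ε.permCongr (cyclesPerm p w m))) (v : Multiplicative (Fin w → ZMod p)) :
    c * cyc' ε v * c⁻¹ ∈ (cyc' ε).range := by
  obtain ⟨c', rfl⟩ := ε.permCongrHom.surjective c
  have hcomm : Commute c' (cyclesPerm p w m) := ε.permCongrHom.injective (by
    rw [map_mul, map_mul]; exact hc)
  obtain ⟨v', hv'⟩ := conj_shift_mem hp.out.one_lt hcomm v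
  refine ⟨v', ?_⟩
  show ε.permCongrHom (shift p w m v') = _
  rw [hv', map_mul, map_mul, map_inv]
  rfl

theorem orderOf_cyc (ε : Pts p w m ≃ Fin n) :
    ∃ k, orderOf (ε.permCongr (cyclesPerm p w m)) = p ^ k := by
  obtain ⟨k, hk⟩ := orderOf_cyclesPerm (p := p) (w := w) (m := m)
  exact ⟨k, (MulEquiv.orderOf_eq ε.permCongrHom _).trans hk⟩

theorem sign_of_pow_odd {g : Equiv.Perm (Fin n)} {k : ℕ} (hk : Odd k) (h : g ^ k = 1) :
    g ∈ alternatingGroup (Fin n) := by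
  rw [Equiv.Perm.mem_alternatingGroup]
  have := congrArg Equiv.Perm.sign h
  rw [map_pow, map_one] at this
  rcases Int.units_eq_one_or (Equiv.Perm.sign g) with h | h
  · exact h
  · rw [h, hk.neg_one_pow] at this
    exact absurd this (by decide)

end Model

variable [Fintype (alternatingGroup (Fin n))]

local notation "𝕊" => Equiv.Perm (Fin n)
local notation "𝔸" => alternatingGroup (Fin n)

theorem mem_of_sign {g : 𝕊} (h : Equiv.Perm.sign g = 1) : g ∈ 𝔸 := h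

omit hp in
/-- An elementary abelian group moved into `D` is in the sectional rank. -/
theorem card_le_of_conj {q : ℕ} {D : Subgroup 𝔸} {s : ℕ} (hs : SectionalPRankLE q s D)
    {E : Subgroup 𝕊} (hcomm : ∀ a ∈ E, ∀ b ∈ E, a * b = b * a) (hexp : ∀ a ∈ E, a ^ q = 1) {t : 𝕊}
    (ht : ∀ e ∈ E, t * e * t⁻¹ ∈ D.map (Subgroup.subtype 𝔸)) : Nat.card E ≤ q ^ s := by
  have hA : ∀ e : E, t * (e : 𝕊) * t⁻¹ ∈ 𝔸 := fun e => by
    obtain ⟨d, -, hd⟩ := ht e e.2
    rw [← hd]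
    exact d.2
  set F : E →* 𝔸 := ((MulAut.conj t).toMonoidHom.comp E.subtype).codRestrict 𝔸 hA
  have hFinj : Function.Injective F := fun a b h =>
    Subtype.ext ((MulAut.conj t).injective (congrArg Subtype.val h))
  have hle : F.range ≤ D := by
    rintro _ ⟨e, rfl⟩
    obtain ⟨d, hd, hd'⟩ := ht e e.2
    rwa [show F e = d from Subtype.ext hd'.symm]
  have h := card_le_of_sectional hs hle ⟨⟨fun a b => ?_⟩⟩ fun a ha => ?_
  · rwa [← Nat.card_congr (MonoidHom.ofInjective hFinj).toEquiv] at h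
  · obtain ⟨_, v, rfl⟩ := a
    obtain ⟨_, v', rfl⟩ := b
    refine Subtype.ext ?_
    show F v * F v' = F v' * F v
    rw [← map_mul, ← map_mul, show v * v' = v' * v from Subtype.ext (hcomm v v.2 v' v'.2)]
  · obtain ⟨v, rfl⟩ := ha
    rw [← map_pow, show v ^ q = 1 from Subtype.ext (hexp v v.2), map_one]

/-- `p` odd: the translations of the cycles go into a defect group below. -/
theorem exists_conj_cyc_odd (hM : IsPModular p M) (hp2 : p ≠ 2) {b : Set (IrrCharacter 𝔸)}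
    (hb : IsPBlock M b) {D : Subgroup 𝔸} (hD : IsDefectGroup p M b D)
    {χ : IrrCharacter 𝕊} {θ : IrrCharacter 𝔸} (hθb : θ ∈ b)
    (hθ : classInner (altRes (χ : 𝕊 → ℂ)) (θ : 𝔸 → ℂ) ≠ 0) {w m : ℕ} (ε : Pts p w m ≃ Fin n)
    (hne : (χ : 𝕊 → ℂ) (ε.permCongr (cyclesPerm p w m)) ≠ 0) :
    ∃ t : 𝕊, ∀ v, t * cyc' ε v * t⁻¹ ∈ D.map (Subgroup.subtype 𝔸) := by
  classical
  set u := ε.permCongr (cyclesPerm p w m) with hu
  have hodd : Odd p := hp.out.odd_of_ne_two hp2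
  have huA : u ∈ 𝔸 := sign_of_pow_odd hodd (by
    show ε.permCongrHom (cyclesPerm p w m) ^ p = 1
    rw [← map_pow, cyclesPerm_pow_eq_one, map_one])
  obtain ⟨g, hg⟩ : ∃ g : 𝕊, (θ : 𝔸 → ℂ) ⟨g * u * g⁻¹, Subgroup.Normal.conj_mem inferInstance u huA g⟩ ≠ 0 := by
    by_contra hall
    push Not at hall
    refine hne ?_
    have h := congrFun (restrict_eq_smul_sum χ.2 θ.2 hθ) ⟨u, huA⟩
    simp only [Pi.smul_apply, Finset.sum_apply, smul_eq_mul] at h
    rw [h, sum_eq_zero, mul_zero]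
    intro ψ hψ
    obtain ⟨g, rfl⟩ := mem_conjOrbit.1 hψ
    exact hall g
  set x' : 𝔸 := ⟨g * u * g⁻¹, Subgroup.Normal.conj_mem inferInstance u huA g⟩ with hx'
  have hmem : ∀ v, ((MulAut.conj g).toMonoidHom.comp (cyc' ε)) v ∈ 𝔸 := fun v =>
    sign_of_pow_odd hodd (by rw [← map_pow, mul_left_pow_eq_one, map_one])
  set F : Multiplicative (Fin w → ZMod p) →* 𝔸 :=
    ((MulAut.conj g).toMonoidHom.comp (cyc' ε)).codRestrict 𝔸 hmem
  have hFinj : Function.Injective F := fun v v' h =>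
    shift_injective (ε.permCongrHom.injective
      ((MulAut.conj g).injective (congrArg Subtype.val h)))
  have hE : IsPGroup p F.range := fun y => ⟨1, by
    obtain ⟨_, v, rfl⟩ := y
    refine Subtype.ext ?_
    rw [SubmonoidClass.coe_pow, pow_one, ← map_pow, mul_left_pow_eq_one, map_one]
    rfl⟩
  obtain ⟨k, hk⟩ := orderOf_cyc ε
  have hord : orderOf x' = p ^ k := by
    rw [← hk, ← Subgroup.orderOf_coe]
    exact MulEquiv.orderOf_eq (MulAut.conj g) u
  obtain ⟨g', hg'⟩ := exists_conj_le_of_apply_ne_zero hM hb hθb hord hg hE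
    (by
      rintro _ ⟨v, rfl⟩
      rw [Subgroup.mem_centralizer_singleton_iff]
      refine Subtype.ext ?_
      show g * cyc' ε v * g⁻¹ * (g * u * g⁻¹) = g * u * g⁻¹ * (g * cyc' ε v * g⁻¹)
      have h := (cyc'_centralize ε v).eq
      rw [← hu] at h
      calc g * cyc' ε v * g⁻¹ * (g * u * g⁻¹) = g * (cyc' ε v * u) * g⁻¹ := by group
        _ = g * (u * cyc' ε v) * g⁻¹ := by rw [h]
        _ = _ := by group)
    (by
      rintro c hc _ ⟨v, rfl⟩
      rw [Subgroup.mem_centralizer_singleton_iff] at hc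
      have hc' : (c : 𝕊) * (g * u * g⁻¹) = g * u * g⁻¹ * c := congrArg Subtype.val hc
      have hcomm : Commute (g⁻¹ * c * g) u := by
        show g⁻¹ * c * g * u = u * (g⁻¹ * c * g)
        calc g⁻¹ * c * g * u = g⁻¹ * ((c : 𝕊) * (g * u * g⁻¹)) * g := by group
          _ = g⁻¹ * (g * u * g⁻¹ * c) * g := by rw [hc']
          _ = _ := by group
      obtain ⟨v', hv'⟩ := cyc'_normal ε hcomm v
      refine ⟨v', Subtype.ext ?_⟩
      show g * cyc' ε v' * g⁻¹ = c * (g * cyc' ε v * g⁻¹) * c⁻¹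
      rw [hv']
      simp only [Subgroup.coe_inv]
      group) hD
  refine ⟨(g' : 𝕊) * g, fun v => ⟨_, hg' ⟨F v, ⟨v, rfl⟩, rfl⟩, ?_⟩⟩
  show (g' : 𝕊) * (g * cyc' ε v * g⁻¹) * ((g' : 𝕊))⁻¹ = _
  group

/-- `p` odd: the order of the cycles is in the sectional rank. -/
theorem pow_wt_le_odd (hM : IsPModular p M) (hp2 : p ≠ 2) {b : Set (IrrCharacter 𝔸)}
    (hb : IsPBlock M b) {D : Subgroup 𝔸} (hD : IsDefectGroup p M b D) {s : ℕ}
    (hs : SectionalPRankLE p s D) {χ : IrrCharacter 𝕊} {θ : IrrCharacter 𝔸} (hθb : θ ∈ b)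
    (hθ : classInner (altRes (χ : 𝕊 → ℂ)) (θ : 𝔸 → ℂ) ≠ 0)
    {r x : Fin N → ℕ} (hr : ∀ i, r i < p) (hstrict : ∀ i j, i < j → r i = r j → x i < x j)
    (hχ : Expo n p r x χ) : p ^ wt r x ≤ p ^ s := by
  classical
  obtain ⟨m, ε, hne⟩ := exists_cycles hr hstrict hχ
  obtain ⟨t, ht⟩ := exists_conj_cyc_odd hM hp2 hb hD hθb hθ ε hne
  have h := card_le_of_conj hs (E := (cyc' ε).range) ?_ ?_ (t := t) ?_
  · rwa [← Nat.card_congr (MonoidHom.ofInjective (f := cyc' ε)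
      (ε.permCongrHom.injective.comp shift_injective)).toEquiv, Nat.card_eq_fintype_card,
      Fintype.card_multiplicative, Fintype.card_fun, ZMod.card, Fintype.card_fin] at h
  · rintro _ ⟨v, rfl⟩ _ ⟨v', rfl⟩
    rw [← map_mul, ← map_mul, mul_comm]
  · rintro _ ⟨v, rfl⟩
    rw [← map_pow, mul_left_pow_eq_one, map_one]
  · rintro _ ⟨v, rfl⟩
    exact ht v

/-- `p = 2`: an elementary abelian `2`-group of even permutations normal in the centralizer of a
`2`-element where a member does not vanish goes into a defect group below. -/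
theorem exists_conj_two {M : Ideal AlgInt} [M.IsPrime] (hM : IsPModular 2 M)
    {b : Set (IrrCharacter 𝔸)} (hb : IsPBlock M b) {D : Subgroup 𝔸}
    (hD : IsDefectGroup 2 M b D) {χ : IrrCharacter 𝕊} {θ : IrrCharacter 𝔸} (hθb : θ ∈ b)
    (hθ : classInner (altRes (χ : 𝕊 → ℂ)) (θ : 𝔸 → ℂ) ≠ 0)
    {u : 𝕊} {k : ℕ} (hu : orderOf u = 2 ^ k) (hne : (χ : 𝕊 → ℂ) u ≠ 0)
    {E : Subgroup 𝕊} (hEA : E ≤ 𝔸) (hE2 : ∀ e ∈ E, e ^ 2 = 1)
    (hEC : E ≤ Subgroup.centralizer ({u} : Set 𝕊))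
    (hEN : ∀ c ∈ Subgroup.centralizer ({u} : Set 𝕊), ∀ e ∈ E, c * e * c⁻¹ ∈ E) :
    ∃ t : 𝕊, ∀ e ∈ E, t * e * t⁻¹ ∈ D.map (Subgroup.subtype 𝔸) := by
  classical
  haveI : Fact (Nat.Prime 2) := ⟨Nat.prime_two⟩
  letI := Chr.irrFintype (G := 𝕊)
  letI := Chr.irrFintype (G := 𝔸)
  have hEp : IsPGroup 2 E := fun e => ⟨1, Subtype.ext (by simpa using hE2 e e.2)⟩
  have hB := isPBlock_blockOf (M := M) χ
  set B := blockOf M (χ : 𝕊 → ℂ) with hBdef
  obtain ⟨h, hhE, hh⟩ := exists_coeff_of_apply_ne_zero hM hB (mem_blockOf_self χ) hu hne hEp hEC hEN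
  -- associated characters share a block
  have hsgn : ∀ φ : IrrCharacter 𝕊, SameBlock M (φ : 𝕊 → ℂ) (sgnMul φ : 𝕊 → ℂ) := by
    intro φ g
    have hval : centralChar (sgnMul φ : 𝕊 → ℂ) g =
        ((Equiv.Perm.sign g : ℤ) : ℂ) * centralChar (φ : 𝕊 → ℂ) g := by
      rw [centralChar, centralChar, sgnMul_apply, sgnMul_apply, map_one, Units.val_one,
        Int.cast_one, one_mul]
      ring
    rw [hval]
    rcases Int.units_eq_one_or (Equiv.Perm.sign g) with hg | hg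
    · rw [hg]; simpa using memLocalIdeal_zero
    · rw [hg]
      have := memLocalIdeal_mul_right (memLocalIdeal_p hM) (centralChar_mem (M := M) φ g)
      push_cast at this ⊢
      rw [show centralChar (φ : 𝕊 → ℂ) g - -1 * centralChar (φ : 𝕊 → ℂ) g =
        2 * centralChar (φ : 𝕊 → ℂ) g by ring]
      exact this
  -- the two idempotents agree
  have hI := isIntClass_coverFun (G := 𝕊) hb
  have hiff : ∀ (φ : IrrCharacter 𝕊) (ψ : IrrCharacter 𝔸),
      classInner (altRes (φ : 𝕊 → ℂ)) (ψ : 𝔸 → ℂ) ≠ 0 →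
        (φ ∈ B ↔ ψ ∈ orbitUnion (G := 𝕊) b) := by
    intro φ ψ hψ
    refine ⟨fun hφ => mem_orbitUnion_of_covering hB hb (mem_blockOf_self χ) hφ hθb hθ hψ, ?_⟩
    rintro ⟨g, θ', hθ', he⟩
    have hθ'φ : classInner (altRes (φ : 𝕊 → ℂ)) (θ' : 𝔸 → ℂ) ≠ 0 := by
      have h1 := classInner_restrict_conjOn (N := 𝔸) (Chr.isClassFunction_irr φ) (θ' : 𝔸 → ℂ) g
      rw [← conjIrr_coe, ← he] at h1
      show classInner (fun a : 𝔸 => (φ : 𝕊 → ℂ) a) (θ' : 𝔸 → ℂ) ≠ 0
      rw [← h1]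
      exact hψ
    obtain ⟨φ', hφ', hθ''⟩ := exists_over_sameBlock (M := M) hθ (sameBlock_of_mem hb hθb hθ')
    rcases sameBlock_or_mul (M := M) Equiv.Perm.sign φ' φ (sgnMul φ) (sgnMul_apply φ)
        (fun a ha hs => by
          rw [omega_eq_of_constituent hθ'' ha.1 fun g hg => hs g hg,
            omega_eq_of_constituent hθ'φ ha.1 fun g hg => hs g hg, sub_self]
          exact memLocalIdeal_zero) with h1 | h1
    · exact sameBlock_trans hφ' h1
    · exact sameBlock_trans hφ' (sameBlock_trans h1 (sameBlock_symm (hsgn φ)))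
  have homega : ∀ φ : IrrCharacter 𝕊,
      omega (φ : 𝕊 → ℂ) (coverFun b) = omega (φ : 𝕊 → ℂ) (blockCoeff B) := by
    intro φ
    obtain ⟨ψ, hψ, hψc⟩ := exists_constituent_restrict (N := 𝔸) φ.2
    rw [omega_coverFun (θ := ⟨ψ, hψ⟩) hψc hb, omega_blockCoeff]
    exact if_congr (hiff φ ⟨ψ, hψ⟩ hψc).symm rfl rfl
  have hfun : coverFun b h = blockCoeff B h := by
    rw [eq_sum_omega hI.1, eq_sum_omega (isClassFunction_blockCoeff B)]
    simp only [homega]
  have hhA : h ∈ 𝔸 := by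
    by_contra hhA
    exact hh (hfun ▸ (coverFun_not_mem b hhA).symm ▸ memLocalIdeal_zero)
  rw [← hfun, coverFun, dif_pos hhA] at hh
  -- one of the conjugate blocks
  obtain ⟨g, hg⟩ : ∃ g : 𝕊, ¬ MemLocalIdeal M (blockCoeff b
      ⟨g * h * g⁻¹, Subgroup.Normal.conj_mem inferInstance h hhA g⟩) := by
    by_contra hall
    push Not at hall
    refine hh ?_
    set 𝔅 := (univ : Finset 𝕊).image fun g => b.toFinset.image (conjIrr (N := 𝔸) g) with h𝔅
    have hblk : ∀ g : 𝕊, ∀ φ ∈ b, ∀ ψ, ψ ∈ b.toFinset.image (conjIrr (N := 𝔸) g) ↔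
        SameBlock M (conjIrr (N := 𝔸) g φ : 𝔸 → ℂ) (ψ : 𝔸 → ℂ) := by
      intro g φ hφ ψ
      constructor
      · intro hψ
        obtain ⟨φ', hφ', rfl⟩ := mem_image.1 hψ
        exact sameBlock_conjIrr g (sameBlock_of_mem hb hφ (Set.mem_toFinset.1 hφ'))
      · intro hψ
        refine mem_image.2 ⟨conjIrr g⁻¹ ψ, Set.mem_toFinset.2 ((sameBlock_iff_mem hb hφ).2 ?_), ?_⟩
        · have h1 := sameBlock_conjIrr (M := M) g⁻¹ hψ
          rwa [show conjIrr g⁻¹ (conjIrr g φ) = φ from Subtype.ext (by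
            simp only [conjIrr_coe]; rw [conjOn_conjOn, mul_inv_cancel, conjOn_one])] at h1
        · exact Subtype.ext (by
            simp only [conjIrr_coe]; rw [conjOn_conjOn, inv_mul_cancel, conjOn_one])
    have hsplit : univ.filter (· ∈ orbitUnion (G := 𝕊) b) = 𝔅.biUnion id := by
      ext ψ
      simp only [mem_filter, mem_univ, true_and, mem_biUnion, h𝔅, mem_image, id]
      constructor
      · rintro ⟨g, θ', hθ', rfl⟩
        exact ⟨_, ⟨g, rfl⟩, mem_image.2 ⟨θ', Set.mem_toFinset.2 hθ', rfl⟩⟩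
      · rintro ⟨_, ⟨g, rfl⟩, hψ⟩
        obtain ⟨θ', hθ', rfl⟩ := mem_image.1 hψ
        exact ⟨g, θ', Set.mem_toFinset.1 hθ', rfl⟩
    have hdisj : (𝔅 : Set (Finset (IrrCharacter 𝔸))).PairwiseDisjoint id := by
      intro S hS S' hS' hne
      obtain ⟨g, -, rfl⟩ := mem_image.1 (mem_coe.1 hS)
      obtain ⟨g', -, rfl⟩ := mem_image.1 (mem_coe.1 hS')
      rw [Function.onFun, id, id, Finset.disjoint_left]
      intro ψ hψ hψ'
      refine hne (Finset.ext fun ζ => ?_)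
      have h1 := (hblk g θ hθb ψ).1 hψ
      have h2 := (hblk g' θ hθb ψ).1 hψ'
      rw [hblk g θ hθb, hblk g' θ hθb]
      exact ⟨fun h => sameBlock_trans (sameBlock_trans h2 (sameBlock_symm h1)) h,
        fun h => sameBlock_trans (sameBlock_trans h1 (sameBlock_symm h2)) h⟩
    rw [blockCoeff_eq_sum, hsplit, sum_biUnion hdisj, mul_sum]
    refine memLocalIdeal_sum fun S hS => ?_
    obtain ⟨g, -, rfl⟩ := mem_image.1 hS
    have := hall g
    rw [blockCoeff_eq_sum] at this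
    rw [id, sum_image fun φ _ φ' _ h => ?_]
    · convert this using 3 with φ hφ
      · ext φ; simp
      · rw [conjIrr_coe, conjOn_apply_one, conjOn_apply]
    · have h1 := congrArg (conjIrr g⁻¹) h
      rwa [show ∀ φ : IrrCharacter 𝔸, conjIrr g⁻¹ (conjIrr g φ) = φ from fun φ => Subtype.ext (by
        simp only [conjIrr_coe]; rw [conjOn_conjOn, mul_inv_cancel, conjOn_one]),
        show ∀ φ : IrrCharacter 𝔸, conjIrr g⁻¹ (conjIrr g φ) = φ from fun φ => Subtype.ext (by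
        simp only [conjIrr_coe]; rw [conjOn_conjOn, mul_inv_cancel, conjOn_one])] at h1
  -- transport
  have hmem : ∀ e : E, g * (e : 𝕊) * g⁻¹ ∈ 𝔸 := fun e =>
    Subgroup.Normal.conj_mem inferInstance (e : 𝕊) (hEA e.2) g
  set F : E →* 𝔸 := ((MulAut.conj g).toMonoidHom.comp E.subtype).codRestrict 𝔸 hmem
  have hFinj : Function.Injective F := fun e e' h =>
    Subtype.ext ((MulAut.conj g).injective (congrArg Subtype.val h))
  have hF2 : ∀ e : E, e ^ 2 = 1 := fun e => Subtype.ext (by simpa using hE2 e e.2)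
  have hFp : IsPGroup 2 F.range := fun y => ⟨1, by
    obtain ⟨_, v, rfl⟩ := y
    refine Subtype.ext ?_
    rw [SubmonoidClass.coe_pow, pow_one, ← map_pow, hF2, map_one]
    rfl⟩
  obtain ⟨g', hg'⟩ := exists_conj_le_defectGroup hM hb hD hg hFp (by
    rw [Subgroup.mem_centralizer_iff]
    rintro _ ⟨e, rfl⟩
    refine Subtype.ext ?_
    show g * (e : 𝕊) * g⁻¹ * (g * h * g⁻¹) = g * h * g⁻¹ * (g * (e : 𝕊) * g⁻¹)
    have h1 := Subgroup.mem_centralizer_iff.1 hhE e e.2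
    calc g * (e : 𝕊) * g⁻¹ * (g * h * g⁻¹) = g * ((e : 𝕊) * h) * g⁻¹ := by group
      _ = g * (h * e) * g⁻¹ := by rw [h1]
      _ = _ := by group)
  refine ⟨(g' : 𝕊) * g, fun e he => ⟨_, hg' ⟨F ⟨e, he⟩, ⟨_, rfl⟩, rfl⟩, ?_⟩⟩
  show (g' : 𝕊) * (g * e * g⁻¹) * ((g' : 𝕊))⁻¹ = _
  group

/-- `p = 2`: such a group is in the sectional rank. -/
theorem card_le_pow_two {M : Ideal AlgInt} [M.IsPrime] (hM : IsPModular 2 M)
    {b : Set (IrrCharacter 𝔸)} (hb : IsPBlock M b) {D : Subgroup 𝔸}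
    (hD : IsDefectGroup 2 M b D) {s : ℕ} (hs : SectionalPRankLE 2 s D)
    {χ : IrrCharacter 𝕊} {θ : IrrCharacter 𝔸} (hθb : θ ∈ b)
    (hθ : classInner (altRes (χ : 𝕊 → ℂ)) (θ : 𝔸 → ℂ) ≠ 0)
    {u : 𝕊} {k : ℕ} (hu : orderOf u = 2 ^ k) (hne : (χ : 𝕊 → ℂ) u ≠ 0)
    {E : Subgroup 𝕊} (hEA : E ≤ 𝔸) (hEc : IsMulCommutative E) (hE2 : ∀ e ∈ E, e ^ 2 = 1)
    (hEC : E ≤ Subgroup.centralizer ({u} : Set 𝕊))
    (hEN : ∀ c ∈ Subgroup.centralizer ({u} : Set 𝕊), ∀ e ∈ E, c * e * c⁻¹ ∈ E) :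
    Nat.card E ≤ 2 ^ s := by
  obtain ⟨t, ht⟩ := exists_conj_two hM hb hD hθb hθ hu hne hEA hE2 hEC hEN
  exact card_le_of_conj hs
    (fun a ha b hb => congrArg Subtype.val (hEc.is_comm.comm ⟨a, ha⟩ ⟨b, hb⟩)) hE2 ht

end CfsgLib.SymBlocks
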