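import Cfsg.Agent.SymBlocks.AltSpan
import Cfsg.Agent.SymBlocks.AltCount
import Cfsg.Agent.SymBlocks.AltRank

/-!
# The regular rank of a block of an alternating group and the rank of its defect group
-/

set_option autoImplicit false
set_option linter.style.haveILetI false

namespace CfsgLib.SymBlocks

open Finset Cfsg CfsgLib.Block CfsgLib.Char

section Klein

/-- The translations of `ZMod 2 × ZMod 2`, on the points of two transpositions. -/
def klein (m : ℕ) : Multiplicative (Fin 2 × ZMod 2) →* Equiv.Perm (Pts 2 2 m) where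
  toFun v := Equiv.sumCongr
    { toFun := fun z => (z.1 + v.toAdd.1, z.2 + v.toAdd.2)
      invFun := fun z => (z.1 - v.toAdd.1, z.2 - v.toAdd.2)
      left_inv := fun z => by simp
      right_inv := fun z => by simp } (Equiv.refl _)
  map_one' := Equiv.ext (by rintro (z | b) <;> simp)
  map_mul' v v' := Equiv.ext (by
    rintro (z | b)
    · simp [Equiv.Perm.mul_apply, add_comm, add_left_comm]
    · simp [Equiv.Perm.mul_apply])

variable {m : ℕ}

theorem klein_inl (v : Multiplicative (Fin 2 × ZMod 2)) (j : Fin 2) (a : ZMod 2) :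
    klein m v (Sum.inl (j, a)) = Sum.inl (j + v.toAdd.1, a + v.toAdd.2) := rfl

theorem klein_inr (v : Multiplicative (Fin 2 × ZMod 2)) (b : Fin m) :
    klein m v (Sum.inr b) = Sum.inr b := rfl

theorem klein_injective : Function.Injective (klein m) := by
  intro v v' h
  refine Multiplicative.toAdd.injective ?_
  have := congrArg (fun g : Equiv.Perm (Pts 2 2 m) => g (Sum.inl (0, 0))) h
  simp only [klein_inl, zero_add, Sum.inl.injEq] at this
  exact this

theorem sign_klein (v : Multiplicative (Fin 2 × ZMod 2)) : Equiv.Perm.sign (klein m v) = 1 := by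
  have h : ∀ (a : Fin 2) (b : ZMod 2), Equiv.Perm.sign
      ((Equiv.prodCongr (Equiv.addRight a) (Equiv.addRight b) : Equiv.Perm (Fin 2 × ZMod 2))) = 1 := by
    decide
  rw [show klein m v = Equiv.Perm.sumCongr
      (Equiv.prodCongr (Equiv.addRight (v.toAdd.1)) (Equiv.addRight (v.toAdd.2)))
      (1 : Equiv.Perm (Fin m)) from Equiv.ext (by rintro (z | b) <;> rfl),
    Equiv.Perm.sign_sumCongr, h, map_one, mul_one]

theorem klein_sq : ∀ v : Multiplicative (Fin 2 × ZMod 2), v ^ 2 = 1 := by decide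

theorem klein_commute (v : Multiplicative (Fin 2 × ZMod 2)) :
    Commute (klein m v) (cyclesPerm 2 2 m) := by
  refine Equiv.ext ?_
  rintro (⟨j, a⟩ | b)
  · simp only [Equiv.Perm.mul_apply, cyclesPerm_inl, klein_inl, add_right_comm]
  · simp only [Equiv.Perm.mul_apply, cyclesPerm_inr, klein_inr]

theorem conj_klein_mem {g : Equiv.Perm (Pts 2 2 m)} (hg : Commute g (cyclesPerm 2 2 m))
    (v : Multiplicative (Fin 2 × ZMod 2)) : g * klein m v * g⁻¹ ∈ (klein m).range := by
  have hc : ∀ z, g (cyclesPerm 2 2 m z) = cyclesPerm 2 2 m (g z) := fun z =>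
    congrArg (fun q : Equiv.Perm (Pts 2 2 m) => q z) hg.eq
  have hl : ∀ j, ∃ k b, g (Sum.inl (j, 0)) = Sum.inl (k, b) := fun j => by
    rcases hh : g (Sum.inl (j, 0)) with ⟨k, b⟩ | b
    · exact ⟨k, b, rfl⟩
    · have h1 := hc (Sum.inl (j, 0))
      rw [hh, cyclesPerm_inr, cyclesPerm_inl, ← hh] at h1
      simpa using g.injective h1
  have hr : ∀ b, ∃ b', g (Sum.inr b) = Sum.inr b' := fun b => by
    rcases hh : g (Sum.inr b) with ⟨k, a⟩ | b'
    · have h1 := hc (Sum.inr b)
      rw [hh, cyclesPerm_inr, cyclesPerm_inl, hh] at h1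
      simp at h1
    · exact ⟨b', rfl⟩
  choose π s hπ using hl
  have hj : ∀ j a, g (Sum.inl (j, a)) = Sum.inl (π j, s j + a) := by
    intro j a
    fin_cases a
    · show g (Sum.inl (j, 0)) = Sum.inl (π j, s j + 0)
      rw [add_zero]; exact hπ j
    · have h1 := hc (Sum.inl (j, 0))
      rw [cyclesPerm_inl, hπ, cyclesPerm_inl, zero_add] at h1
      exact h1
  have hπne : π 0 ≠ π 1 := by
    intro h
    have h1 := hj 0 0
    have h2 := hj 1 (s 0 - s 1)
    rw [← h, show s 1 + (s 0 - s 1) = s 0 + 0 by abel, ← h1] at h2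
    have h3 := g.injective h2
    simp at h3
  have aff : ∀ P : Fin 2 → Fin 2, P 0 ≠ P 1 → ∀ j d, P (j + d) = P j + d := by decide
  have shf : ∀ (S : Fin 2 → ZMod 2) (j d : Fin 2), S (j + d) = S j + (if d = 0 then 0 else S 0 + S 1) := by
    decide
  refine ⟨Multiplicative.ofAdd (v.toAdd.1,
    v.toAdd.2 + if v.toAdd.1 = 0 then 0 else s 0 + s 1), Equiv.ext ?_⟩
  intro z
  obtain ⟨y, rfl⟩ := g.surjective z
  rw [Equiv.Perm.mul_apply, Equiv.Perm.mul_apply, Equiv.Perm.inv_def, Equiv.symm_apply_apply]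
  rcases y with ⟨j, a⟩ | b
  · rw [hj, klein_inl, klein_inl, hj, toAdd_ofAdd]
    simp only [Sum.inl.injEq, Prod.mk.injEq]
    refine ⟨(aff π hπne _ _).symm, ?_⟩
    rw [shf s j v.toAdd.1]
    abel_nf
  · obtain ⟨b', hb'⟩ := hr b
    rw [hb', klein_inr, klein_inr, hb']

end Klein

variable {n p : ℕ} [hp : Fact p.Prime]

theorem exists_constituent_above (θ : IrrCharacter (alternatingGroup (Fin n)))
    [Fintype (alternatingGroup (Fin n))] :
    ∃ χ : IrrCharacter (Equiv.Perm (Fin n)),
      classInner (altRes (χ : Equiv.Perm (Fin n) → ℂ)) (θ : alternatingGroup (Fin n) → ℂ) ≠ 0 := by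
  obtain ⟨f, hf, h⟩ := DegreesPrime.exists_over (alternatingGroup (Fin n)) θ.2
  exact ⟨⟨f, hf⟩, h⟩

/-- `l(b) < p ^ s`. -/
theorem alt_blockRank_lt (M : Ideal AlgInt) (hM : IsPModular p M)
    (b : Set (IrrCharacter (alternatingGroup (Fin n)))) (hb : IsPBlock M b)
    (D : Subgroup (alternatingGroup (Fin n))) (hD : IsDefectGroup p M b D) (hD1 : D ≠ ⊥) (s : ℕ)
    (hs : SectionalPRankLE p s D) : blockRank p b < p ^ s := by
  classical
  haveI : M.IsPrime := hM.2.1.isPrime
  haveI : Fintype (alternatingGroup (Fin n)) := Fintype.ofFinite _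
  have hp2 := hp.out.two_le
  have hs1 : p ≤ p ^ s := by
    have := Nat.pow_le_pow_right hp.out.pos (one_le_of_sectional (isPGroup_defectGroup hD) hD1 hs)
    rwa [pow_one] at this
  obtain ⟨θ, hθb⟩ := exists_mem_block hb
  obtain ⟨χ, hθ⟩ := exists_constituent_above θ
  obtain ⟨r, x, hr, hstrict, hχ⟩ := exists_expo (N := p * n) hp.out.pos le_mul_self_prime χ
  by_cases hw1 : wt r x ≤ 1
  · exact (alt_blockRank_lt_of_small hM hb hD hD1 hθb hθ hr hχ hw1).trans_le hs1
  obtain ⟨C₁, C₂, hle, h₁, h₂⟩ := alt_blockRank_le hM hb hθb hθ hr hχ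
  -- the two sets of codes are apart
  have hL : ∀ C ∈ C₂, 0 < (C.map Prod.snd).sum ∧ (C.map Prod.snd).sum < wt r x := by
    intro C hC
    obtain ⟨-, u, hu, huu, -⟩ := h₂ C hC
    refine ⟨by omega, ?_⟩
    by_contra hge
    have : wt r x * u ≤ u * u := Nat.mul_le_mul_right u (by omega)
    have : 2 * u ≤ wt r x * u := Nat.mul_le_mul_right u (by omega)
    omega
  have hgen : blockRank p b < p ^ wt r x := by
    refine lt_of_le_of_lt (hle.trans (le_of_eq (card_union_of_disjoint ?_).symm))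
      (card_lt_pow hp.out.pos (C₁ ∪ C₂) fun C hC => ?_)
    · rw [Finset.disjoint_left]
      intro C hC hC'
      have := (hL C hC').2
      have := (h₁ C hC).1
      omega
    rcases mem_union.1 hC with h | h
    · exact ⟨(h₁ C h).2, by rw [(h₁ C h).1]; omega, le_of_eq (h₁ C h).1⟩
    · refine ⟨fun q hq => ?_, (hL C h).1, (hL C h).2.le⟩
      obtain ⟨h3, h4, h5⟩ := (h₂ C h).1 q hq
      exact ⟨h3, h4, by omega⟩
  by_cases hpe : p = 2
  swap
  · exact hgen.trans_le (pow_wt_le_odd hM hpe hb hD hs hθb hθ hr hstrict hχ)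
  subst hpe
  obtain ⟨m, ε, hne⟩ := exists_cycles hr hstrict hχ
  obtain ⟨k, hk⟩ := orderOf_cyc ε
  by_cases hw2 : wt r x = 2
  · rw [hw2] at hgen
    refine hgen.trans_le ?_
    revert hne hk ε
    rw [hw2]
    intro ε hne hk
    set G := ε.permCongrHom.toMonoidHom.comp (klein m) with hG
    have h := card_le_pow_two hM hb hD hs hθb hθ hk hne (E := G.range) ?_ ⟨⟨?_⟩⟩ ?_ ?_ ?_
    · rw [← Nat.card_congr (MonoidHom.ofInjective (f := G)
        (ε.permCongrHom.injective.comp klein_injective)).toEquiv, Nat.card_eq_fintype_card,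
        Fintype.card_multiplicative, Fintype.card_prod, ZMod.card, Fintype.card_fin] at h
      exact h
    · rintro _ ⟨v, rfl⟩
      show Equiv.Perm.sign (ε.permCongr (klein m v)) = 1
      rw [Equiv.Perm.sign_permCongr, sign_klein]
    · rintro ⟨_, v, rfl⟩ ⟨_, v', rfl⟩
      exact Subtype.ext (by show G v * G v' = G v' * G v; rw [← map_mul, ← map_mul, mul_comm])
    · rintro _ ⟨v, rfl⟩
      rw [← map_pow, klein_sq, map_one]
    · rintro _ ⟨v, rfl⟩
      rw [Subgroup.mem_centralizer_singleton_iff]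
      show ε.permCongrHom (klein m v) * ε.permCongrHom (cyclesPerm 2 2 m) =
        ε.permCongrHom (cyclesPerm 2 2 m) * ε.permCongrHom (klein m v)
      rw [← map_mul, ← map_mul, (klein_commute v).eq]
    · rintro c hc _ ⟨v, rfl⟩
      rw [Subgroup.mem_centralizer_singleton_iff] at hc
      obtain ⟨c', rfl⟩ := ε.permCongrHom.surjective c
      obtain ⟨v', hv'⟩ := conj_klein_mem (g := c')
        (ε.permCongrHom.injective (by rw [map_mul, map_mul]; exact hc)) v
      refine ⟨v', ?_⟩
      show ε.permCongrHom (klein m v') = _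
      rw [hv', map_mul, map_mul, map_inv]
      rfl
  -- weight at least three
  have h2w : blockRank 2 b < 2 ^ (wt r x - 1) := by
    refine hle.trans_lt (card_add_card_lt_two_pow (by omega) C₁ C₂ (fun C hC => ?_) fun C hC => ?_)
    · refine ⟨(h₁ C hC).1, fun q hq => ?_⟩
      obtain ⟨h3, h4, h5⟩ := (h₁ C hC).2 q hq
      exact ⟨by omega, h4⟩
    · obtain ⟨hq, u, hu, -, hu1⟩ := h₂ C hC
      have hu0 : u = 0 := by
        by_contra hne0
        obtain ⟨q, -, hq'⟩ := hu1 (Nat.pos_of_ne_zero hne0)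
        omega
      refine ⟨by omega, fun q hq' => ?_⟩
      obtain ⟨h3, h4, h5⟩ := hq q hq'
      exact ⟨by omega, h4⟩
  refine h2w.trans_le ?_
  set R := (cyc' ε).range with hR
  have hcard : Nat.card R = 2 ^ wt r x := by
    rw [← Nat.card_congr (MonoidHom.ofInjective (f := cyc' ε)
      (ε.permCongrHom.injective.comp shift_injective)).toEquiv, Nat.card_eq_fintype_card,
      Fintype.card_multiplicative, Fintype.card_fun, ZMod.card, Fintype.card_fin]
  have hidx : (alternatingGroup (Fin n)).relIndex R ≤ 2 :=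
    (Subgroup.relIndex_le_of_le_right (le_top : R ≤ ⊤)
      (by rw [Subgroup.relIndex_top_right]; exact Subgroup.index_ne_zero_of_finite)).trans
        (by rw [Subgroup.relIndex_top_right]; exact index_alternating_le n)
  have hmul : Nat.card (alternatingGroup (Fin n) ⊓ R : Subgroup _) *
      (alternatingGroup (Fin n)).relIndex R = Nat.card R := by
    rw [← Subgroup.inf_relIndex_right, Subgroup.relIndex,
      ← Nat.card_congr (Subgroup.subgroupOfEquivOfLe
        (inf_le_right : alternatingGroup (Fin n) ⊓ R ≤ R)).toEquiv]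
    exact Subgroup.card_mul_index _
  have h := card_le_pow_two hM hb hD hs hθb hθ hk hne (E := alternatingGroup (Fin n) ⊓ R)
    inf_le_left ⟨⟨?_⟩⟩ ?_ ?_ ?_
  · have h3 : 2 ^ wt r x ≤ 2 ^ s * 2 := by
      rw [← hcard, ← hmul]
      exact Nat.mul_le_mul h hidx
    have h4 : 2 ^ wt r x = 2 ^ (wt r x - 1) * 2 := by
      rw [← pow_succ]; congr 1; omega
    omega
  · rintro ⟨a, ha⟩ ⟨a', ha'⟩
    obtain ⟨v, rfl⟩ := (inf_le_right : alternatingGroup (Fin n) ⊓ R ≤ R) ha
    obtain ⟨v', rfl⟩ := (inf_le_right : alternatingGroup (Fin n) ⊓ R ≤ R) ha'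
    exact Subtype.ext (by show cyc' ε v * cyc' ε v' = _; rw [← map_mul, mul_comm v v', map_mul]; rfl)
  · rintro a ⟨-, v, rfl⟩
    rw [← map_pow, mul_left_pow_eq_one, map_one]
  · rintro a ⟨-, v, rfl⟩
    exact Subgroup.mem_centralizer_singleton_iff.2 (cyc'_centralize ε v).eq
  · rintro c hc a ⟨ha, v, rfl⟩
    exact ⟨Subgroup.Normal.conj_mem inferInstance _ ha c,
      cyc'_normal ε (Subgroup.mem_centralizer_singleton_iff.1 hc) v⟩

end CfsgLib.SymBlocks
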