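import Cfsg.Agent.SymBlocks.Cycles
import Cfsg.Agent.Char.Clifford
import Cfsg.Agent.Blocks.CharExtra
import Mathlib.Analysis.SpecialFunctions.Complex.CircleAddChar
import Mathlib.GroupTheory.SpecificGroups.Alternating
import Mathlib.GroupTheory.IndexNormal
import Mathlib.GroupTheory.Sylow

/-!
# Sylow subgroups of the symmetric and alternating groups of degree `p * w`

They have characters of degree `p` once they are not commutative.
-/

set_option autoImplicit false
set_option linter.style.haveILetI false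

namespace CfsgLib.SymBlocks

open Finset Cfsg CfsgLib.Block CfsgLib.Char

section Generic

variable {G : Type} [Group G] [Finite G] {p : ℕ} [hp : Fact p.Prime]

/-- A linear character of a normal subgroup of index `p` moved by the group gives degree `p`. -/
theorem exists_irr_degree (M : Subgroup G) [M.Normal] (hM : M.index = p)
    (lam : M →* Multiplicative (ZMod p)) (x : G) (m : M)
    (h : lam ⟨x * m * x⁻¹, Subgroup.Normal.conj_mem inferInstance _ m.2 x⟩ ≠ lam m) :
    ∃ φ : IrrCharacter G, charDegree (φ : G → ℂ) = p := by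
  classical
  haveI := Fintype.ofFinite G
  haveI : Fintype M := Fintype.ofFinite _
  haveI : NeZero p := ⟨hp.out.ne_zero⟩
  set ψ : M →* ℂˣ := MonoidHom.toHomUnits
    ((ZMod.stdAddChar (N := p)).toMonoidHom.comp lam) with hψ
  have hψv : ∀ a : M, (ψ a : ℂ) = ZMod.stdAddChar (Multiplicative.toAdd (lam a)) := fun a => rfl
  set θ : M → ℂ := fun a => (ψ a : ℂ) with hθ
  have hirr : IsIrrCharacter M θ := isIrrCharacter_ofHom ψ
  have hle : inertia (G := G) θ ≤ M := by
    have hge : M ≤ inertia (G := G) θ := le_inertia (IsIrrCharacter.isClassFunction hirr)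
    have hdvd := Subgroup.index_dvd_of_le hge
    rw [hM] at hdvd
    rcases (Nat.dvd_prime hp.out).1 hdvd with h1 | h1
    · exfalso
      rw [Subgroup.index_eq_one] at h1
      have hx : x ∈ inertia (G := G) θ := h1 ▸ Subgroup.mem_top x
      have := congrFun ((mem_inertia θ x).1 hx) m
      rw [conjOn_apply, hθ] at this
      simp only [hψv] at this
      exact h (Multiplicative.toAdd.injective (ZMod.injective_stdAddChar this))
    · have := Subgroup.relIndex_mul_index hge
      rw [h1, hM] at this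
      exact Subgroup.relIndex_eq_one.1 (by
        have hp0 := hp.out.pos
        exact Nat.eq_of_mul_eq_mul_right hp0 (by rw [one_mul]; exact this))
  refine ⟨⟨indFun M θ, isIrrCharacter_indFun_of_inertia_le hirr hle⟩, ?_⟩
  have h1 : indFun M θ 1 = (p : ℂ) := by
    rw [indFun_one, hM, hθ]
    simp
  show ⌊(indFun M θ 1).re⌋₊ = p
  rw [h1, Complex.natCast_re, Nat.floor_natCast]

/-- Characters of degree `p` pass to preimages. -/
theorem exists_irr_degree_of_surjective {H : Type} [Group H] (f : G →* H)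
    (hf : Function.Surjective f) {d : ℕ} (h : ∃ φ : IrrCharacter H, charDegree (φ : H → ℂ) = d) :
    ∃ φ : IrrCharacter G, charDegree (φ : G → ℂ) = d := by
  obtain ⟨φ, hφ⟩ := h
  refine ⟨⟨fun g => (φ : H → ℂ) (f g), IsIrrCharacter.comp_surjective φ.2 f hf⟩, ?_⟩
  rw [← hφ]
  show ⌊((φ : H → ℂ) (f 1)).re⌋₊ = _
  rw [map_one]
  rfl

/-- A proper point stabilizer lies in a normal subgroup of index `p`. -/
theorem exists_block_split {X : Type} [MulAction G X] (hG : IsPGroup p G) {j : X}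
    (hj : ∃ t : G, t • j ≠ j) :
    ∃ (T₁ : Subgroup G) (S : Set X), T₁.Normal ∧ T₁.index = p ∧ j ∈ S ∧
      (∀ t ∈ T₁, ∀ i ∈ S, t • i ∈ S) ∧ (∀ t, t ∉ T₁ → t • j ∉ S) ∧
      ∀ i ∈ S, ∃ t : G, t • j = i := by
  obtain ⟨a, ha⟩ := IsPGroup.iff_card.1 hG
  obtain ⟨k, hk⟩ := IsPGroup.iff_card.1 (hG.to_subgroup (MulAction.stabilizer G j))
  have hne : MulAction.stabilizer G j ≠ ⊤ := fun e => by
    obtain ⟨t, ht⟩ := hj
    exact ht (MulAction.mem_stabilizer_iff.1 (e ▸ Subgroup.mem_top t))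
  have hka : k < a := by
    by_contra hle
    refine hne (Subgroup.eq_top_of_le_card _ ?_)
    rw [ha, hk]
    exact Nat.pow_le_pow_right hp.out.pos (not_lt.1 hle)
  obtain ⟨T₁, hT₁, hle⟩ := Sylow.exists_subgroup_card_pow_prime_le p (n := k) (m := a - 1)
    (by rw [ha]; exact pow_dvd_pow p (by omega)) (MulAction.stabilizer G j) hk (by omega)
  have hidx : T₁.index = p := by
    have h := T₁.card_mul_index
    rw [hT₁, ha, show a = a - 1 + 1 by omega, pow_succ, show a - 1 + 1 - 1 = a - 1 by omega] at h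
    exact Nat.eq_of_mul_eq_mul_left (pow_pos hp.out.pos _) h
  refine ⟨T₁, {i | ∃ t ∈ T₁, t • j = i}, Subgroup.normal_of_index_eq_minFac_card (by
      rw [hidx, ha, Nat.Prime.pow_minFac hp.out (by omega)]), hidx, ⟨1, T₁.one_mem, one_smul _ _⟩,
    fun t ht i ⟨t', ht', e⟩ => ⟨t * t', T₁.mul_mem ht ht', by rw [mul_smul, e]⟩, ?_,
    fun i ⟨t, _, e⟩ => ⟨t, e⟩⟩
  rintro t ht ⟨t', ht', e⟩
  refine ht ?_
  have h1 : t'⁻¹ * t ∈ T₁ := hle (MulAction.mem_stabilizer_iff.2 (by
    rw [mul_smul, ← e, inv_smul_smul]))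
  have := T₁.mul_mem ht' h1
  rwa [mul_inv_cancel_left] at this

end Generic

variable {p w : ℕ} [hp : Fact p.Prime]

/-- The permutation by `τ` of the cycles followed by the translations `v`. -/
def wmk (τ : Equiv.Perm (Fin w)) (v : Fin w → ZMod p) : Equiv.Perm (Fin w × ZMod p) where
  toFun z := (τ z.1, z.2 + v z.1)
  invFun z := (τ.symm z.1, z.2 - v (τ.symm z.1))
  left_inv z := by simp
  right_inv z := by simp

theorem wmk_apply (τ : Equiv.Perm (Fin w)) (v : Fin w → ZMod p) (j : Fin w) (a : ZMod p) :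
    wmk τ v (j, a) = (τ j, a + v j) := rfl

theorem wmk_mul (τ τ' : Equiv.Perm (Fin w)) (v v' : Fin w → ZMod p) :
    wmk τ v * wmk τ' v' = wmk (τ * τ') (fun j => v' j + v (τ' j)) := by
  refine Equiv.ext ?_
  rintro ⟨j, a⟩
  simp [Equiv.Perm.mul_apply, wmk_apply, add_assoc]

theorem wmk_one : wmk (1 : Equiv.Perm (Fin w)) (0 : Fin w → ZMod p) = 1 := by
  refine Equiv.ext ?_
  rintro ⟨j, a⟩
  simp [wmk_apply]

theorem wmk_inj {τ τ' : Equiv.Perm (Fin w)} {v v' : Fin w → ZMod p} (h : wmk τ v = wmk τ' v') :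
    τ = τ' ∧ v = v' := by
  have h1 := fun j => congrArg (fun q : Equiv.Perm (Fin w × ZMod p) => q (j, 0)) h
  simp only [wmk_apply, zero_add, Prod.mk.injEq] at h1
  exact ⟨Equiv.ext fun j => (h1 j).1, funext fun j => (h1 j).2⟩

/-- The wreath product of the cyclic group by a permutation group of the cycles. -/
def wreath (p : ℕ) [Fact p.Prime] (T : Subgroup (Equiv.Perm (Fin w))) :
    Subgroup (Equiv.Perm (Fin w × ZMod p)) where
  carrier := {g | ∃ τ ∈ T, ∃ v : Fin w → ZMod p, g = wmk τ v}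
  mul_mem' := by
    rintro _ _ ⟨τ, hτ, v, rfl⟩ ⟨τ', hτ', v', rfl⟩
    exact ⟨τ * τ', T.mul_mem hτ hτ', _, wmk_mul τ τ' v v'⟩
  one_mem' := ⟨1, T.one_mem, 0, wmk_one.symm⟩
  inv_mem' := by
    rintro _ ⟨τ, hτ, v, rfl⟩
    refine ⟨τ⁻¹, T.inv_mem hτ, fun j => -v (τ⁻¹ j), inv_eq_of_mul_eq_one_right ?_⟩
    rw [wmk_mul, mul_inv_cancel, ← wmk_one]
    simp
    rfl

variable {T : Subgroup (Equiv.Perm (Fin w))}

theorem wmk_mem {τ : Equiv.Perm (Fin w)} (hτ : τ ∈ T) (v : Fin w → ZMod p) :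
    wmk τ v ∈ wreath p T := ⟨τ, hτ, v, rfl⟩

theorem card_wreath : Nat.card (wreath p T) = Nat.card T * p ^ w := by
  have hbij : Function.Bijective (fun q : T × (Fin w → ZMod p) =>
      (⟨wmk q.1.1 q.2, wmk_mem q.1.2 q.2⟩ : wreath p T)) := by
    constructor
    · intro q q' h
      obtain ⟨h1, h2⟩ := wmk_inj (congrArg Subtype.val h)
      exact Prod.ext (Subtype.ext h1) h2
    · rintro ⟨_, τ, hτ, v, rfl⟩
      exact ⟨(⟨τ, hτ⟩, v), rfl⟩
  rw [← Nat.card_eq_of_bijective _ hbij, Nat.card_prod, Nat.card_fun, Nat.card_zmod, Nat.card_fin]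

theorem isPGroup_wreath (hT : IsPGroup p T) : IsPGroup p (wreath p T) := by
  obtain ⟨a, ha⟩ := IsPGroup.iff_card.1 hT
  exact IsPGroup.of_card (n := a + w) (by rw [card_wreath, ha, pow_add])

/-- The action on the cycles. -/
theorem exists_proj {P : Subgroup (Equiv.Perm (Fin w × ZMod p))} (hP : P ≤ wreath p T) :
    ∃ π : P →* T, ∀ g : P, ∃ v, (g : Equiv.Perm (Fin w × ZMod p)) = wmk (π g : Equiv.Perm (Fin w)) v := by
  have h : ∀ g : P, ∃ τ : T, ∃ v, (g : Equiv.Perm (Fin w × ZMod p)) = wmk τ.1 v := fun g => by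
    obtain ⟨τ, hτ, v, hv⟩ := hP g.2
    exact ⟨⟨τ, hτ⟩, v, hv⟩
  choose π v hv using h
  refine ⟨MonoidHom.mk' π fun a b => ?_, fun g => ⟨v g, hv g⟩⟩
  have h1 := hv (a * b)
  rw [Subgroup.coe_mul, hv a, hv b, wmk_mul] at h1
  exact Subtype.ext (wmk_inj h1).1.symm

/-- Enough of the wreath product has a character of degree `p`. -/
theorem exists_deg_of_wreath (hT : IsPGroup p T) {P : Subgroup (Equiv.Perm (Fin w × ZMod p))}
    (hP : P ≤ wreath p T) (hlift : ∀ τ ∈ T, wmk τ (0 : Fin w → ZMod p) ∈ P) {j₀ : Fin w} {τ₀ : T}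
    (hτ₀ : τ₀.1 j₀ ≠ j₀) {v₀ : Fin w → ZMod p}
    (hv₀ : wmk (1 : Equiv.Perm (Fin w)) v₀ ∈ P) (hj : v₀ j₀ = 1)
    (hoff : ∀ i, i ≠ j₀ → (∃ τ : T, τ.1 j₀ = i) → v₀ i = 0) :
    ∃ φ : IrrCharacter P, charDegree (φ : P → ℂ) = p := by
  classical
  obtain ⟨T₁, S, hT₁n, hidx, hjS, hinv, hout, hreach⟩ :=
    exists_block_split (G := T) hT (j := j₀) ⟨τ₀, hτ₀⟩
  obtain ⟨π, hπ⟩ := exists_proj (T := T) hP
  have hπlift : ∀ τ : T, π ⟨wmk τ.1 0, hlift τ.1 τ.2⟩ = τ := fun τ => by
    obtain ⟨v, hv⟩ := hπ ⟨wmk τ.1 0, hlift τ.1 τ.2⟩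
    exact Subtype.ext (wmk_inj hv).1.symm
  have hπsurj : Function.Surjective π := fun τ => ⟨_, hπlift τ⟩
  haveI : (T₁.comap π).Normal := hT₁n.comap π
  set Sf : Finset (Fin w) := univ.filter (· ∈ S) with hSf
  have hlam : ∀ a b : T₁.comap π, ∑ j ∈ Sf, ((((a * b : T₁.comap π) : P) :
      Equiv.Perm (Fin w × ZMod p)) (j, 0)).2 =
      ∑ j ∈ Sf, (((a : P) : Equiv.Perm (Fin w × ZMod p)) (j, 0)).2 +
        ∑ j ∈ Sf, (((b : P) : Equiv.Perm (Fin w × ZMod p)) (j, 0)).2 := by
    intro a b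
    obtain ⟨v, hv⟩ := hπ (a : P)
    obtain ⟨v', hv'⟩ := hπ (b : P)
    simp only [Subgroup.coe_mul, hv, hv', wmk_mul, wmk_apply, zero_add, sum_add_distrib]
    rw [add_comm]
    congr 1
    have hperm : ∀ i, i ∈ Sf ↔ (π (b : P)).1 i ∈ Sf := fun i => by
      simp only [hSf, mem_filter, mem_univ, true_and]
      refine ⟨fun h => hinv _ b.2 i h, fun h => ?_⟩
      have := hinv _ (T₁.inv_mem b.2) _ h
      rwa [show (π (b : P))⁻¹ • (π (b : P)).1 i = i from Equiv.symm_apply_apply _ _] at this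
    exact sum_equiv (π (b : P)).1 hperm fun i _ => rfl
  set lam : T₁.comap π →* Multiplicative (ZMod p) := MonoidHom.mk'
    (fun a => Multiplicative.ofAdd (∑ j ∈ Sf, (((a : P) : Equiv.Perm (Fin w × ZMod p)) (j, 0)).2))
    (fun a b => by rw [hlam, ofAdd_add]) with hlamdef
  obtain ⟨τ, hτ⟩ : ∃ τ : T, τ ∉ T₁ := by
    by_contra hall
    push Not at hall
    have := hidx
    rw [show T₁ = ⊤ from (Subgroup.eq_top_iff' _).2 hall, Subgroup.index_top] at this
    exact hp.out.ne_one this.symm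
  have hm : π ⟨wmk 1 v₀, hv₀⟩ = 1 := by
    obtain ⟨v, hv⟩ := hπ ⟨wmk 1 v₀, hv₀⟩
    exact Subtype.ext (wmk_inj hv).1.symm
  refine exists_irr_degree (T₁.comap π) (by rw [T₁.index_comap_of_surjective hπsurj, hidx]) lam
    ⟨wmk τ.1 0, hlift τ.1 τ.2⟩ ⟨⟨wmk 1 v₀, hv₀⟩, by rw [Subgroup.mem_comap, hm]; exact T₁.one_mem⟩ ?_
  have hinvw : (wmk τ.1 (0 : Fin w → ZMod p))⁻¹ = wmk τ.1⁻¹ 0 := inv_eq_of_mul_eq_one_right (by
    rw [wmk_mul, mul_inv_cancel, ← wmk_one]
    simp
    rfl)
  have hconj : wmk τ.1 (0 : Fin w → ZMod p) * wmk 1 v₀ * (wmk τ.1 (0 : Fin w → ZMod p))⁻¹ =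
      wmk 1 fun j => v₀ (τ.1⁻¹ j) := by
    rw [hinvw, wmk_mul, wmk_mul]
    simp
  simp only [hlamdef, MonoidHom.mk'_apply, Subgroup.coe_mul, Subgroup.coe_inv, hconj, wmk_apply,
    zero_add]
  intro h
  have h1 := Multiplicative.ofAdd.injective h
  rw [sum_eq_single j₀ (s := Sf) (f := v₀) (fun i hi hne => hoff i hne (hreach i (mem_filter.1 hi).2))
    (fun h => absurd (mem_filter.2 ⟨mem_univ _, hjS⟩) h), hj, sum_eq_zero] at h1
  · exact one_ne_zero h1.symm
  intro i hi
  have hiS := (mem_filter.1 hi).2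
  refine hoff _ ?_ ?_
  · intro e
    refine hout τ hτ ?_
    show τ.1 j₀ ∈ S
    rw [← e, ← Equiv.Perm.mul_apply, mul_inv_cancel]
    exact hiS
  · obtain ⟨t, ht⟩ := hreach i hiS
    refine ⟨τ⁻¹ * t, ?_⟩
    show τ.1⁻¹ (t.1 j₀) = _
    rw [show t.1 j₀ = i from ht]

/-- A group of order the `p`-part moving a point. -/
theorem exists_moved (hw : p ≤ w) (hTc : Nat.card T = p ^ w.factorial.factorization p) :
    ∃ (j : Fin w) (τ : T), τ.1 j ≠ j := by
  by_contra h
  push Not at h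
  haveI : Subsingleton T := ⟨fun a b => Subtype.ext (Equiv.ext fun j => by rw [h j a, h j b])⟩
  have h1 := Nat.card_of_subsingleton (1 : T)
  rw [hTc, Nat.pow_eq_one] at h1
  exact ((hp.out.dvd_iff_one_le_factorization (Nat.factorial_ne_zero w)).1
    (Nat.dvd_factorial hp.out.pos hw)).not_gt (by
      rcases h1 with h1 | h1
      · exact absurd h1 hp.out.ne_one
      · omega)

theorem factorization_mul_factorial (p w : ℕ) (hp : p.Prime) :
    (p * w).factorial.factorization p = w + w.factorial.factorization p := by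
  haveI := Fact.mk hp
  rw [Nat.factorization_def _ hp, Nat.factorization_def _ hp, padicValNat_factorial_mul, add_comm]

theorem exists_sylow_perm (p w : ℕ) [Fact p.Prime] :
    ∃ T : Subgroup (Equiv.Perm (Fin w)), IsPGroup p T ∧
      Nat.card T = p ^ w.factorial.factorization p := by
  obtain ⟨S⟩ : Nonempty (Sylow p (Equiv.Perm (Fin w))) := inferInstance
  refine ⟨S, S.isPGroup', ?_⟩
  rw [S.card_eq_multiplicity, Nat.card_perm, Nat.card_fin]

/-- The Sylow subgroups of the symmetric group of degree `p * w`. -/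
theorem exists_deg_sylow_perm {w : ℕ} (hw : p ≤ w) {X : Type} [Fintype X] [DecidableEq X]
    (hX : Fintype.card X = p * w) {Q : Subgroup (Equiv.Perm X)} (hQ : IsPGroup p Q)
    (hQc : Nat.card Q = p ^ (p * w).factorial.factorization p) :
    ∃ φ : IrrCharacter Q, charDegree (φ : Q → ℂ) = p := by
  classical
  haveI : NeZero p := ⟨hp.out.ne_zero⟩
  obtain ⟨T, hT, hTc⟩ := exists_sylow_perm p w
  obtain ⟨j, τ, hτ⟩ := exists_moved hw hTc
  obtain ⟨φ, hφ⟩ := exists_deg_of_wreath (p := p) hT (le_refl (wreath p T)) (fun τ hτ => wmk_mem hτ 0)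
    hτ (v₀ := Pi.single j 1) (wmk_mem T.one_mem _) (Pi.single_eq_same j 1)
    (fun i hi _ => Pi.single_eq_of_ne hi 1)
  set e : (Fin w × ZMod p) ≃ X := Fintype.equivOfCardEq (by
    rw [Fintype.card_prod, Fintype.card_fin, ZMod.card, hX, mul_comm])
  set W := (wreath p T).map e.permCongrHom.toMonoidHom
  have hWc : Nat.card W = p ^ (p * w).factorial.factorization p := by
    rw [Subgroup.card_map_of_injective e.permCongrHom.injective, card_wreath, hTc,
      factorization_mul_factorial p w hp.out, pow_add, mul_comm]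
  have hXf : p ^ (Nat.card (Equiv.Perm X)).factorization p = p ^ (p * w).factorial.factorization p := by
    rw [Nat.card_perm, Nat.card_eq_fintype_card, hX]
  let SW : Sylow p (Equiv.Perm X) := Sylow.ofCard W (hWc.trans hXf.symm)
  let SQ : Sylow p (Equiv.Perm X) := Sylow.ofCard Q (hQc.trans hXf.symm)
  let f : Q ≃* wreath p T := (Sylow.equiv SQ SW).trans
    ((wreath p T).equivMapOfInjective _ e.permCongrHom.injective).symm
  exact exists_irr_degree_of_surjective f.toMonoidHom f.surjective ⟨φ, hφ⟩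

/-- The Sylow subgroups of the alternating group of degree `p * w`. -/
theorem exists_deg_sylow_alt {w : ℕ} (hw : p ≤ w) (hw3 : 3 ≤ w) :
    ∃ P : Subgroup (Equiv.Perm (Fin w × ZMod p)), P ≤ alternatingGroup _ ∧ IsPGroup p P ∧
      p ^ (p * w).factorial.factorization p ≤ Nat.card P * (if p = 2 then 2 else 1) ∧
      ∃ φ : IrrCharacter P, charDegree (φ : P → ℂ) = p := by
  classical
  haveI : NeZero p := ⟨hp.out.ne_zero⟩
  obtain ⟨T, hT, hTc⟩ := exists_sylow_perm p w
  obtain ⟨j, τ, hτ⟩ := exists_moved hw hTc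
  have hWc : Nat.card (wreath p T) = p ^ (p * w).factorial.factorization p := by
    rw [card_wreath, hTc, factorization_mul_factorial p w hp.out, pow_add, mul_comm]
  have hWp := isPGroup_wreath (p := p) hT
  by_cases h2 : p = 2
  swap
  · have hle : wreath p T ≤ alternatingGroup (Fin w × ZMod p) := by
      intro g hg
      obtain ⟨k, hk⟩ := hWp ⟨g, hg⟩
      have hk' : g ^ p ^ k = 1 := congrArg Subtype.val hk
      have := congrArg Equiv.Perm.sign hk'
      rw [map_pow, map_one] at this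
      rcases Int.units_eq_one_or (Equiv.Perm.sign g) with h | h
      · exact h
      · rw [h, ((hp.out.odd_of_ne_two h2).pow).neg_one_pow] at this
        exact absurd this (by decide)
    refine ⟨wreath p T, hle, hWp, ?_, ?_⟩
    · rw [if_neg h2, mul_one, hWc]
    exact exists_deg_of_wreath (p := p) hT le_rfl (fun τ hτ => wmk_mem hτ 0) hτ
      (v₀ := Pi.single j 1) (wmk_mem T.one_mem _) (Pi.single_eq_same j 1)
      (fun i hi _ => Pi.single_eq_of_ne hi 1)
  subst h2
  set P := alternatingGroup (Fin w × ZMod 2) ⊓ wreath 2 T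
  have hlift : ∀ τ ∈ T, wmk τ (0 : Fin w → ZMod 2) ∈ P := by
    intro τ hτ
    refine ⟨?_, wmk_mem hτ 0⟩
    show Equiv.Perm.sign (wmk τ (0 : Fin w → ZMod 2)) = 1
    rw [show wmk τ (0 : Fin w → ZMod 2) = Equiv.prodCongrLeft (fun _ : ZMod 2 => τ) from Equiv.ext (by
      rintro ⟨i, a⟩; simp [wmk_apply]), Equiv.Perm.sign_prodCongrLeft, prod_const, card_univ, ZMod.card]
    exact Int.units_sq _
  have hPp : IsPGroup 2 P := hWp.to_le inf_le_right
  refine ⟨P, inf_le_left, hPp, ?_, ?_⟩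
  · have hidx : (alternatingGroup (Fin w × ZMod 2)).relIndex (wreath 2 T) ≤ 2 :=
      (Subgroup.relIndex_le_of_le_right (le_top : wreath 2 T ≤ ⊤)
        (by rw [Subgroup.relIndex_top_right]; exact Subgroup.index_ne_zero_of_finite)).trans (by
          rw [Subgroup.relIndex_top_right]
          rcases subsingleton_or_nontrivial (Fin w × ZMod 2) with h | h
          · rw [show alternatingGroup (Fin w × ZMod 2) = ⊤ from Subgroup.ext fun g => by
              simp [Subsingleton.elim g 1]]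
            simp
          · exact le_of_eq alternatingGroup.index_eq_two)
    have hmul : Nat.card P * (alternatingGroup (Fin w × ZMod 2)).relIndex (wreath 2 T) =
        Nat.card (wreath 2 T) := by
      rw [← Subgroup.inf_relIndex_right, Subgroup.relIndex,
        ← Nat.card_congr (Subgroup.subgroupOfEquivOfLe (inf_le_right : P ≤ wreath 2 T)).toEquiv]
      exact Subgroup.card_mul_index _
    rw [if_pos rfl, ← hWc, ← hmul]
    exact Nat.mul_le_mul_left _ hidx
  by_cases hall : ∀ i, ∃ t : T, t.1 j = i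
  · obtain ⟨w', hw'⟩ : 2 ∣ w := by
      have horb : MulAction.orbit T j = Set.univ := Set.eq_univ_of_forall fun i => by
        obtain ⟨t, ht⟩ := hall i
        exact ⟨t, ht⟩
      obtain ⟨a, ha⟩ := hT.card_orbit j
      rw [horb, Nat.card_univ, Nat.card_fin] at ha
      rcases Nat.eq_zero_or_pos a with h0 | h0
      · rw [h0] at ha; omega
      · rw [ha]; exact dvd_pow_self 2 h0.ne'
    obtain ⟨π, hπ⟩ := exists_proj (T := T) (inf_le_right : P ≤ wreath 2 T)
    refine exists_irr_degree_of_surjective π (fun t => ⟨⟨_, hlift t.1 t.2⟩, ?_⟩) ?_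
    · obtain ⟨v, hv⟩ := hπ ⟨_, hlift t.1 t.2⟩
      exact Subtype.ext (wmk_inj hv).1.symm
    exact exists_deg_sylow_perm (w := w') (by omega) (by rw [Fintype.card_fin]; omega) hT
      (by rw [← hw']; exact hTc)
  · push Not at hall
    obtain ⟨k, hk⟩ := hall
    have hkj : j ≠ k := fun e => hk 1 (by simpa using e)
    have hs : ∀ i, wmk (1 : Equiv.Perm (Fin w)) (Pi.single i (1 : ZMod 2)) =
        Equiv.swap (i, (0 : ZMod 2)) (i, 1) := by
      intro i
      refine Equiv.ext ?_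
      rintro ⟨l, a⟩
      by_cases hl : l = i
      · subst hl
        rcases (show ∀ b : ZMod 2, b = 0 ∨ b = 1 from fun b => by
          fin_cases b
          exacts [Or.inl rfl, Or.inr rfl]) a with rfl | rfl
        · rw [wmk_apply, Pi.single_eq_same, zero_add, Equiv.swap_apply_left]
          rfl
        · rw [wmk_apply, Pi.single_eq_same, Equiv.swap_apply_right]
          rfl
      · rw [wmk_apply, Pi.single_eq_of_ne hl, add_zero, Equiv.Perm.one_apply,
          Equiv.swap_apply_of_ne_of_ne (fun e => hl (Prod.ext_iff.1 e).1)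
            (fun e => hl (Prod.ext_iff.1 e).1)]
    refine exists_deg_of_wreath (p := 2) hT inf_le_right hlift hτ
      (v₀ := (Pi.single j (1 : ZMod 2) : Fin w → ZMod 2) + Pi.single k 1) ⟨?_, wmk_mem T.one_mem _⟩ ?_ ?_
    · show Equiv.Perm.sign (wmk (1 : Equiv.Perm (Fin w))
        ((Pi.single j (1 : ZMod 2) : Fin w → ZMod 2) + Pi.single k 1)) = 1
      rw [show wmk (1 : Equiv.Perm (Fin w)) ((Pi.single j (1 : ZMod 2) : Fin w → ZMod 2) + Pi.single k 1) =
        wmk 1 (Pi.single k 1) * wmk 1 (Pi.single j 1) by rw [wmk_mul, mul_one]; rfl, map_mul, hs, hs,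
        Equiv.Perm.sign_swap (by simp), Equiv.Perm.sign_swap (by simp)]
      rfl
    · rw [Pi.add_apply, Pi.single_eq_same, Pi.single_eq_of_ne hkj, add_zero]
    · intro i hi ⟨t, ht⟩
      rw [Pi.add_apply, Pi.single_eq_of_ne hi, Pi.single_eq_of_ne (fun e => hk t (ht.trans e)),
        add_zero]

end CfsgLib.SymBlocks
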