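import Cfsg.Agent.SymBlocks.AltHeights
import Cfsg.Agent.SymBlocks.WreathSylow
import Cfsg.Agent.Blocks.BlockCount

/-!
# Defect groups of blocks of alternating groups
-/

set_option autoImplicit false
set_option linter.style.haveILetI false

namespace CfsgLib.SymBlocks

open Finset Cfsg CfsgLib.Block CfsgLib.Char

variable {n p w m : ℕ} [hp : Fact p.Prime]

section Fixed

variable (ε : Pts p w m ≃ Fin n)

/-- The translation of one cycle. -/
noncomputable def unitVec (i : Fin w) : Multiplicative (Fin w → ZMod p) :=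
  Multiplicative.ofAdd (Pi.single i 1)

theorem cyc'_inl (v : Multiplicative (Fin w → ZMod p)) (i : Fin w) (a : ZMod p) :
    cyc' ε v (ε (Sum.inl (i, a))) = ε (Sum.inl (i, a + v.toAdd i)) := by
  show ε.permCongr (shift p w m v) _ = _
  rw [Equiv.permCongr_apply, Equiv.symm_apply_apply, shift_inl]

theorem cyc'_inr (v : Multiplicative (Fin w → ZMod p)) (q : Fin m) :
    cyc' ε v (ε (Sum.inr q)) = ε (Sum.inr q) := by
  show ε.permCongr (shift p w m v) _ = _
  rw [Equiv.permCongr_apply, Equiv.symm_apply_apply, shift_inr]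

theorem cyc'_ones :
    cyc' ε (Multiplicative.ofAdd fun _ => 1) = ε.permCongr (cyclesPerm p w m) := by
  refine Equiv.ext fun z => ?_
  obtain ⟨z, rfl⟩ := ε.surjective z
  rcases z with ⟨i, a⟩ | q
  · rw [cyc'_inl, Equiv.permCongr_apply, Equiv.symm_apply_apply, cyclesPerm_inl]; rfl
  · rw [cyc'_inr, Equiv.permCongr_apply, Equiv.symm_apply_apply, cyclesPerm_inr]

/-- A permutation commuting with the translations keeps the moved points together. -/
theorem image_of_commute {g : Equiv.Perm (Fin n)} {v : Multiplicative (Fin w → ZMod p)}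
    (h : Commute g (cyc' ε v)) {i : Fin w} (hi : v.toAdd i ≠ 0) (a : ZMod p) :
    ∃ j b, v.toAdd j ≠ 0 ∧ g (ε (Sum.inl (i, a))) = ε (Sum.inl (j, b)) := by
  obtain ⟨z, hz⟩ := ε.surjective (g (ε (Sum.inl (i, a))))
  have hfix : cyc' ε v (ε z) = ε z → False := fun h1 => by
    have h2 : g (cyc' ε v (ε (Sum.inl (i, a)))) = g (ε (Sum.inl (i, a))) := by
      rw [← hz, ← Equiv.Perm.mul_apply, h.eq, Equiv.Perm.mul_apply, ← hz]
      exact h1
    have h3 := g.injective h2
    rw [cyc'_inl] at h3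
    exact hi (by simpa using ε.injective h3)
  rcases z with ⟨j, b⟩ | q
  · exact ⟨j, b, fun h0 => hfix (by rw [cyc'_inl, h0, add_zero]), hz.symm⟩
  · exact absurd (cyc'_inr ε v q) hfix

/-- `p` odd, or any `p`: commuting with every translation. -/
theorem mem_incl_range_of_commute {g : Equiv.Perm (Fin n)} (hreg : ¬ p ∣ orderOf g)
    (hg : ∀ v, Commute g (cyc' ε v)) : g ∈ (incl ε).range := by
  refine mem_incl_range_of_preserves ε (by rw [← cyc'_ones]; exact hg _) hreg fun i a => ?_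
  obtain ⟨j, b, hj, hb⟩ := image_of_commute ε (hg (unitVec i))
    (i := i) (by simp [unitVec]) a
  by_cases h : j = i
  · exact ⟨b, by rw [hb, h]⟩
  · exact absurd (by simp [unitVec, h]) hj

end Fixed

section Two

variable {ε : Pts 2 w m ≃ Fin n}

theorem sign_unitVec (i : Fin w) :
    Equiv.Perm.sign (cyc' ε (unitVec (p := 2) i)) = -1 := by
  have h : cyc' ε (unitVec (p := 2) i) =
      Equiv.swap (ε (Sum.inl (i, 0))) (ε (Sum.inl (i, 1))) := by
    refine Equiv.ext fun z => ?_
    obtain ⟨z, rfl⟩ := ε.surjective z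
    rcases z with ⟨j, a⟩ | q
    · by_cases hj : j = i
      · subst hj
        rw [cyc'_inl]
        obtain rfl | rfl : a = 0 ∨ a = 1 := by
          fin_cases a
          exacts [Or.inl rfl, Or.inr rfl]
        · simp [unitVec]
        · rw [Equiv.swap_apply_right]
          simp [unitVec]
          rfl
      · rw [cyc'_inl, Equiv.swap_apply_of_ne_of_ne (by simp [hj]) (by simp [hj])]
        simp [unitVec, hj]
    · rw [cyc'_inr, Equiv.swap_apply_of_ne_of_ne (by simp) (by simp)]
  rw [h, Equiv.Perm.sign_swap (by simp)]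

/-- `p = 2`: commuting with the even translations, of at least three cycles. -/
theorem mem_incl_range_of_commute_even (hw : 3 ≤ w) {g : Equiv.Perm (Fin n)}
    (hreg : ¬ 2 ∣ orderOf g)
    (hg : ∀ v, cyc' ε v ∈ alternatingGroup (Fin n) → Commute g (cyc' ε v)) :
    g ∈ (incl ε).range := by
  classical
  have hpres : ∀ i a, ∃ b, g (ε (Sum.inl (i, a))) = ε (Sum.inl (i, b)) := by
    intro i a
    obtain ⟨k, -, hk⟩ := exists_mem_notMem_of_card_lt_card
      (s := ({i} : Finset (Fin w))) (t := univ) (by rw [card_singleton, card_univ, Fintype.card_fin]; omega)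
    obtain ⟨l, -, hl⟩ := exists_mem_notMem_of_card_lt_card
      (s := ({i, k} : Finset (Fin w))) (t := univ) (by
        have := card_le_two (a := i) (b := k)
        rw [card_univ, Fintype.card_fin]; omega)
    simp only [mem_singleton, mem_insert, not_or] at hk hl
    have hev : ∀ q, q ≠ i → ∀ j, (unitVec (p := 2) i * unitVec q).toAdd j ≠ 0 → j = i ∨ j = q := by
      intro q _ j hj
      by_contra hne
      simp only [not_or] at hne
      exact hj (by simp [unitVec, hne.1, hne.2])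
    have himg : ∀ q, q ≠ i → ∃ j b, (j = i ∨ j = q) ∧ g (ε (Sum.inl (i, a))) = ε (Sum.inl (j, b)) := by
      intro q hq
      obtain ⟨j, b, hj, hb⟩ := image_of_commute ε (hg (unitVec (p := 2) i * unitVec q) (by
          rw [Equiv.Perm.mem_alternatingGroup, map_mul, map_mul, sign_unitVec, sign_unitVec]
          rfl))
        (i := i) (by simp [unitVec, hq.symm]) a
      exact ⟨j, b, hev q hq j hj, hb⟩
    obtain ⟨j, b, hj, hb⟩ := himg k hk
    obtain ⟨j', b', hj', hb'⟩ := himg l hl.1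
    have hjj : j = j' ∧ b = b' := by simpa using ε.injective (hb.symm.trans hb')
    rcases hj with rfl | rfl
    · exact ⟨b, hb⟩
    · exfalso
      rcases hj' with h | h
      · exact hk (hjj.1.trans h)
      · exact hl.2 ((hjj.1.trans h).symm)
  rw [mem_incl_range]
  rintro ⟨i, a⟩
  have hsq : ∀ a, g (g (ε (Sum.inl (i, a)))) = ε (Sum.inl (i, a)) := by
    intro a
    obtain ⟨b, hb⟩ := hpres i a
    obtain ⟨c, hc⟩ := hpres i b
    rw [hb, hc]
    by_cases hba : b = a
    · subst hba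
      rw [hb] at hc
      exact hc.symm
    · have hcb : c ≠ b := fun e => hba (by
        subst e
        simpa using ε.injective (g.injective (hc.trans hb.symm)))
      have h3 : ∀ a b c : ZMod 2, b ≠ a → c ≠ b → c = a := by decide
      rw [h3 a b c hba hcb]
  obtain ⟨k, hk⟩ := Nat.odd_iff.2 (Nat.two_dvd_ne_zero.1 hreg)
  have hfix : ∀ k : ℕ, ((g * g) ^ k) (ε (Sum.inl (i, a))) = ε (Sum.inl (i, a)) := by
    intro k
    induction k with
    | zero => rfl
    | succ k ih => rw [pow_succ', Equiv.Perm.mul_apply, ih, Equiv.Perm.mul_apply, hsq]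
  have hgk : (g * g) ^ (k + 1) = g := by
    rw [← sq, ← pow_mul, show 2 * (k + 1) = orderOf g + 1 by omega, pow_succ, pow_orderOf_eq_one,
      one_mul]
  have := hfix (k + 1)
  rwa [hgk] at this

end Two

section Groups

local notation "𝕊" => Equiv.Perm (Fin n)
local notation "𝔸" => alternatingGroup (Fin n)

variable [Fintype (alternatingGroup (Fin n))] {M : Ideal AlgInt} [M.IsPrime]
  {b : Set (IrrCharacter (alternatingGroup (Fin n)))} {D : Subgroup (alternatingGroup (Fin n))}

/-- Over `p ^ w` with the translations inside. -/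
theorem isMulCommutative_of_card_le (hM : IsPModular p M) (hp2 : p ≠ 2) (hb : IsPBlock M b)
    (hD : IsDefectGroup p M b D) {χ : IrrCharacter 𝕊} {θ : IrrCharacter 𝔸} (hθb : θ ∈ b)
    (hθ : classInner (altRes (χ : 𝕊 → ℂ)) (θ : 𝔸 → ℂ) ≠ 0) (ε : Pts p w m ≃ Fin n)
    (hne : (χ : 𝕊 → ℂ) (ε.permCongr (cyclesPerm p w m)) ≠ 0) (hbd : blockDefect p b ≤ w) :
    IsMulCommutative D := by
  obtain ⟨t, ht⟩ := exists_conj_cyc_odd hM hp2 hb hD hθb hθ ε hne
  set F := (MulAut.conj t).toMonoidHom.comp (cyc' ε) with hF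
  have hinj : Function.Injective F := (MulAut.conj t).injective.comp
    (ε.permCongrHom.injective.comp shift_injective)
  have hle : F.range ≤ D.map (Subgroup.subtype 𝔸) := by
    rintro _ ⟨v, rfl⟩
    exact ht v
  have heq : F.range = D.map (Subgroup.subtype 𝔸) := Subgroup.eq_of_le_of_card_ge hle (by
    rw [Subgroup.card_map_of_injective (Subgroup.subtype_injective 𝔸), card_defectGroup hM hb hD,
      ← Nat.card_congr (MonoidHom.ofInjective hinj).toEquiv, Nat.card_eq_fintype_card,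
      Fintype.card_multiplicative, Fintype.card_fun, ZMod.card, Fintype.card_fin]
    exact Nat.pow_le_pow_right hp.out.pos hbd)
  refine ⟨⟨fun a c => ?_⟩⟩
  obtain ⟨v, hv⟩ := (heq.symm ▸ Subgroup.mem_map_of_mem _ a.2 : (a : 𝔸).1 ∈ F.range)
  obtain ⟨v', hv'⟩ := (heq.symm ▸ Subgroup.mem_map_of_mem _ c.2 : (c : 𝔸).1 ∈ F.range)
  refine Subtype.ext (Subtype.ext ?_)
  show (a : 𝔸).1 * (c : 𝔸).1 = (c : 𝔸).1 * (a : 𝔸).1
  rw [← hv, ← hv', ← map_mul, ← map_mul, mul_comm]

/-- Defect at most two at `p = 2`. -/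
theorem isMulCommutative_of_defect_le_two (hM : IsPModular p M) (hb : IsPBlock M b)
    (hD : IsDefectGroup p M b D) (hbd : blockDefect p b ≤ 2) : IsMulCommutative D := by
  have hcard := card_defectGroup hM hb hD
  interval_cases hbd' : blockDefect p b
  · haveI : Subsingleton D := (Nat.card_eq_one_iff_unique.1 (by rw [hcard, pow_zero])).1
    exact ⟨⟨fun a c => Subsingleton.elim _ _⟩⟩
  · haveI : IsCyclic D := isCyclic_of_prime_card (p := p) (by rw [hcard, pow_one])
    exact ⟨⟨fun a c => IsCyclic.commGroup.mul_comm a c⟩⟩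
  · exact ⟨⟨fun a c => (IsPGroup.isMulCommutative_of_card_eq_prime_sq hcard).is_comm.comm a c⟩⟩

/-- At larger weight a defect group is a Sylow subgroup of a smaller alternating group. -/
theorem exists_deg_defectGroup (hM : IsPModular p M) (hb : IsPBlock M b)
    (hD : IsDefectGroup p M b D) {χ : IrrCharacter 𝕊} {θ : IrrCharacter 𝔸} (hθb : θ ∈ b)
    (hθ : classInner (altRes (χ : 𝕊 → ℂ)) (θ : 𝔸 → ℂ) ≠ 0) (ε : Pts p w m ≃ Fin n)
    (hne : (χ : 𝕊 → ℂ) (ε.permCongr (cyclesPerm p w m)) ≠ 0) (hw : p ≤ w) (hw3 : 3 ≤ w)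
    (hbd : blockDefect p b + (if p = 2 then 1 else 0) = (p * w).factorial.factorization p) :
    ∃ φ : IrrCharacter D, charDegree (φ : D → ℂ) = p := by
  classical
  obtain ⟨y, hy, S, hS⟩ := hD
  have hD' : IsDefectGroup p M b D := ⟨y, hy, S, hS⟩
  have hyD : ∀ d ∈ D.map (Subgroup.subtype 𝔸), Commute d (y : 𝕊) := by
    rintro _ ⟨d, hd, rfl⟩
    rw [hS] at hd
    obtain ⟨c, -, rfl⟩ := hd
    exact congrArg Subtype.val (Subgroup.mem_centralizer_singleton_iff.1 c.2)
  obtain ⟨t, π, hπ⟩ : ∃ (t : 𝕊) (π : Equiv.Perm (Fin m)), incl ε π = t⁻¹ * (y : 𝕊) * t := by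
    have hreg : ∀ t : 𝕊, ¬ p ∣ orderOf (t⁻¹ * (y : 𝕊) * t) := fun t => by
      rw [show t⁻¹ * (y : 𝕊) * t = MulAut.conj t⁻¹ (y : 𝕊) by simp, MulEquiv.orderOf_eq,
        Subgroup.orderOf_coe]
      exact defectClass_regular hM hb hy
    have hcom : ∀ (t e : 𝕊), t * e * t⁻¹ ∈ D.map (Subgroup.subtype 𝔸) →
        Commute (t⁻¹ * (y : 𝕊) * t) e := fun t e h => by
      have h1 := (hyD _ h).eq
      show t⁻¹ * (y : 𝕊) * t * e = e * (t⁻¹ * (y : 𝕊) * t)
      calc t⁻¹ * (y : 𝕊) * t * e = t⁻¹ * ((y : 𝕊) * (t * e * t⁻¹)) * t := by group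
        _ = t⁻¹ * (t * e * t⁻¹ * (y : 𝕊)) * t := by rw [h1]
        _ = _ := by group
    by_cases hp2 : p = 2
    · subst hp2
      obtain ⟨k, hk⟩ := orderOf_cyc ε
      obtain ⟨t, ht⟩ := exists_conj_two hM hb hD' hθb hθ hk hne (E := 𝔸 ⊓ (cyc' ε).range)
        inf_le_left
        (by rintro a ⟨-, v, rfl⟩; rw [← map_pow, mul_left_pow_eq_one, map_one])
        (by rintro a ⟨-, v, rfl⟩; exact Subgroup.mem_centralizer_singleton_iff.2 (cyc'_centralize ε v).eq)
        (by
          rintro c hc a ⟨ha, v, rfl⟩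
          exact ⟨Subgroup.Normal.conj_mem inferInstance _ ha c,
            cyc'_normal ε (Subgroup.mem_centralizer_singleton_iff.1 hc) v⟩)
      obtain ⟨π, hπ⟩ := mem_incl_range_of_commute_even hw3 (hreg t)
        fun v hv => hcom t _ (ht _ ⟨hv, v, rfl⟩)
      exact ⟨t, π, hπ⟩
    · obtain ⟨t, ht⟩ := exists_conj_cyc_odd hM hp2 hb hD' hθb hθ ε hne
      obtain ⟨π, hπ⟩ := mem_incl_range_of_commute ε (hreg t) fun v => hcom t _ (ht v)
      exact ⟨t, π, hπ⟩
  -- the alternating group on the cycles centralizes `y`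
  obtain ⟨P, hPA, hP, hPc, φ, hφ⟩ := exists_deg_sylow_alt (p := p) hw hw3
  set J : Equiv.Perm (Fin w × ZMod p) →* 𝕊 := (MulAut.conj t).toMonoidHom.comp
    (ε.permCongrHom.toMonoidHom.comp
      ((Equiv.Perm.sumCongrHom (Fin w × ZMod p) (Fin m)).comp (MonoidHom.inl _ _))) with hJ
  have hJinj : Function.Injective J := fun a c h => by
    have h1 := Equiv.Perm.sumCongrHom_injective (ε.permCongrHom.injective ((MulAut.conj t).injective h))
    exact (Prod.ext_iff.1 h1).1
  have hJA : ∀ q : P, J q ∈ 𝔸 := fun q => by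
    have hq : Equiv.Perm.sign (q : Equiv.Perm (Fin w × ZMod p)) = 1 := hPA q.2
    show Equiv.Perm.sign (t * ε.permCongr (Equiv.Perm.sumCongr
      (q : Equiv.Perm (Fin w × ZMod p)) (1 : Equiv.Perm (Fin m))) * t⁻¹) = 1
    rw [map_mul, map_mul, Equiv.Perm.sign_permCongr, Equiv.Perm.sign_sumCongr, hq, map_one,
      map_inv]
    simp
  set J₁ : P →* 𝔸 := (J.comp P.subtype).codRestrict 𝔸 hJA with hJ₁
  have hJC : ∀ q : P, J₁ q ∈ Subgroup.centralizer ({y} : Set 𝔸) := fun q => by
    rw [Subgroup.mem_centralizer_singleton_iff]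
    refine Subtype.ext ?_
    set A : 𝕊 := ε.permCongr (Equiv.Perm.sumCongr
      (q : Equiv.Perm (Fin w × ZMod p)) (1 : Equiv.Perm (Fin m)))
    have hA : A * incl ε π = incl ε π * A := by
      show ε.permCongrHom _ * ε.permCongrHom _ = ε.permCongrHom _ * ε.permCongrHom _
      rw [← map_mul, ← map_mul]
      refine congrArg _ (Equiv.ext ?_)
      rintro (z | z) <;> rfl
    have hy' : (y : 𝕊) = t * incl ε π * t⁻¹ := by rw [hπ]; group
    show t * A * t⁻¹ * (y : 𝕊) = (y : 𝕊) * (t * A * t⁻¹)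
    rw [hy']
    calc t * A * t⁻¹ * (t * incl ε π * t⁻¹) = t * (A * incl ε π) * t⁻¹ := by group
      _ = t * (incl ε π * A) * t⁻¹ := by rw [hA]
      _ = _ := by group
  set J₂ : P →* Subgroup.centralizer ({y} : Set 𝔸) := J₁.codRestrict _ hJC with hJ₂
  have hJ₂inj : Function.Injective J₂ := fun a c h =>
    Subtype.ext (hJinj (congrArg (fun z : Subgroup.centralizer ({y} : Set 𝔸) => ((z : 𝔸) : 𝕊)) h))
  obtain ⟨T, hT⟩ := (IsPGroup.of_surjective hP J₂.rangeRestrict
    J₂.rangeRestrict_surjective).exists_le_sylow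
  have hTeq : J₂.range = (T : Subgroup (Subgroup.centralizer ({y} : Set 𝔸))) :=
    Subgroup.eq_of_le_of_card_ge hT (by
      rw [T.card_eq_multiplicity, ← blockDefect_eq hM hb hy,
        ← Nat.card_congr (MonoidHom.ofInjective hJ₂inj).toEquiv]
      rw [← hbd] at hPc
      split_ifs at hPc with h2
      · subst h2
        rw [pow_succ] at hPc
        omega
      · simpa using hPc)
  let e : D ≃* P :=
    ((MulEquiv.subgroupCongr hS).trans
      ((S : Subgroup (Subgroup.centralizer ({y} : Set 𝔸))).equivMapOfInjective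
        (Subgroup.centralizer ({y} : Set 𝔸)).subtype (Subgroup.subtype_injective _)).symm).trans
      ((S.equiv T).trans ((MulEquiv.subgroupCongr hTeq.symm).trans
        (MonoidHom.ofInjective hJ₂inj).symm))
  exact exists_irr_degree_of_surjective e.toMonoidHom e.surjective ⟨φ, hφ⟩

end Groups

end CfsgLib.SymBlocks
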