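import Mathlib.LinearAlgebra.Matrix.Determinant.Basic
import Mathlib.Data.Fintype.Perm
import Mathlib.Algebra.BigOperators.Ring.Finset
import Mathlib.Tactic

/-!
# Alternating deltas on exponent vectors

`alt β γ` is the signed number of rearrangements carrying `β` to `γ`, and the key identity behind
the orthogonality of the alternant characters of the symmetric groups.
-/

set_option autoImplicit false

namespace CfsgLib.SymBlocks

open Finset

variable {N : ℕ}

/-- The staircase. -/
def stair (N : ℕ) : Fin N → ℕ := fun i => (i : ℕ)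

/-- The total of the staircase. -/
def tri (N : ℕ) : ℕ := ∑ i : Fin N, (i : ℕ)

/-- Lower the entry at `i` by `m`. -/
def dec (β : Fin N → ℕ) (i : Fin N) (m : ℕ) : Fin N → ℕ := Function.update β i (β i - m)

/-- Raise the entry at `i` by `m`. -/
def inc (β : Fin N → ℕ) (i : Fin N) (m : ℕ) : Fin N → ℕ := Function.update β i (β i + m)

theorem sum_dec (β : Fin N → ℕ) {i : Fin N} {m : ℕ} (h : m ≤ β i) :
    ∑ k, dec β i m k + m = ∑ k, β k := by
  unfold dec
  rw [Finset.sum_update_of_mem (mem_univ i),
    ← Finset.sum_erase_add univ β (mem_univ i), ← Finset.erase_eq]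
  omega

theorem sum_inc (β : Fin N → ℕ) (i : Fin N) (m : ℕ) :
    ∑ k, inc β i m k = ∑ k, β k + m := by
  unfold inc
  rw [Finset.sum_update_of_mem (mem_univ i),
    ← Finset.sum_erase_add univ β (mem_univ i), ← Finset.erase_eq]
  omega

theorem dec_comp (β : Fin N → ℕ) (σ : Equiv.Perm (Fin N)) (i : Fin N) (m : ℕ) :
    dec (β ∘ σ) i m = dec β (σ i) m ∘ σ := by
  unfold dec
  rw [Function.update_comp_equiv, σ.symm_apply_apply]
  rfl

theorem inc_comp (β : Fin N → ℕ) (σ : Equiv.Perm (Fin N)) (i : Fin N) (m : ℕ) :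
    inc (β ∘ σ) i m = inc β (σ i) m ∘ σ := by
  unfold inc
  rw [Function.update_comp_equiv, σ.symm_apply_apply]
  rfl

/-- The signed count of rearrangements of `β` equal to `γ`. -/
def alt (β γ : Fin N → ℕ) : ℤ :=
  Matrix.det (Matrix.of fun i j => if β i = γ j then (1 : ℤ) else 0)

theorem alt_comm (β γ : Fin N → ℕ) : alt β γ = alt γ β := by
  unfold alt
  rw [← Matrix.det_transpose]
  congr 1
  ext i j
  simp [eq_comm]

theorem alt_eq_sum (β γ : Fin N → ℕ) :
    alt β γ = ∑ σ : Equiv.Perm (Fin N), (Equiv.Perm.sign σ : ℤ) * if β ∘ σ = γ then 1 else 0 := by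
  unfold alt
  rw [Matrix.det_apply']
  refine sum_congr rfl fun σ _ => ?_
  congr 1
  simp only [Matrix.of_apply]
  rw [Finset.prod_boole]
  simp only [funext_iff, Function.comp_apply, mem_univ, true_imp_iff]

theorem alt_perm_left (β γ : Fin N → ℕ) (σ : Equiv.Perm (Fin N)) :
    alt (β ∘ σ) γ = (Equiv.Perm.sign σ : ℤ) * alt β γ := by
  unfold alt
  exact Matrix.det_permute σ (Matrix.of fun i j => if β i = γ j then (1 : ℤ) else 0)

theorem alt_eq_zero_of_eq {β γ : Fin N → ℕ} {i j : Fin N} (hne : i ≠ j) (h : β i = β j) :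
    alt β γ = 0 :=
  Matrix.det_zero_of_row_eq hne (funext fun k => by simp [Matrix.of_apply, h])

theorem injective_of_alt_ne_zero {β γ : Fin N → ℕ} (h : alt β γ ≠ 0) : Function.Injective β := by
  intro i j hij
  by_contra hne
  exact h (alt_eq_zero_of_eq hne hij)

theorem exists_of_alt_ne_zero {β γ : Fin N → ℕ} (h : alt β γ ≠ 0) :
    ∃ σ : Equiv.Perm (Fin N), β ∘ σ = γ := by
  by_contra hne
  push Not at hne
  refine h ?_
  rw [alt_eq_sum]
  exact sum_eq_zero fun σ _ => by rw [if_neg (hne σ), mul_zero]

theorem alt_self {β : Fin N → ℕ} (hβ : Function.Injective β) : alt β β = 1 := by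
  unfold alt
  convert Matrix.det_one (R := ℤ) (n := Fin N)
  ext i j
  simp [Matrix.one_apply, hβ.eq_iff]

/-- The position of an entry among the others. -/
def rk (β : Fin N → ℕ) (i : Fin N) : ℕ := (univ.filter fun j => β j < β i).card

theorem rk_le {β : Fin N → ℕ} (hβ : Function.Injective β) (i : Fin N) : rk β i ≤ β i := by
  have h : (univ.filter fun j => β j < β i).image β ⊆ range (β i) := by
    intro x hx
    obtain ⟨j, hj, rfl⟩ := mem_image.1 hx
    exact mem_range.2 (mem_filter.1 hj).2
  have := card_le_card h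
  rwa [card_image_of_injective _ hβ, card_range] at this

theorem rk_lt (β : Fin N → ℕ) (i : Fin N) : rk β i < N := by
  have h : (univ.filter fun j => β j < β i) ⊆ univ.erase i := fun j hj =>
    mem_erase.2 ⟨fun e => lt_irrefl _ (e ▸ (mem_filter.1 hj).2), mem_univ j⟩
  have hle : rk β i ≤ (univ.erase i).card := card_le_card h
  have h2 := card_erase_add_one (mem_univ i)
  rw [card_univ, Fintype.card_fin] at h2
  omega

theorem rk_lt_rk {β : Fin N → ℕ} {i j : Fin N} (h : β i < β j) : rk β i < rk β j :=
  card_lt_card (ssubset_iff_of_subset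
    (fun k hk => mem_filter.2 ⟨mem_univ k, (mem_filter.1 hk).2.trans h⟩) |>.2
    ⟨i, mem_filter.2 ⟨mem_univ i, h⟩, fun hi => lt_irrefl _ (mem_filter.1 hi).2⟩)

/-- The positions of the entries form a permutation. -/
theorem exists_rk_perm {β : Fin N → ℕ} (hβ : Function.Injective β) :
    ∃ σ : Equiv.Perm (Fin N), ∀ i, ((σ i : Fin N) : ℕ) = rk β i := by
  have hinj : Function.Injective fun i => (⟨rk β i, rk_lt β i⟩ : Fin N) := by
    intro i j hij
    rcases lt_trichotomy (β i) (β j) with h | h | h
    · exact absurd (congrArg Fin.val hij) (rk_lt_rk h).ne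
    · exact hβ h
    · exact absurd (congrArg Fin.val hij) (rk_lt_rk h).ne'
  exact ⟨Equiv.ofBijective _ (Finite.injective_iff_bijective.1 hinj), fun i => rfl⟩

theorem tri_le_sum {β : Fin N → ℕ} (hβ : Function.Injective β) : tri N ≤ ∑ i, β i := by
  obtain ⟨σ, hσ⟩ := exists_rk_perm hβ
  have h : ∑ i, ((σ i : Fin N) : ℕ) = tri N := Equiv.sum_comp σ (fun i : Fin N => (i : ℕ))
  rw [← h]
  exact sum_le_sum fun i _ => by rw [hσ]; exact rk_le hβ i

theorem eq_stair_comp {β : Fin N → ℕ} (hβ : Function.Injective β) (h : ∑ i, β i ≤ tri N) :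
    ∃ σ : Equiv.Perm (Fin N), β = stair N ∘ σ := by
  obtain ⟨σ, hσ⟩ := exists_rk_perm hβ
  refine ⟨σ, funext fun i => ?_⟩
  have hle : ∀ k ∈ (univ : Finset (Fin N)), ((σ k : Fin N) : ℕ) ≤ β k := fun k _ => by
    rw [hσ]; exact rk_le hβ k
  have hs : ∑ k, ((σ k : Fin N) : ℕ) = tri N := Equiv.sum_comp σ (fun i : Fin N => (i : ℕ))
  exact ((sum_eq_sum_iff_of_le hle).1 (le_antisymm (sum_le_sum hle) (hs ▸ h)) i (mem_univ i)).symm

/-- A missing value below `N` costs. -/
theorem tri_add_le_of_gap {β : Fin N → ℕ} (hβ : Function.Injective β) {x : ℕ}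
    (hx : ∀ i, β i ≠ x) : tri N + (N - x) ≤ ∑ i, β i := by
  set β' : Fin N → ℕ := fun i => if x < β i then β i - 1 else β i with hβ'
  have hinj : Function.Injective β' := by
    intro i j hij
    refine hβ ?_
    have h1 := hx i
    have h2 := hx j
    simp only [hβ'] at hij
    split_ifs at hij <;> omega
  have h1 := tri_le_sum hinj
  have h2 : ∑ i, β i = ∑ i, β' i + (univ.filter fun i => x < β i).card := by
    rw [card_filter, ← sum_add_distrib]
    refine sum_congr rfl fun i _ => ?_
    simp only [hβ']
    split_ifs <;> omega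
  have h3 : (univ.filter fun i => ¬ x < β i).card ≤ x := by
    have hsub : (univ.filter fun i => ¬ x < β i).image β ⊆ range x := by
      intro y hy
      obtain ⟨i, hi, rfl⟩ := mem_image.1 hy
      have := (mem_filter.1 hi).2
      have := hx i
      exact mem_range.2 (by omega)
    have := card_le_card hsub
    rwa [card_image_of_injective _ hβ, card_range] at this
  have h4 := card_filter_add_card_filter_not (s := (univ : Finset (Fin N))) (fun i => x < β i)
  rw [card_univ, Fintype.card_fin] at h4
  omega

theorem two_mul_tri (N : ℕ) : 2 * tri N = N * (N - 1) := by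
  unfold tri
  rw [Fin.sum_univ_eq_sum_range (fun i => i), mul_comm, Finset.sum_range_id_mul_two]

/-- The sum over a set of rearrangements fixed by a transposition of positions vanishes. -/
theorem sum_sign_eq_zero {R : Equiv.Perm (Fin N) → Prop} [DecidablePred R] {k j : Fin N}
    (hne : k ≠ j) (hR : ∀ σ, R (σ * Equiv.swap k j) ↔ R σ) :
    ∑ σ : Equiv.Perm (Fin N), (Equiv.Perm.sign σ : ℤ) * (if R σ then 1 else 0) = 0 := by
  have h := Equiv.sum_comp (Equiv.mulRight (Equiv.swap k j))
    fun σ : Equiv.Perm (Fin N) => (Equiv.Perm.sign σ : ℤ) * if R σ then 1 else 0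
  simp only [Equiv.coe_mulRight, Equiv.Perm.sign_mul, Equiv.Perm.sign_swap hne, hR,
    mul_neg, mul_one, Units.val_neg, neg_mul, sum_neg_distrib] at h
  omega

/-- The two operators "remove a hook from each side", summed over the hook lengths, multiply the
alternating delta by the degree. -/
theorem alt_step {β γ : Fin N → ℕ} {n M : ℕ} (hβ : ∑ i, β i = tri N + n)
    (hγ : ∑ i, γ i = tri N + n) (hM : tri N + n ≤ M) :
    ∑ m ∈ Icc 1 M, ∑ i, ∑ j, (if m ≤ β i ∧ m ≤ γ j then alt (dec β i m) (dec γ j m) else 0) =
      (n : ℤ) * alt β γ := by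
  classical
  set P : (Fin N → ℕ) → Fin N → Fin N → ℕ → Prop :=
    fun b k j m => m ≤ b k ∧ m ≤ γ j ∧ dec b k m = dec γ j m with hP
  set O : (Fin N → ℕ) → Fin N → Fin N → Prop :=
    fun b k j => ∀ l, l ≠ k → l ≠ j → b l = γ l with hO
  have hexp : ∑ m ∈ Icc 1 M, ∑ i, ∑ j,
      (if m ≤ β i ∧ m ≤ γ j then alt (dec β i m) (dec γ j m) else 0) =
      ∑ σ : Equiv.Perm (Fin N), (Equiv.Perm.sign σ : ℤ) *
        ∑ k, ∑ j, ∑ m ∈ Icc 1 M, if P (β ∘ σ) k j m then 1 else 0 := by
    have hterm : ∀ m i j, (if m ≤ β i ∧ m ≤ γ j then alt (dec β i m) (dec γ j m) else 0) =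
        ∑ σ : Equiv.Perm (Fin N),
          (Equiv.Perm.sign σ : ℤ) * (if P (β ∘ σ) (σ.symm i) j m then 1 else 0) := by
      intro m i j
      split_ifs with h
      · rw [alt_eq_sum]
        refine sum_congr rfl fun σ _ => ?_
        simp only [hP, Function.comp_apply, Equiv.apply_symm_apply, dec_comp, h.1, h.2, true_and]
      · exact (sum_eq_zero fun σ _ => by
          rw [if_neg fun h' => h ⟨by simpa [hP] using h'.1, h'.2.1⟩, mul_zero]).symm
    simp only [hterm, mul_sum]
    refine ((sum_congr rfl fun m _ =>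
      (sum_congr rfl fun i _ => sum_comm).trans sum_comm).trans sum_comm).trans ?_
    refine sum_congr rfl fun σ _ => ?_
    rw [sum_congr rfl fun m _ => Equiv.sum_comp σ.symm fun k => ∑ j,
      (Equiv.Perm.sign σ : ℤ) * (if P (β ∘ σ) k j m then 1 else 0)]
    rw [sum_comm]
    exact sum_congr rfl fun k _ => sum_comm
  rw [hexp]
  have hW : ∀ σ : Equiv.Perm (Fin N),
      2 * ∑ k, ∑ j, ∑ m ∈ Icc 1 M, (if P (β ∘ σ) k j m then (1 : ℤ) else 0) =
      2 * (n : ℤ) * (if β ∘ σ = γ then 1 else 0) +
        ∑ k, ∑ j, if k ≠ j ∧ O (β ∘ σ) k j then 1 else 0 := by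
    intro σ
    set b := β ∘ σ with hb
    have hbs : ∑ i, b i = tri N + n := by
      rw [hb, ← hβ]; exact Equiv.sum_comp σ β
    have hbM : ∀ k, b k ≤ M := fun k =>
      (single_le_sum (fun i _ => Nat.zero_le (b i)) (mem_univ k)).trans (hbs ▸ hM)
    have hdiag : ∀ k, ∑ m ∈ Icc 1 M, (if P b k k m then (1 : ℤ) else 0) =
        (b k : ℤ) * if b = γ then 1 else 0 := by
      intro k
      split_ifs with h
      · rw [mul_one, sum_boole, filter_congr (q := fun m => m ≤ b k) fun m _ => by
          simp only [hP, h, and_true, and_self]]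
        have : (Icc 1 M).filter (fun m => m ≤ b k) = Icc 1 (b k) := by
          ext m
          simp only [mem_filter, mem_Icc]
          have := hbM k
          omega
        rw [this, Nat.card_Icc]
        simp
      · rw [mul_zero]
        refine sum_eq_zero fun m _ => if_neg fun hp => h ?_
        obtain ⟨h1, h2, h3⟩ := hp
        funext l
        have := congrFun h3 l
        by_cases hl : l = k
        · subst hl; simp [dec] at this; omega
        · simpa [dec, hl] using this
    have hoff : ∀ k j, k ≠ j → ∑ m ∈ Icc 1 M, (if P b k j m then (1 : ℤ) else 0) =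
        if O b k j ∧ γ k < b k then 1 else 0 := by
      intro k j hkj
      have hpair : ∀ m, P b k j m → O b k j ∧ b k = γ k + m := by
        intro m ⟨h1, h2, h3⟩
        refine ⟨fun l hlk hlj => by simpa [dec, hlk, hlj] using congrFun h3 l, ?_⟩
        have := congrFun h3 k
        simp [dec, hkj] at this
        omega
      split_ifs with h
      · obtain ⟨hOb, hlt⟩ := h
        have hsum : b k + b j = γ k + γ j := by
          have h1 := sum_add_sum_compl ({k, j} : Finset (Fin N)) b
          have h2 := sum_add_sum_compl ({k, j} : Finset (Fin N)) γ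
          rw [sum_pair hkj] at h1 h2
          have h3 : ∑ i ∈ ({k, j} : Finset (Fin N))ᶜ, b i = ∑ i ∈ ({k, j} : Finset (Fin N))ᶜ, γ i :=
            sum_congr rfl fun i hi => by
              simp only [mem_compl, mem_insert, mem_singleton, not_or] at hi
              exact hOb i hi.1 hi.2
          omega
        rw [sum_eq_single (b k - γ k)]
        · rw [if_pos]
          refine ⟨by omega, by omega, funext fun l => ?_⟩
          by_cases hlk : l = k
          · subst hlk; simp [dec, hkj]; omega
          by_cases hlj : l = j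
          · subst hlj; simp [dec, hkj.symm]; omega
          · simp [dec, hlk, hlj, hOb l hlk hlj]
        · intro m _ hm
          exact if_neg fun hp => hm (by have := (hpair m hp).2; omega)
        · intro hm
          exfalso
          refine hm (mem_Icc.2 ⟨by omega, ?_⟩)
          have := hbM k
          omega
      · refine sum_eq_zero fun m hm => if_neg fun hp => h ⟨(hpair m hp).1, ?_⟩
        have := (hpair m hp).2
        have := (mem_Icc.1 hm).1
        omega
    set F : Fin N → Fin N → ℤ := fun k j => if k ≠ j ∧ O b k j ∧ γ k < b k then 1 else 0 with hF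
    have hsplit : ∑ k, ∑ j, ∑ m ∈ Icc 1 M, (if P b k j m then (1 : ℤ) else 0) =
        ((tri N + n : ℕ) : ℤ) * (if b = γ then 1 else 0) + ∑ k, ∑ j, F k j := by
      rw [← hbs, Nat.cast_sum, sum_mul, ← sum_add_distrib]
      refine sum_congr rfl fun k _ => ?_
      rw [← add_sum_erase _ _ (mem_univ k), ← add_sum_erase _ (F k) (mem_univ k), hdiag k]
      simp only [hF, ne_eq, not_true_eq_false, false_and, if_false, zero_add]
      congr 1
      refine sum_congr rfl fun j hj => ?_
      have hkj : k ≠ j := fun h => (mem_erase.1 hj).1 h.symm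
      rw [hoff k j hkj]
      simp [hkj]
    have hpairF : ∀ k j, F k j + F j k =
        (if k ≠ j ∧ O b k j then 1 else 0) - if k ≠ j ∧ b = γ then 1 else 0 := by
      intro k j
      by_cases hkj : k = j
      · subst hkj; simp [hF]
      by_cases hOb : O b k j
      · have hOj : O b j k := fun l h1 h2 => hOb l h2 h1
        have hsum : b k + b j = γ k + γ j := by
          have h1 := sum_add_sum_compl ({k, j} : Finset (Fin N)) b
          have h2 := sum_add_sum_compl ({k, j} : Finset (Fin N)) γ
          rw [sum_pair hkj] at h1 h2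
          have h3 : ∑ i ∈ ({k, j} : Finset (Fin N))ᶜ, b i = ∑ i ∈ ({k, j} : Finset (Fin N))ᶜ, γ i :=
            sum_congr rfl fun i hi => by
              simp only [mem_compl, mem_insert, mem_singleton, not_or] at hi
              exact hOb i hi.1 hi.2
          omega
        by_cases he : b = γ
        · subst he; simp [hF, hkj, Ne.symm hkj, hOb]
        · have hne : b k ≠ γ k := fun hk => he (funext fun l => by
            by_cases hlk : l = k
            · rw [hlk, hk]
            by_cases hlj : l = j
            · rw [hlj]; omega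
            · exact hOb l hlk hlj)
          rcases lt_or_gt_of_ne hne with h | h
          · simp [hF, hkj, Ne.symm hkj, hOb, hOj, he, not_lt.2 h.le,
              show γ j < b j by omega]
          · simp [hF, hkj, Ne.symm hkj, hOb, hOj, he, h, not_lt.2 (show b j ≤ γ j by omega)]
      · have hOj : ¬ O b j k := fun h => hOb fun l h1 h2 => h l h2 h1
        have he : b ≠ γ := fun h => hOb fun l _ _ => congrFun h l
        simp [hF, hkj, Ne.symm hkj, hOb, hOj, he]
    have h2 : 2 * ∑ k, ∑ j, F k j = (∑ k, ∑ j, (if k ≠ j ∧ O b k j then (1 : ℤ) else 0)) -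
        ((N * (N - 1) : ℕ) : ℤ) * (if b = γ then 1 else 0) := by
      rw [two_mul]
      nth_rw 2 [sum_comm]
      simp only [← sum_add_distrib, hpairF, sum_sub_distrib]
      congr 1
      have : ∀ k : Fin N, ∑ j : Fin N, (if k ≠ j ∧ b = γ then (1 : ℤ) else 0) =
          ((N - 1 : ℕ) : ℤ) * if b = γ then 1 else 0 := by
        intro k
        split_ifs with h
        · simp only [h, and_true]
          rw [sum_boole, mul_one,
            Finset.filter_ne univ k, card_erase_of_mem (mem_univ k), card_univ, Fintype.card_fin]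
        · simp [h]
      rw [sum_congr rfl fun k _ => this k, sum_const, card_univ, Fintype.card_fin, nsmul_eq_mul]
      push_cast
      ring
    rw [hsplit, mul_add, h2, ← two_mul_tri]
    push_cast
    ring
  refine mul_left_cancel₀ (two_ne_zero (α := ℤ)) ?_
  rw [mul_sum]
  simp only [mul_left_comm (2 : ℤ), hW, mul_add, sum_add_distrib]
  rw [alt_eq_sum]
  simp only [mul_sum]
  conv_rhs => rw [← add_zero (Finset.sum _ _)]
  congr 1
  · exact sum_congr rfl fun σ _ => by ring
  · rw [sum_comm]
    refine sum_eq_zero fun k _ => ?_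
    rw [sum_comm]
    refine sum_eq_zero fun j _ => ?_
    by_cases hkj : k = j
    · simp [hkj]
    refine sum_sign_eq_zero hkj fun σ => ?_
    simp only [hO, ne_eq, hkj, not_false_eq_true, true_and]
    refine forall_congr' fun l => imp_congr_right fun h1 => imp_congr_right fun h2 => ?_
    simp [Equiv.swap_apply_of_ne_of_ne h1 h2]

end CfsgLib.SymBlocks
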