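import Cfsg.Agent.SymBlocks.Assoc
import Cfsg.Agent.Blocks.Cover
import Cfsg.Agent.Char.DegreesPrime
import Mathlib.GroupTheory.SpecificGroups.Alternating

/-!
# Characters of the symmetric group over those of the alternating group
-/

set_option autoImplicit false
set_option linter.style.haveILetI false

namespace CfsgLib.SymBlocks

open Finset Cfsg CfsgLib.Block CfsgLib.Char
open scoped ComplexConjugate

variable {n p : ℕ}

/-- The sign as a linear character. -/
noncomputable def sgnHom (n : ℕ) : Equiv.Perm (Fin n) →* ℂˣ :=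
  (Units.map (Int.castRingHom ℂ).toMonoidHom).comp Equiv.Perm.sign

theorem sgnHom_apply (g : Equiv.Perm (Fin n)) :
    (sgnHom n g : ℂ) = ((Equiv.Perm.sign g : ℤ) : ℂ) := rfl

/-- The associated character. -/
noncomputable def sgnMul (φ : IrrCharacter (Equiv.Perm (Fin n))) :
    IrrCharacter (Equiv.Perm (Fin n)) :=
  ⟨(φ : Equiv.Perm (Fin n) → ℂ) * fun g => (sgnHom n g : ℂ), IsIrrCharacter.mul_hom φ.2 _⟩

theorem sgnMul_apply (φ : IrrCharacter (Equiv.Perm (Fin n))) (g : Equiv.Perm (Fin n)) :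
    (sgnMul φ : Equiv.Perm (Fin n) → ℂ) g =
      ((Equiv.Perm.sign g : ℤ) : ℂ) * (φ : Equiv.Perm (Fin n) → ℂ) g := by
  rw [← sgnHom_apply]; exact mul_comm _ _

theorem sgnMul_sgnMul (φ : IrrCharacter (Equiv.Perm (Fin n))) : sgnMul (sgnMul φ) = φ := by
  refine Subtype.ext (funext fun g => ?_)
  rw [sgnMul_apply, sgnMul_apply, ← mul_assoc, ← Int.cast_mul, ← Units.val_mul, Int.units_mul_self,
    Units.val_one, Int.cast_one, one_mul]

/-- The restriction to the alternating group. -/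
def altRes (f : Equiv.Perm (Fin n) → ℂ) : alternatingGroup (Fin n) → ℂ := fun a => f a

theorem altRes_sgnMul (φ : IrrCharacter (Equiv.Perm (Fin n))) :
    altRes (sgnMul φ : Equiv.Perm (Fin n) → ℂ) = altRes (φ : Equiv.Perm (Fin n) → ℂ) :=
  funext fun a => by
    show (sgnMul φ : Equiv.Perm (Fin n) → ℂ) a = _
    rw [sgnMul_apply, show Equiv.Perm.sign (a : Equiv.Perm (Fin n)) = 1 from a.2]
    simp [altRes]

theorem sameBlock_sgnMul {M : Ideal AlgInt} [M.IsPrime] {χ φ : IrrCharacter (Equiv.Perm (Fin n))}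
    (h : SameBlock M (χ : Equiv.Perm (Fin n) → ℂ) (φ : Equiv.Perm (Fin n) → ℂ)) :
    SameBlock M (sgnMul χ : Equiv.Perm (Fin n) → ℂ) (sgnMul φ : Equiv.Perm (Fin n) → ℂ) := by
  intro g
  have hc : ∀ ψ : IrrCharacter (Equiv.Perm (Fin n)),
      centralChar (sgnMul ψ : Equiv.Perm (Fin n) → ℂ) g =
        ((Equiv.Perm.sign g : ℤ) : ℂ) * centralChar (ψ : Equiv.Perm (Fin n) → ℂ) g := by
    intro ψ
    rw [centralChar, centralChar, sgnMul_apply, sgnMul_apply, map_one, Units.val_one, Int.cast_one,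
      one_mul]
    ring
  rw [hc, hc, ← mul_sub]
  rcases Int.units_eq_one_or (Equiv.Perm.sign g) with hs | hs
  · rw [hs]; simpa using h g
  · rw [hs]
    simpa using memLocalIdeal_neg (h g)

theorem index_alternating_le (n : ℕ) : (alternatingGroup (Fin n)).index ≤ 2 := by
  rcases subsingleton_or_nontrivial (Fin n) with h | h
  · rw [show alternatingGroup (Fin n) = ⊤ from Subgroup.ext fun g => by
      simp [Subsingleton.elim g 1]]
    simp
  · exact le_of_eq alternatingGroup.index_eq_two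

local notation "𝔸" => alternatingGroup (Fin n)

variable [Fintype (alternatingGroup (Fin n))]

/-- The two ways a character restricts. -/
theorem restrict_cases (φ : IrrCharacter (Equiv.Perm (Fin n)))
    (θ : IrrCharacter (alternatingGroup (Fin n)))
    (h : classInner (altRes (φ : Equiv.Perm (Fin n) → ℂ)) (θ : alternatingGroup (Fin n) → ℂ) ≠ 0) :
    ((∃ c : ℂ, (θ : alternatingGroup (Fin n) → ℂ) = c • altRes (φ : Equiv.Perm (Fin n) → ℂ)) ∧
      ∀ ψ : IrrCharacter (alternatingGroup (Fin n)),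
        classInner (altRes (φ : Equiv.Perm (Fin n) → ℂ)) (ψ : alternatingGroup (Fin n) → ℂ) ≠ 0 →
          ψ = θ) ∨
    (sgnMul φ = φ ∧ ∃ θ' : IrrCharacter (alternatingGroup (Fin n)),
      altRes (φ : Equiv.Perm (Fin n) → ℂ) =
        (θ : alternatingGroup (Fin n) → ℂ) + (θ' : alternatingGroup (Fin n) → ℂ) ∧
      ∀ ψ : IrrCharacter (alternatingGroup (Fin n)),
        classInner (altRes (φ : Equiv.Perm (Fin n) → ℂ)) (ψ : alternatingGroup (Fin n) → ℂ) ≠ 0 →
          ψ = θ ∨ ψ = θ') := by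
  classical
  obtain ⟨e, he⟩ := IsCharacter.exists_classInner_eq_natCast
    (IsCharacter.restrict (IsIrrCharacter.isCharacter φ.2) 𝔸) θ.2
  have he' : classInner (altRes (φ : Equiv.Perm (Fin n) → ℂ)) (θ : 𝔸 → ℂ) = (e : ℂ) := he
  have hres : altRes (φ : Equiv.Perm (Fin n) → ℂ) =
      (e : ℂ) • ∑ ψ ∈ conjOrbit (G := Equiv.Perm (Fin n)) (θ : 𝔸 → ℂ), ψ := by
    rw [← he']; exact restrict_eq_smul_sum φ.2 θ.2 h
  have he0 : e ≠ 0 := fun h0 => h (by rw [he', h0, Nat.cast_zero])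
  have hmem : ∀ ψ : IrrCharacter 𝔸,
      classInner (altRes (φ : Equiv.Perm (Fin n) → ℂ)) (ψ : 𝔸 → ℂ) ≠ 0 →
        (ψ : 𝔸 → ℂ) ∈ conjOrbit (G := Equiv.Perm (Fin n)) (θ : 𝔸 → ℂ) :=
    fun ψ hψ => mem_conjOrbit_of_constituent φ.2 θ.2 ψ.2 h hψ
  have hle : (conjOrbit (G := Equiv.Perm (Fin n)) (θ : 𝔸 → ℂ)).card ≤ 2 := by
    rw [card_conjOrbit]
    exact (Nat.le_of_dvd (Nat.pos_of_ne_zero Subgroup.index_ne_zero_of_finite)
      (Subgroup.index_dvd_of_le (le_inertia (IsIrrCharacter.isClassFunction θ.2)))).trans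
        (index_alternating_le n)
  set O := conjOrbit (G := Equiv.Perm (Fin n)) (θ : 𝔸 → ℂ) with hO
  by_cases h1 : O.card = 1
  · left
    have hOθ : O = {(θ : 𝔸 → ℂ)} := (Finset.eq_of_subset_of_card_le
      (Finset.singleton_subset_iff.2 (self_mem_conjOrbit _)) (by rw [h1, card_singleton])).symm
    refine ⟨⟨(e : ℂ)⁻¹, ?_⟩, fun ψ hψ => Subtype.ext (by
      have := hmem ψ hψ
      rwa [hOθ, mem_singleton] at this)⟩
    rw [hres, hOθ, sum_singleton, smul_smul, inv_mul_cancel₀ (by exact_mod_cast he0), one_smul]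
  right
  have h2 : O.card = 2 := by
    have := card_pos.2 ⟨_, self_mem_conjOrbit (G := Equiv.Perm (Fin n)) (θ : 𝔸 → ℂ)⟩
    rw [← hO] at this
    omega
  obtain ⟨t, htO, htne⟩ := exists_mem_ne (show 1 < O.card by omega) (θ : 𝔸 → ℂ)
  have hOt : O = {(θ : 𝔸 → ℂ), t} := (Finset.eq_of_subset_of_card_le (by
    intro ψ hψ
    rcases mem_insert.1 hψ with rfl | h'
    · exact self_mem_conjOrbit _
    · rw [mem_singleton.1 h']; exact htO) (by rw [h2, card_pair htne.symm])).symm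
  have htirr : IsIrrCharacter 𝔸 t := by
    obtain ⟨g, rfl⟩ := mem_conjOrbit.1 htO
    exact isIrrCharacter_conjOn θ.2 g
  -- the norm
  have hnormA : classInner (altRes (φ : Equiv.Perm (Fin n) → ℂ))
      (altRes (φ : Equiv.Perm (Fin n) → ℂ)) = ((e * e * 2 : ℕ) : ℂ) := by
    rw [hres, hOt, sum_pair htne.symm]
    simp only [classInner_smul_left, classInner_smul_right, classInner_add_left, classInner_add_right]
    rw [IsIrrCharacter.classInner_self θ.2, IsIrrCharacter.classInner_self htirr,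
      IsIrrCharacter.classInner_of_ne θ.2 htirr htne.symm,
      IsIrrCharacter.classInner_of_ne htirr θ.2 htne, Complex.conj_natCast]
    push_cast
    ring
  have hnormS := IsIrrCharacter.classInner_self φ.2
  rw [CfsgLib.Char.classInner_self, Complex.ofReal_eq_one,
    inv_mul_eq_one₀ (by exact_mod_cast Nat.card_pos.ne')] at hnormS
  rw [CfsgLib.Char.classInner_self, ← Complex.ofReal_natCast, Complex.ofReal_inj,
    inv_mul_eq_iff_eq_mul₀ (by exact_mod_cast Nat.card_pos.ne')] at hnormA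
  have hidx : (Nat.card (Equiv.Perm (Fin n)) : ℝ) ≤ 2 * (Nat.card 𝔸 : ℝ) := by
    rw [← (𝔸).index_mul_card]
    push_cast
    exact mul_le_mul_of_nonneg_right (by exact_mod_cast index_alternating_le n) (Nat.cast_nonneg _)
  have hsplit := sum_filter_add_sum_filter_not univ (· ∈ 𝔸)
    fun g => ‖(φ : Equiv.Perm (Fin n) → ℂ) g‖ ^ 2
  have hA : ∑ g ∈ univ.filter (· ∈ 𝔸), ‖(φ : Equiv.Perm (Fin n) → ℂ) g‖ ^ 2 =
      ∑ a : 𝔸, ‖altRes (φ : Equiv.Perm (Fin n) → ℂ) a‖ ^ 2 :=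
    sum_subtype (univ.filter (· ∈ 𝔸)) (p := (· ∈ 𝔸)) (by simp)
      fun g => ‖(φ : Equiv.Perm (Fin n) → ℂ) g‖ ^ 2
  have hnn : (0 : ℝ) ≤ ∑ g ∈ univ.filter (fun g => ¬ g ∈ 𝔸),
      ‖(φ : Equiv.Perm (Fin n) → ℂ) g‖ ^ 2 := sum_nonneg fun g _ => sq_nonneg _
  have hApos : (0 : ℝ) < Nat.card 𝔸 := by exact_mod_cast Nat.card_pos
  push_cast at hnormA
  have he1 : e = 1 := by
    by_contra hne
    have h2e : (4 : ℝ) ≤ (e : ℝ) * e := by
      have : 2 * 2 ≤ e * e := Nat.mul_le_mul (by omega) (by omega)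
      exact_mod_cast this
    nlinarith
  subst he1
  have hoff : ∀ g, g ∉ 𝔸 → (φ : Equiv.Perm (Fin n) → ℂ) g = 0 := by
    intro g hg
    have h0 : ∑ g ∈ univ.filter (fun g => ¬ g ∈ 𝔸), ‖(φ : Equiv.Perm (Fin n) → ℂ) g‖ ^ 2 = 0 := by
      push_cast at hnormA
      linarith
    have := (sum_eq_zero_iff_of_nonneg fun g _ => sq_nonneg _).1 h0 g
      (mem_filter.2 ⟨mem_univ g, hg⟩)
    simpa using this
  refine ⟨Subtype.ext (funext fun g => ?_), ⟨t, htirr⟩, ?_, fun ψ hψ => ?_⟩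
  · rw [sgnMul_apply]
    by_cases hg : g ∈ 𝔸
    · rw [show Equiv.Perm.sign g = 1 from hg]; simp
    · rw [hoff g hg, mul_zero]
  · rw [hres, hOt, sum_pair htne.symm, Nat.cast_one, one_smul]
  · have := hmem ψ hψ
    rw [hOt, mem_insert, mem_singleton] at this
    exact this.imp Subtype.ext fun h => Subtype.ext h

/-- Over a member of a block, some character lies in the block of a fixed one. -/
theorem exists_over_sameBlock {M : Ideal AlgInt} [M.IsPrime]
    {χ : IrrCharacter (Equiv.Perm (Fin n))} {θ ξ : IrrCharacter (alternatingGroup (Fin n))}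
    (hθ : classInner (altRes (χ : Equiv.Perm (Fin n) → ℂ)) (θ : alternatingGroup (Fin n) → ℂ) ≠ 0)
    (hξ : SameBlock M (θ : alternatingGroup (Fin n) → ℂ) (ξ : alternatingGroup (Fin n) → ℂ)) :
    ∃ φ : IrrCharacter (Equiv.Perm (Fin n)),
      SameBlock M (χ : Equiv.Perm (Fin n) → ℂ) (φ : Equiv.Perm (Fin n) → ℂ) ∧
      classInner (altRes (φ : Equiv.Perm (Fin n) → ℂ)) (ξ : alternatingGroup (Fin n) → ℂ) ≠ 0 := by
  classical
  obtain ⟨f, hf, hfξ⟩ := DegreesPrime.exists_over (alternatingGroup (Fin n)) ξ.2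
  set φ : IrrCharacter (Equiv.Perm (Fin n)) := ⟨f, hf⟩
  rcases sameBlock_or_mul (M := M) Equiv.Perm.sign χ φ (sgnMul φ) (sgnMul_apply φ) (fun a ha hs => by
      rw [omega_eq_of_constituent hθ ha.1 fun g hg => hs g hg,
        omega_eq_of_constituent (χ := φ) hfξ ha.1 fun g hg => hs g hg]
      exact omega_cong hξ (isIntClass_resFun _ ha)) with h | h
  · exact ⟨φ, h, hfξ⟩
  · exact ⟨sgnMul φ, h, by rw [altRes_sgnMul]; exact hfξ⟩

end CfsgLib.SymBlocks
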