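import Cfsg.Agent.SymBlocks.Count

/-!
# Self-reflecting bead sets and their half codes
-/

set_option autoImplicit false

namespace CfsgLib.SymBlocks

open Finset

variable {N p a : ℕ}

/-- The set of the values is exchanged with its complement by the reflection of `[0, 2N)`. -/
def SelfRefl (δ : Fin N → ℕ) : Prop :=
  ∀ v < 2 * N, (∃ i, δ i = v) ↔ ¬ ∃ i, δ i = 2 * N - 1 - v

/-- The entries on the runner of residue `c`. -/
def runSet (r x : Fin N → ℕ) (c : ℕ) : Finset ℕ := (univ.filter fun i => r i = c).image x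

/-- The entry of the half code. -/
def halfVal (p a : ℕ) (r x : Fin N → ℕ) (i : Fin N) : ℕ :=
  if 2 * r i + 1 < p then part r x i
  else if 2 * r i + 1 = p ∧ a ≤ x i then x i + 1 - a else 0

/-- The code of half of the runners. -/
def halfCode (p a : ℕ) (r x : Fin N → ℕ) : Multiset (ℕ × ℕ) :=
  (univ.val.map fun i => (r i + 1, halfVal p a r x i)).filter fun q => 0 < q.2

theorem tri_le_sum_finset (s : Finset ℕ) : tri s.card ≤ ∑ d ∈ s, d := by
  rw [← sum_attach, ← univ_eq_attach, ← Equiv.sum_comp s.equivFin.symm fun d : s => (d : ℕ)]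
  exact tri_le_sum fun i j h => s.equivFin.symm.injective (Subtype.ext h)

theorem two_mul_sum_range (L : ℕ) : 2 * ∑ k ∈ range L, k = L * (L - 1) := by
  rw [mul_comm, Finset.sum_range_id_mul_two]

/-- A reflected complement has the same weight. -/
theorem refl_weight (L : ℕ) {X X' : Finset ℕ} (hX : X ⊆ range L)
    (hX' : X' = (range L \ X).image fun y => L - 1 - y) :
    ∑ y ∈ X', y + tri X.card = ∑ y ∈ X, y + tri X'.card := by
  have hinj : Set.InjOn (fun y => L - 1 - y) (range L \ X : Finset ℕ) := fun u hu w hw h => by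
    have := mem_range.1 (sdiff_subset (mem_coe.1 hu))
    have := mem_range.1 (sdiff_subset (mem_coe.1 hw))
    simp only at h
    omega
  have hc1 : X'.card + X.card = L := by
    rw [hX', card_image_of_injOn hinj, card_sdiff_add_card_eq_card hX, card_range]
  have hs : ∑ y ∈ X', y + ∑ y ∈ range L \ X, y = X'.card * (L - 1) := by
    rw [hX', sum_image hinj, card_image_of_injOn hinj, ← sum_add_distrib, ← smul_eq_mul,
      ← sum_const]
    exact sum_congr rfl fun y hy => by have := mem_range.1 (sdiff_subset hy); omega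
  have hr := sum_sdiff hX (f := fun y => y)
  have h2 := two_mul_sum_range L
  have ht1 := two_mul_tri X.card
  have ht2 := two_mul_tri X'.card
  set A := X.card
  set A' := X'.card
  obtain ⟨S, hS⟩ : ∃ S, ∑ y ∈ range L, y = S := ⟨_, rfl⟩
  rw [hS] at hr h2
  have key : 2 * (A' * (L - 1)) + A * (A - 1) = L * (L - 1) + A' * (A' - 1) := by
    rw [← hc1]
    rcases Nat.eq_zero_or_pos A with hA | hA <;> rcases Nat.eq_zero_or_pos A' with hA' | hA'
    · simp [hA, hA']
    · rw [hA]; simp; ring
    · rw [hA']; simp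
    · obtain ⟨b, hb⟩ : ∃ b, A = b + 1 := ⟨A - 1, by omega⟩
      obtain ⟨b', hb'⟩ : ∃ b, A' = b + 1 := ⟨A' - 1, by omega⟩
      rw [hb, hb']
      simp only [Nat.add_sub_cancel, show b' + 1 + (b + 1) - 1 = b' + b + 1 by omega]
      ring
  omega

section

variable {r x : Fin N → ℕ}

theorem mem_runSet {c y : ℕ} : y ∈ runSet r x c ↔ ∃ i, r i = c ∧ x i = y := by
  simp [runSet]

theorem exists_join_iff (hr : ∀ i, r i < p) {c y : ℕ} (hc : c < p) :
    (∃ i, join p r x i = p * y + c) ↔ y ∈ runSet r x c := by
  rw [mem_runSet]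
  refine exists_congr fun i => ⟨fun h => ?_, fun h => by simp [join, h.1, h.2]⟩
  have hp : 0 < p := (Nat.zero_le c).trans_lt hc
  have h1 : r i = c := by
    have := congrArg (fun v => v % p) h
    simpa [join, Nat.mod_eq_of_lt (hr i), Nat.mod_eq_of_lt hc] using this
  refine ⟨h1, ?_⟩
  simp only [join, h1] at h
  exact Nat.eq_of_mul_eq_mul_left hp (Nat.add_right_cancel h)

theorem sum_runSet (hx : ∀ i j, r i = r j → x i = x j → i = j) (c : ℕ) :
    ∑ i ∈ univ.filter (fun i => r i = c), part r x i + tri (runSet r x c).card =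
      ∑ y ∈ runSet r x c, y := by
  classical
  have hinjOn : Set.InjOn x (univ.filter fun i => r i = c : Finset (Fin N)) := fun i hi j hj h =>
    hx i j ((mem_filter.1 hi).2.trans (mem_filter.1 hj).2.symm) h
  rw [runSet, sum_image hinjOn, card_image_of_injOn hinjOn]
  set s : Finset (Fin N) := univ.filter fun i => r i = c
  set e := s.equivFin.symm
  set z : Fin s.card → ℕ := fun b => x (e b : Fin N)
  have hz : Function.Injective z := fun b b' h =>
    e.injective (Subtype.ext (hinjOn (e b).2 (e b').2 h))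
  obtain ⟨σ, hσ⟩ := exists_rk_perm hz
  have hrnk : ∑ i ∈ s, rnk r x i = tri s.card := by
    rw [← sum_attach, ← univ_eq_attach, ← Equiv.sum_comp e fun i : s => rnk r x i]
    rw [show tri s.card = ∑ b, ((σ b : Fin s.card) : ℕ) from
      (Equiv.sum_comp σ fun b : Fin s.card => (b : ℕ)).symm]
    refine sum_congr rfl fun b _ => ?_
    rw [hσ, rk, rnk]
    symm
    refine card_bij (fun b' _ => (e b' : Fin N)) ?_ ?_ ?_
    · intro b' hb'
      exact mem_filter.2 ⟨mem_univ _, (mem_filter.1 (e b').2).2.trans (mem_filter.1 (e b).2).2.symm,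
        (mem_filter.1 hb').2⟩
    · intro b₁ _ b₂ _ h; exact e.injective (Subtype.ext h)
    · intro i hi
      obtain ⟨-, h1, h2⟩ := mem_filter.1 hi
      have his : i ∈ s := mem_filter.2 ⟨mem_univ i, h1.trans (mem_filter.1 (e b).2).2⟩
      exact ⟨e.symm ⟨i, his⟩, mem_filter.2 ⟨mem_univ _, by simpa [z] using h2⟩, by simp⟩
  rw [← hrnk, ← sum_add_distrib]
  exact sum_congr rfl fun i _ => Nat.sub_add_cancel (rnk_le hx i)

theorem exists_same_rnk (hx : ∀ i j, r i = r j → x i = x j → i = j) (x' : Fin N → ℕ) (i' : Fin N) :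
    ∃ i, r i = r i' ∧ rnk r x i = rnk r x' i' := by
  classical
  set s : Finset (Fin N) := univ.filter fun i => r i = r i'
  have hsub : s.image (rnk r x) ⊆ range s.card := by
    intro k hk
    obtain ⟨i, hi, rfl⟩ := mem_image.1 hk
    have := rnk_lt (r := r) (x := x) i
    rw [show r i = r i' from (mem_filter.1 hi).2] at this
    exact mem_range.2 this
  have heq := eq_of_subset_of_card_le hsub (by
    rw [card_range, card_image_of_injOn fun i hi j hj h =>
      rnk_injective hx ((mem_filter.1 hi).2.trans (mem_filter.1 hj).2.symm) h])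
  have hmem : rnk r x' i' ∈ range s.card := mem_range.2 (rnk_lt i')
  rw [← heq] at hmem
  obtain ⟨i, hi, hk⟩ := mem_image.1 hmem
  exact ⟨i, (mem_filter.1 hi).2, hk⟩

variable (hr : ∀ i, r i < p) (hN : N = p * a) (hlt : ∀ i, join p r x i < 2 * N)
  (hself : SelfRefl (join p r x))

include hr hN hlt in
theorem runSet_subset (c : ℕ) : runSet r x c ⊆ range (2 * a) := by
  intro y hy
  obtain ⟨i, -, rfl⟩ := mem_runSet.1 hy
  have h : p * x i + r i < 2 * N := hlt i
  have := hr i
  rw [mem_range]
  by_contra hle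
  have : p * (2 * a) ≤ p * x i := Nat.mul_le_mul_left p (not_lt.1 hle)
  rw [hN, ← mul_assoc, mul_comm 2 p, mul_assoc] at h
  omega

include hr hN hself in
theorem mem_runSet_refl {c y : ℕ} (hc : c < p) (hy : y < 2 * a) :
    y ∈ runSet r x c ↔ 2 * a - 1 - y ∉ runSet r x (p - 1 - c) := by
  have h2N : 2 * N = p * (2 * a) := by rw [hN]; ring
  have hle : p * y + p ≤ p * (2 * a) := by
    rw [← Nat.mul_succ]; exact Nat.mul_le_mul_left p hy
  have hv : p * y + c < 2 * N := by omega
  have hrefl : 2 * N - 1 - (p * y + c) = p * (2 * a - 1 - y) + (p - 1 - c) := by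
    obtain ⟨d, hd⟩ : ∃ d, 2 * a = y + 1 + d := ⟨2 * a - (y + 1), by omega⟩
    rw [h2N, hd, show y + 1 + d - 1 - y = d by omega, mul_add, mul_add, mul_one]
    omega
  rw [← exists_join_iff hr hc, ← exists_join_iff hr (show p - 1 - c < p by omega), hself _ hv, hrefl]

include hr hN hlt hself in
theorem runSet_refl {c : ℕ} (hc : c < p) :
    runSet r x (p - 1 - c) = (range (2 * a) \ runSet r x c).image fun y => 2 * a - 1 - y := by
  ext y
  simp only [mem_image, mem_sdiff, mem_range]
  constructor
  · intro hy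
    have hy2 := mem_range.1 (runSet_subset hr hN hlt _ hy)
    refine ⟨2 * a - 1 - y, ⟨by omega, fun h => ?_⟩, by omega⟩
    have h1 := (mem_runSet_refl hr hN hself hc (by omega)).1 h
    rw [show 2 * a - 1 - (2 * a - 1 - y) = y by omega] at h1
    exact h1 hy
  · rintro ⟨z, ⟨hz, hzn⟩, rfl⟩
    exact not_not.1 fun h => hzn ((mem_runSet_refl hr hN hself hc hz).2 h)

include hr hN hlt hself in
/-- The weight of the half code. -/
theorem halfCode_weight (hx : ∀ i j, r i = r j → x i = x j → i = j) :
    ∃ u : ℕ, 2 * ((halfCode p a r x).map Prod.snd).sum = wt r x + u ∧ u * u ≤ wt r x ∧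
      (0 < u → ∃ q ∈ halfCode p a r x, 2 * q.1 = p + 1) := by
  classical
  set cw : ℕ → ℕ := fun c => ∑ i ∈ univ.filter (fun i => r i = c), part r x i with hcw
  set Hf : Finset ℕ := (range p).filter fun c => 2 * c + 1 < p
  set Mf : Finset ℕ := (range p).filter fun c => 2 * c + 1 = p
  set U : Finset (Fin N) := univ.filter fun i => 2 * r i + 1 = p ∧ a ≤ x i
  have hsum : ((halfCode p a r x).map Prod.snd).sum = ∑ i, halfVal p a r x i := by
    rw [halfCode, Multiset.filter_map, Multiset.map_map, ← filter_val]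
    show ∑ i ∈ univ.filter (fun i => 0 < halfVal p a r x i), halfVal p a r x i = _
    exact sum_subset (filter_subset _ _) fun i _ hi => by
      simp only [mem_filter, mem_univ, true_and] at hi; omega
  have hsplit : ∑ i, halfVal p a r x i = ∑ c ∈ Hf, cw c + ∑ i ∈ U, (x i + 1 - a) := by
    have h1 : ∑ c ∈ Hf, cw c = ∑ i, if 2 * r i + 1 < p then part r x i else 0 := by
      rw [← sum_filter, ← sum_fiberwise_of_maps_to (t := Hf) (g := r) (fun i hi =>
        mem_filter.2 ⟨mem_range.2 (hr i), (mem_filter.1 hi).2⟩)]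
      refine sum_congr rfl fun c hc => ?_
      simp only [hcw]
      congr 1
      ext i
      simp only [mem_filter, mem_univ, true_and]
      exact ⟨fun h => ⟨h ▸ (mem_filter.1 hc).2, h⟩, fun h => h.2⟩
    rw [h1, sum_filter, ← sum_add_distrib]
    refine sum_congr rfl fun i _ => ?_
    unfold halfVal
    split_ifs <;> omega
  have hwt : wt r x = ∑ c ∈ range p, cw c := by
    rw [wt, ← sum_fiberwise_of_maps_to (t := range p) (g := r) (fun i _ => mem_range.2 (hr i))]
  have hmir : ∀ c ∈ Hf, cw (p - 1 - c) = cw c := by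
    intro c hc
    have hc' := mem_range.1 (mem_filter.1 hc).1
    have h1 := sum_runSet hx c
    have h2 := sum_runSet hx (p - 1 - c)
    have h3 := refl_weight (2 * a) (runSet_subset hr hN hlt c) (runSet_refl hr hN hlt hself hc')
    simp only [hcw]
    omega
  have hparts : ∑ c ∈ range p, cw c = 2 * ∑ c ∈ Hf, cw c + ∑ c ∈ Mf, cw c := by
    have hhigh : ∑ c ∈ (range p).filter (fun c => p < 2 * c + 1), cw c = ∑ c ∈ Hf, cw c := by
      refine (sum_nbij' (fun c => p - 1 - c) (fun c => p - 1 - c) ?_ ?_ ?_ ?_ ?_).symm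
      · intro c hc
        simp only [Hf, mem_filter, mem_range, coe_filter, Set.mem_setOf_eq] at hc ⊢
        omega
      · intro c hc
        simp only [Hf, mem_filter, mem_range, coe_filter, Set.mem_setOf_eq] at hc ⊢
        omega
      · intro c hc
        simp only [Hf, mem_filter, mem_range, coe_filter, Set.mem_setOf_eq] at hc
        omega
      · intro c hc
        simp only [Hf, mem_filter, mem_range, coe_filter, Set.mem_setOf_eq] at hc
        omega
      · intro c hc; exact (hmir c hc).symm
    rw [two_mul]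
    nth_rw 2 [← hhigh]
    simp only [Hf, Mf, sum_filter, ← sum_add_distrib]
    refine sum_congr rfl fun c _ => ?_
    split_ifs <;> omega
  have hmid : ∑ c ∈ Mf, cw c + ∑ i ∈ U, (2 * a - 1 - x i) = ∑ i ∈ U, x i := by
    by_cases hex : ∃ c, c < p ∧ 2 * c + 1 = p
    swap
    · push Not at hex
      rw [show Mf = ∅ from filter_eq_empty_iff.2 fun c hc => hex c (mem_range.1 hc),
        show U = ∅ from filter_eq_empty_iff.2 fun i _ h => hex (r i) (hr i) h.1]
      simp
    obtain ⟨c, hc, hmc⟩ := hex
    rw [show Mf = {c} from by ext d; simp [Mf]; omega, sum_singleton]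
    set X := runSet r x c
    have hX : X = (range (2 * a) \ X).image fun y => 2 * a - 1 - y := by
      have := runSet_refl hr hN hlt hself hc
      rwa [show p - 1 - c = c by omega] at this
    have hXsub : X ⊆ range (2 * a) := runSet_subset hr hN hlt (x := x) c
    have hcardX : X.card = a := by
      have h1 : X.card = (range (2 * a) \ X).card := by
        conv_lhs => rw [hX]
        refine card_image_of_injOn fun u hu w hw h => ?_
        have := mem_range.1 (sdiff_subset (mem_coe.1 hu))
        have := mem_range.1 (sdiff_subset (mem_coe.1 hw))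
        omega
      have h2 := card_sdiff_add_card_eq_card hXsub
      rw [card_range] at h2
      omega
    have himg : U.image x = X.filter fun y => a ≤ y := by
      ext y
      simp only [U, X, mem_image, mem_filter, mem_univ, true_and, mem_runSet]
      constructor
      · rintro ⟨i, ⟨h1, h2⟩, rfl⟩; exact ⟨⟨i, by omega, rfl⟩, h2⟩
      · rintro ⟨⟨i, h1, rfl⟩, h2⟩; exact ⟨i, ⟨by omega, h2⟩, rfl⟩
    have hUinj : Set.InjOn x U := fun i hi j hj h => hx i j (by
      have h1 : 2 * r i + 1 = p := (mem_filter.1 (mem_coe.1 hi)).2.1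
      have h2 : 2 * r j + 1 = p := (mem_filter.1 (mem_coe.1 hj)).2.1
      omega) h
    have hUa : ∑ i ∈ U, x i = ∑ y ∈ X.filter (fun y => a ≤ y), y := by
      rw [← himg, sum_image hUinj]
    have hUb : ∑ i ∈ U, (2 * a - 1 - x i) = ∑ y ∈ X.filter (fun y => a ≤ y), (2 * a - 1 - y) := by
      rw [← himg, sum_image hUinj]
    have hgap : ∑ y ∈ X.filter (fun y => a ≤ y), (2 * a - 1 - y) = ∑ y ∈ range a \ X, y := by
      refine sum_nbij' (fun y => 2 * a - 1 - y) (fun y => 2 * a - 1 - y) ?_ ?_ ?_ ?_ ?_
      · intro y hy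
        obtain ⟨h1, h2⟩ := mem_filter.1 hy
        have h3 := mem_range.1 (hXsub h1)
        have h4 : y ∈ (range (2 * a) \ X).image fun y => 2 * a - 1 - y := hX ▸ h1
        obtain ⟨z, hz, hzy⟩ := mem_image.1 h4
        have h5 := mem_range.1 (mem_sdiff.1 hz).1
        rw [show 2 * a - 1 - y = z by omega]
        exact mem_sdiff.2 ⟨mem_range.2 (by omega), (mem_sdiff.1 hz).2⟩
      · intro y hy
        obtain ⟨h1, h2⟩ := mem_sdiff.1 hy
        have h3 := mem_range.1 h1
        refine mem_filter.2 ⟨?_, by omega⟩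
        rw [hX]
        exact mem_image.2 ⟨y, mem_sdiff.2 ⟨mem_range.2 (by omega), h2⟩, rfl⟩
      · intro y hy
        have := mem_range.1 (hXsub (mem_filter.1 hy).1)
        omega
      · intro y hy
        have := mem_range.1 (mem_sdiff.1 hy).1
        omega
      · intro y hy; rfl
    have hlow : ∑ y ∈ range a \ X, y + ∑ y ∈ X.filter (fun y => ¬ a ≤ y), y = tri a := by
      rw [show X.filter (fun y => ¬ a ≤ y) = range a ∩ X by
        ext y; simp only [mem_filter, mem_inter, mem_range, not_le, and_comm],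
        add_comm, sum_inter_add_sum_sdiff, tri, Fin.sum_univ_eq_sum_range fun y => y]
    have h1 : ∑ i ∈ univ.filter (fun i => r i = c), part r x i + tri X.card = ∑ y ∈ X, y :=
      sum_runSet hx c
    rw [hcardX] at h1
    have h2 := sum_filter_add_sum_filter_not X (fun y => a ≤ y) fun y => y
    simp only [hcw]
    omega
  have hUlt : ∀ i ∈ U, a ≤ x i ∧ x i < 2 * a := fun i hi =>
    ⟨(mem_filter.1 hi).2.2,
      mem_range.1 (runSet_subset hr hN hlt (r i) (mem_runSet.2 ⟨i, rfl, rfl⟩))⟩
  have hUd : 2 * ∑ i ∈ U, (x i + 1 - a) = ∑ c ∈ Mf, cw c + U.card := by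
    have h2 : 2 * ∑ i ∈ U, (x i + 1 - a) + ∑ i ∈ U, (2 * a - 1 - x i) = ∑ i ∈ U, x i + U.card := by
      rw [mul_sum, ← sum_add_distrib, card_eq_sum_ones, ← sum_add_distrib]
      exact sum_congr rfl fun i hi => by have := hUlt i hi; omega
    omega
  refine ⟨U.card, by rw [hsum, hsplit, hwt, hparts, mul_add, hUd]; ring, ?_, fun hpos => ?_⟩
  rotate_left
  · obtain ⟨i, hi⟩ := card_pos.1 hpos
    obtain ⟨-, h1, h2⟩ := mem_filter.1 hi
    refine ⟨(r i + 1, halfVal p a r x i), Multiset.mem_filter.2
      ⟨Multiset.mem_map.2 ⟨i, mem_univ_val i, rfl⟩, ?_⟩, ?_⟩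
    · show 0 < halfVal p a r x i
      rw [halfVal, if_neg (by omega), if_pos ⟨h1, h2⟩]
      omega
    · show 2 * (r i + 1) = p + 1
      omega
  have hUinj : Set.InjOn (fun i => x i - a) U := fun i hi j hj h => hx i j (by
    have h1 : 2 * r i + 1 = p := (mem_filter.1 (mem_coe.1 hi)).2.1
    have h2 : 2 * r j + 1 = p := (mem_filter.1 (mem_coe.1 hj)).2.1
    omega) (by
    have := hUlt i hi
    have := hUlt j hj
    simp only at h
    omega)
  have h3 := tri_le_sum_finset (U.image fun i => x i - a)
  rw [card_image_of_injOn hUinj, sum_image hUinj] at h3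
  have h4 : 2 * ∑ i ∈ U, (x i - a) + 2 * U.card = 2 * ∑ i ∈ U, (x i + 1 - a) := by
    rw [card_eq_sum_ones, ← mul_add, ← sum_add_distrib]
    exact congrArg _ (sum_congr rfl fun i hi => by have := hUlt i hi; omega)
  have h5 := two_mul_tri U.card
  rw [hwt, hparts]
  rcases Nat.eq_zero_or_pos U.card with h0 | h0
  · rw [h0]; simp
  · have h6 : U.card * (U.card - 1) + U.card = U.card * U.card := by
      rw [← Nat.mul_succ, Nat.succ_eq_add_one, Nat.sub_add_cancel h0]
    omega

theorem mem_halfCode {q : ℕ × ℕ} (hq : q ∈ halfCode p a r x) :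
    q.1 ≠ 0 ∧ 0 < q.2 ∧ 2 * q.1 ≤ p + 1 := by
  rw [halfCode, Multiset.mem_filter, Multiset.mem_map] at hq
  obtain ⟨⟨i, -, rfl⟩, h2⟩ := hq
  refine ⟨Nat.succ_ne_zero _, h2, ?_⟩
  simp only [halfVal] at h2 ⊢
  split_ifs at h2 <;> omega

include hr hN hlt hself in
/-- The half code determines the set. -/
theorem exists_perm_of_halfCode_eq {x' : Fin N → ℕ} (hlt' : ∀ i, join p r x' i < 2 * N)
    (hself' : SelfRefl (join p r x')) (hx : ∀ i j, r i = r j → x i = x j → i = j)
    (hx' : ∀ i j, r i = r j → x' i = x' j → i = j)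
    (hcode : halfCode p a r x = halfCode p a r x') :
    ∃ σ : Equiv.Perm (Fin N), r ∘ σ = r ∧ x ∘ σ = x' := by
  classical
  have hhalf : ∀ c, 2 * c + 1 < p → runSet r x c = runSet r x' c := by
    intro c hc
    have hcount : ∀ v, (univ.filter fun j => r j = c ∧ part r x j ≤ v).card =
        (univ.filter fun j => r j = c ∧ part r x' j ≤ v).card := by
      intro v
      have h : ∀ y : Fin N → ℕ, (univ.filter fun j => r j = c ∧ part r y j ≤ v).card +
          (halfCode p a r y).countP (fun q => q.1 = c + 1 ∧ v < q.2) =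
            (univ.filter fun j => r j = c).card := by
        intro y
        have hm : (halfCode p a r y).countP (fun q => q.1 = c + 1 ∧ v < q.2) =
            (univ.filter fun j => r j = c ∧ ¬ part r y j ≤ v).card := by
          rw [halfCode, Multiset.countP_filter, Multiset.countP_map]
          refine congrArg Multiset.card (Multiset.filter_congr fun j _ => ?_)
          simp only [halfVal]
          constructor
          · rintro ⟨⟨h1, h2⟩, -⟩
            rw [if_pos (by omega)] at h2
            exact ⟨by omega, by omega⟩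
          · rintro ⟨h1, h2⟩
            rw [if_pos (by omega)]
            exact ⟨⟨by omega, by omega⟩, by omega⟩
        rw [hm, ← filter_filter, ← filter_filter, card_filter_add_card_filter_not]
      have h1 := h x
      have h2 := h x'
      rw [hcode] at h1
      omega
    ext y
    simp only [mem_runSet]
    constructor
    · rintro ⟨i, hi, rfl⟩
      obtain ⟨i', hr', hk⟩ := exists_same_rnk hx' x i
      refine ⟨i', hr'.trans hi, ?_⟩
      have h1 := part_not_lt hx hx' (fun v => by rw [hi]; exact hcount v) hr'.symm hk.symm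
      have h2 := part_not_lt hx' hx (fun v => by rw [hr', hi]; exact (hcount v).symm) hr' hk
      have h3 := rnk_le hx i
      have h4 := rnk_le hx' i'
      unfold part at h1 h2
      omega
    · rintro ⟨i, hi, rfl⟩
      obtain ⟨i', hr', hk⟩ := exists_same_rnk hx x' i
      refine ⟨i', hr'.trans hi, ?_⟩
      have h1 := part_not_lt hx' hx (fun v => by rw [hi]; exact (hcount v).symm) hr'.symm hk.symm
      have h2 := part_not_lt hx hx' (fun v => by rw [hr', hi]; exact hcount v) hr' hk
      have h3 := rnk_le hx' i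
      have h4 := rnk_le hx i'
      unfold part at h1 h2
      omega
  have hupper : ∀ c y, c < p → 2 * c + 1 = p → a ≤ y →
      (y ∈ runSet r x c ↔ y ∈ runSet r x' c) := by
    intro c y _ hc hy
    have h : ∀ z : Fin N → ℕ, y ∈ runSet r z c ↔ (c + 1, y + 1 - a) ∈ halfCode p a r z := by
      intro z
      simp only [mem_runSet, halfCode, Multiset.mem_filter, Multiset.mem_map, Prod.mk.injEq,
        mem_val, mem_univ, true_and, halfVal]
      constructor
      · rintro ⟨i, hi, rfl⟩
        refine ⟨⟨i, by omega, ?_⟩, by omega⟩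
        rw [if_neg (by omega), if_pos ⟨by omega, hy⟩]
      · rintro ⟨⟨i, h1, h2⟩, -⟩
        refine ⟨i, by omega, ?_⟩
        rw [if_neg (by omega)] at h2
        split_ifs at h2 <;> omega
    rw [h x, h x', hcode]
  have hall : ∀ c y, c < p → y < 2 * a → (y ∈ runSet r x c ↔ y ∈ runSet r x' c) := by
    intro c y hc hy
    rcases lt_trichotomy (2 * c + 1) p with h | h | h
    · rw [hhalf c h]
    · by_cases hya : a ≤ y
      · exact hupper c y hc h hya
      · rw [mem_runSet_refl hr hN hself hc hy, mem_runSet_refl hr hN hself' hc hy,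
          show p - 1 - c = c by omega, hupper c _ hc h (by omega)]
    · rw [mem_runSet_refl hr hN hself hc hy, mem_runSet_refl hr hN hself' hc hy,
        hhalf (p - 1 - c) (by omega)]
  have hex : ∀ i', ∃ i, r i = r i' ∧ x i = x' i' := fun i' =>
    mem_runSet.1 ((hall (r i') (x' i') (hr i')
      (mem_range.1 (runSet_subset hr hN hlt' (r i') (mem_runSet.2 ⟨i', rfl, rfl⟩)))).2
      (mem_runSet.2 ⟨i', rfl, rfl⟩))
  choose σ hσr hσx using hex
  have hσinj : Function.Injective σ := fun b b' h =>
    hx' b b' (by rw [← hσr b, ← hσr b', h]) (by rw [← hσx b, ← hσx b', h])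
  exact ⟨Equiv.ofBijective σ (Finite.injective_iff_bijective.1 hσinj), funext hσr, funext hσx⟩

end

end CfsgLib.SymBlocks
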