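import Cfsg.Agent.SymBlocks.AltClifford
import Cfsg.Agent.SymBlocks.SelfAssoc
import Cfsg.Agent.SymBlocks.Main

/-!
# The exponents of the members of a block
-/

set_option autoImplicit false

namespace CfsgLib.SymBlocks

open Finset Cfsg CfsgLib.Block CfsgLib.Char

variable {N n p : ℕ} {M : Ideal AlgInt}

/-- `y` gives, on the residues `r`, exponents for `φ`. -/
def Expo (n p : ℕ) (r y : Fin N → ℕ) (φ : IrrCharacter (Equiv.Perm (Fin n))) : Prop :=
  ∑ i, join p r y i = tri N + n ∧ Function.Injective (join p r y) ∧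
    ∃ c : ℂ, c ≠ 0 ∧ (φ : Equiv.Perm (Fin n) → ℂ) = c • chi n (join p r y)

theorem chi_comp (β : Fin N → ℕ) (σ : Equiv.Perm (Fin N)) :
    chi n (β ∘ σ) = ((Equiv.Perm.sign σ : ℤ) : ℂ) • chi n β := by
  funext g
  simp [chi, chm_comp]

theorem sign_cast_ne_zero {α : Type*} [DecidableEq α] [Fintype α] (σ : Equiv.Perm α) :
    ((Equiv.Perm.sign σ : ℤ) : ℂ) ≠ 0 := Int.cast_ne_zero.2 (Equiv.Perm.sign σ).ne_zero

theorem eq_of_smul_eq {G : Type} [Group G] [Fintype G] {φ ψ : IrrCharacter G} {c : ℂ}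
    (h : (φ : G → ℂ) = c • (ψ : G → ℂ)) : φ = ψ := by
  by_contra hne
  have h0 := IsIrrCharacter.classInner_of_ne φ.2 ψ.2 fun h => hne (Subtype.ext h)
  rw [h, classInner_smul_left, IsIrrCharacter.classInner_self ψ.2, mul_one] at h0
  exact IsIrrCharacter.apply_one_ne_zero φ.2 (by rw [h, h0, zero_smul]; rfl)

namespace Expo

variable {r x y y' : Fin N → ℕ} {φ φ' : IrrCharacter (Equiv.Perm (Fin n))}

theorem runner (h : Expo n p r y φ) : ∀ i j, r i = r j → y i = y j → i = j :=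
  fun i j h1 h2 => h.2.1 (by simp [join, h1, h2])

theorem wt_eq_wt (hp : 0 < p) (h : Expo n p r y φ) (h' : Expo n p r y' φ') :
    wt r y = wt r y' := by
  have h1 := wt_eq h.runner
  have h2 := wt_eq h'.runner
  have h3 := two_mul_sum_rnk h.runner
  have h4 := two_mul_sum_rnk h'.runner
  have h5 : ∑ i, y i = ∑ i, y' i := by
    have h6 := h.1.trans h'.1.symm
    rw [sum_join, sum_join] at h6
    exact Nat.eq_of_mul_eq_mul_left hp (Nat.add_right_cancel h6)
  omega

theorem eq_of_perm (h : Expo n p r y φ) (h' : Expo n p r y' φ')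
    (hσ : ∃ σ : Equiv.Perm (Fin N), r ∘ σ = r ∧ y ∘ σ = y') : φ = φ' := by
  obtain ⟨σ, hr, rfl⟩ := hσ
  obtain ⟨c, hc, hφ⟩ := h.2.2
  obtain ⟨c', hc', hφ'⟩ := h'.2.2
  have hj : join p r (y ∘ σ) = join p r y ∘ σ := funext fun i => by
    have := congrFun hr i
    simp only [Function.comp_apply] at this
    simp [join, this]
  refine (eq_of_smul_eq (c := c' * ((Equiv.Perm.sign σ : ℤ) : ℂ) * c⁻¹) ?_).symm
  rw [hφ', hj, chi_comp, hφ, smul_smul, smul_smul, mul_assoc _ c⁻¹ c, inv_mul_cancel₀ hc, mul_one]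

theorem selfRefl (hn : n ≤ N) (h : Expo n p r y φ) (hs : sgnMul φ = φ) :
    SelfRefl (join p r y) := by
  obtain ⟨c, hc, hφ⟩ := h.2.2
  intro v hv
  refine exists_iff_not_exists hn h.2.1 h.1 h.2.1 h.1 one_ne_zero (fun g => ?_) hv
  have h1 := sgnMul_apply φ g
  rw [hs, hφ, Pi.smul_apply, smul_eq_mul, mul_left_comm] at h1
  rw [one_mul]
  exact mul_left_cancel₀ hc h1

theorem join_lt (hn : n ≤ N) (h : Expo n p r y φ) (i : Fin N) : join p r y i < 2 * N :=
  (le_of_sum_eq h.2.1 h.1 i).trans_le (by omega)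

theorem vec_mem (h : Expo n p r y φ) : pRegularPart p (φ : Equiv.Perm (Fin n) → ℂ) ∈
    Submodule.span ℂ (vec n p r '' {x : Fin N → ℕ | ∑ i, join p r x i = tri N + n}) := by
  obtain ⟨c, -, hφ⟩ := h.2.2
  rw [hφ, pRegularPart_smul]
  exact Submodule.smul_mem _ _ (Submodule.subset_span ⟨y, h.1, rfl⟩)

end Expo

/-- The residues and the quotients of a character, increasing on each runner. -/
theorem exists_expo (hp : 0 < p) (hn : n ≤ N) (χ : IrrCharacter (Equiv.Perm (Fin n))) :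
    ∃ r x : Fin N → ℕ, (∀ i, r i < p) ∧ (∀ i j, i < j → r i = r j → x i < x j) ∧
      Expo n p r x χ := by
  obtain ⟨β, hinjβ, hsβ, e, he, hχβ⟩ := exists_chi hn χ
  set σ₀ := Tuple.sort fun i => toLex (β i % p, β i)
  set β₁ := β ∘ σ₀ with hβ₁
  have hinj₁ : Function.Injective β₁ := hinjβ.comp σ₀.injective
  have hjoin : join p (fun i => β₁ i % p) (fun i => β₁ i / p) = β₁ :=
    funext fun i => Nat.div_add_mod (β₁ i) p
  refine ⟨fun i => β₁ i % p, fun i => β₁ i / p, fun i => Nat.mod_lt _ hp, ?_, ?_, ?_,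
    e * ((Equiv.Perm.sign σ₀ : ℤ) : ℂ),
    mul_ne_zero (by rcases he with rfl | rfl <;> norm_num) (sign_cast_ne_zero _), ?_⟩
  · intro i j hij hrij
    have h := Tuple.monotone_sort (fun i => toLex (β i % p, β i)) hij.le
    have hle : β₁ i ≤ β₁ j := by
      rcases (Prod.Lex.toLex_le_toLex.1 h) with h | h
      · exact absurd hrij h.ne
      · exact h.2
    have hne : β₁ i ≠ β₁ j := fun h => hij.ne (hinj₁ h)
    refine lt_of_le_of_ne (Nat.div_le_div_right hle) fun hx => hne ?_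
    rw [← congrFun hjoin i, ← congrFun hjoin j]
    simp only [join, hrij, hx]
  · rw [hjoin]; exact (Equiv.sum_comp σ₀ β).trans hsβ
  · rw [hjoin]; exact hinj₁
  · rw [hjoin, hβ₁, chi_comp, smul_smul, mul_assoc, ← Int.cast_mul, ← Units.val_mul,
      Int.units_mul_self, Units.val_one, Int.cast_one, mul_one]
    exact hχβ

theorem resCount_comp {β : Fin N → ℕ} (σ : Equiv.Perm (Fin N)) (c : ℕ) :
    resCount p (β ∘ σ) c = resCount p β c := by
  unfold resCount
  exact card_equiv σ fun i => by simp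

/-- Members of one block share their residues. -/
theorem exists_expo_of_sameBlock [M.IsPrime] [Fact p.Prime] (hM : IsPModular p M) (hn : n ≤ N)
    {r x : Fin N → ℕ} (hr : ∀ i, r i < p) {χ φ : IrrCharacter (Equiv.Perm (Fin n))}
    (hχ : Expo n p r x χ) (h : SameBlock M (χ : Equiv.Perm (Fin n) → ℂ) (φ : Equiv.Perm (Fin n) → ℂ)) :
    ∃ y : Fin N → ℕ, Expo n p r y φ := by
  obtain ⟨γ, hinjγ, hsγ, f, hf, hφγ⟩ := exists_chi hn φ
  obtain ⟨c, hc, hχc⟩ := hχ.2.2
  have hf0 : f ≠ 0 := by rcases hf with rfl | rfl <;> norm_num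
  have hp0 : 0 < p := (Fact.out : p.Prime).pos
  obtain ⟨τ, hτ⟩ := exists_perm_residues hp0 (join p r x) γ
    (fun d hd => resCount_eq hM h hχ.2.1 hχ.1 hinjγ hsγ hc hf0 hχc hφγ d hd)
  have hjy : join p r (fun i => γ (τ i) / p) = γ ∘ τ := funext fun i => by
    have h1 : join p r x i % p = r i := by simp [join, Nat.mod_eq_of_lt (hr i)]
    simp only [join, Function.comp_apply]
    rw [← h1, ← hτ i]
    exact Nat.div_add_mod (γ (τ i)) p
  refine ⟨fun i => γ (τ i) / p, ?_, ?_, f * ((Equiv.Perm.sign τ : ℤ) : ℂ),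
    mul_ne_zero hf0 (sign_cast_ne_zero _), ?_⟩
  · rw [hjy]; exact (Equiv.sum_comp τ γ).trans hsγ
  · rw [hjy]; exact hinjγ.comp τ.injective
  · rw [hjy, chi_comp, smul_smul, mul_assoc, ← Int.cast_mul, ← Units.val_mul, Int.units_mul_self,
      Units.val_one, Int.cast_one, mul_one]
    exact hφγ

end CfsgLib.SymBlocks
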