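import Cfsg.Agent.SymBlocks.AltFamily
import Cfsg.Agent.BlocksB.RegRank

/-!
# The regular rank of a block of an alternating group
-/

set_option autoImplicit false
set_option linter.style.haveILetI false

namespace CfsgLib.SymBlocks

open Finset Cfsg CfsgLib.Block CfsgLib.Char

variable {n p : ℕ} [hp : Fact p.Prime] {M : Ideal AlgInt} [M.IsPrime]

local notation "𝕊" => Equiv.Perm (Fin n)
local notation "𝔸" => alternatingGroup (Fin n)

variable [Fintype (alternatingGroup (Fin n))]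

theorem isPRegular_coe (a : 𝔸) : IsPRegular p (a : 𝕊) ↔ IsPRegular p a := by
  rw [IsPRegular, IsPRegular, Subgroup.orderOf_coe]

theorem pRegularPart_altRes (f : 𝕊 → ℂ) :
    pRegularPart p (altRes f) =
      LinearMap.funLeft ℂ ℂ (Subtype.val : 𝔸 → 𝕊) (pRegularPart p f) := by
  funext a
  rw [LinearMap.funLeft_apply]
  by_cases h : IsPRegular p a
  · rw [pRegularPart_of_regular h, pRegularPart_of_regular ((isPRegular_coe a).2 h)]; rfl
  · rw [pRegularPart_of_singular h,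
      pRegularPart_of_singular fun h' => h ((isPRegular_coe a).1 h')]

theorem le_mul_self_prime : n ≤ p * n := Nat.le_mul_of_pos_left n hp.out.pos

/-- The rank is bounded by two sets of codes. -/
theorem alt_blockRank_le (hM : IsPModular p M) {b : Set (IrrCharacter 𝔸)} (hb : IsPBlock M b)
    {χ : IrrCharacter 𝕊} {θ : IrrCharacter 𝔸} (hθb : θ ∈ b)
    (hθ : classInner (altRes (χ : 𝕊 → ℂ)) (θ : 𝔸 → ℂ) ≠ 0)
    {r x : Fin (p * n) → ℕ} (hr : ∀ i, r i < p) (hχ : Expo n p r x χ) :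
    ∃ C₁ C₂ : Finset (Multiset (ℕ × ℕ)), blockRank p b ≤ C₁.card + C₂.card ∧
      (∀ C ∈ C₁, (C.map Prod.snd).sum = wt r x ∧ ∀ q ∈ C, q.1 ≠ 0 ∧ 0 < q.2 ∧ q.1 < p) ∧
      ∀ C ∈ C₂, (∀ q ∈ C, q.1 ≠ 0 ∧ 0 < q.2 ∧ 2 * q.1 ≤ p + 1) ∧
        ∃ u : ℕ, 2 * (C.map Prod.snd).sum = wt r x + u ∧ u * u ≤ wt r x ∧
          (0 < u → ∃ q ∈ C, 2 * q.1 = p + 1) := by
  classical
  letI := Chr.irrFintype (G := 𝕊)
  have hn : n ≤ p * n := le_mul_self_prime
  have hN : p * n = p * n := rfl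
  have hp0 := hp.out.pos
  obtain ⟨T, hT1, hT2, hT3⟩ := exists_reps (n := n) hp.out.two_le hn hr hχ.1 hχ.2.1
  set Q := univ.filter fun φ : IrrCharacter 𝕊 =>
    SameBlock M (χ : 𝕊 → ℂ) (φ : 𝕊 → ℂ) ∧ sgnMul φ = φ with hQ
  have hY : ∀ φ : IrrCharacter 𝕊, ∃ y : Fin (p * n) → ℕ,
      SameBlock M (χ : 𝕊 → ℂ) (φ : 𝕊 → ℂ) → Expo n p r y φ := fun φ => by
    by_cases h : SameBlock M (χ : 𝕊 → ℂ) (φ : 𝕊 → ℂ)
    · obtain ⟨y, hy⟩ := exists_expo_of_sameBlock hM hn hr hχ h
      exact ⟨y, fun _ => hy⟩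
    · exact ⟨x, fun h' => absurd h' h⟩
  choose Y hY using hY
  have hC : ∀ φ : IrrCharacter 𝕊, ∃ ζ : IrrCharacter 𝔸,
      classInner (altRes (φ : 𝕊 → ℂ)) (ζ : 𝔸 → ℂ) ≠ 0 := fun φ => by
    obtain ⟨ζ, hζ, h⟩ := exists_constituent_restrict (N := 𝔸) φ.2
    exact ⟨⟨ζ, hζ⟩, h⟩
  choose Z hZ using hC
  set code₂ : IrrCharacter 𝕊 → Multiset (ℕ × ℕ) := fun φ => halfCode p n r (Y φ) with hcode₂
  have huniq : Set.InjOn code₂ (Q : Set (IrrCharacter 𝕊)) := by
    intro φ hφ φ' hφ' h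
    obtain ⟨-, h1, h2⟩ := mem_filter.1 (mem_coe.1 hφ)
    obtain ⟨-, h1', h2'⟩ := mem_filter.1 (mem_coe.1 hφ')
    have e := hY φ h1
    have e' := hY φ' h1'
    exact e.eq_of_perm e' (exists_perm_of_halfCode_eq hr hN (e.join_lt hn) (e.selfRefl hn h2)
      (e'.join_lt hn) (e'.selfRefl hn h2') e.runner e'.runner h)
  set L := LinearMap.funLeft ℂ ℂ (Subtype.val : 𝔸 → 𝕊) with hL
  set W : Finset (𝔸 → ℂ) :=
    T.image (fun y => L (vec n p r y)) ∪ Q.image fun φ => pRegularPart p (Z φ : 𝔸 → ℂ)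
  refine ⟨T.image (code r), Q.image code₂, ?_, ?_, ?_⟩
  · rw [card_image_of_injOn hT2, card_image_of_injOn huniq]
    refine le_trans ?_ (add_le_add (card_image_le (f := fun y => L (vec n p r y)))
      (card_image_le (f := fun φ => pRegularPart p (Z φ : 𝔸 → ℂ))))
    refine le_trans ?_ ((finrank_span_finset_le_card (R := ℂ) W).trans (card_union_le _ _))
    refine Submodule.finrank_mono (Submodule.span_le.2 ?_)
    rintro _ ⟨ξ, hξ, rfl⟩
    obtain ⟨φ, hφ, hφξ⟩ := exists_over_sameBlock (M := M) hθ (sameBlock_of_mem hb hθb hξ)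
    have hφW : pRegularPart p (altRes (φ : 𝕊 → ℂ)) ∈ Submodule.span ℂ (W : Set (𝔸 → ℂ)) := by
      rw [pRegularPart_altRes]
      have h1 := Submodule.mem_map_of_mem (f := L) (hT3 (hY φ hφ).vec_mem)
      rw [Submodule.map_span] at h1
      refine Submodule.span_mono ?_ h1
      rintro _ ⟨_, ⟨y, hy, rfl⟩, rfl⟩
      exact mem_coe.2 (mem_union_left _ (mem_image_of_mem (fun y => L (vec n p r y)) (mem_coe.1 hy)))
    show pRegularPart p (ξ : 𝔸 → ℂ) ∈ Submodule.span ℂ (W : Set (𝔸 → ℂ))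
    rcases restrict_cases φ ξ hφξ with ⟨⟨c, hc⟩, -⟩ | ⟨hself, ξ', hsum, hall⟩
    · rw [hc, pRegularPart_smul]
      exact Submodule.smul_mem _ _ hφW
    · have hφQ : φ ∈ Q := mem_filter.2 ⟨mem_univ φ, hφ, hself⟩
      have hZW : pRegularPart p (Z φ : 𝔸 → ℂ) ∈ Submodule.span ℂ (W : Set (𝔸 → ℂ)) :=
        Submodule.subset_span (mem_coe.2 (mem_union_right _
          (mem_image_of_mem (fun φ => pRegularPart p (Z φ : 𝔸 → ℂ)) hφQ)))
      rcases hall _ (hZ φ) with h | h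
      · rwa [h] at hZW
      · have hsub : pRegularPart p (ξ : 𝔸 → ℂ) =
            pRegularPart p (altRes (φ : 𝕊 → ℂ)) - pRegularPart p (ξ' : 𝔸 → ℂ) := by
          funext a
          rw [hsum]
          by_cases ha : IsPRegular p a
          · simp [pRegularPart_of_regular ha]
          · simp [pRegularPart_of_singular ha]
        rw [hsub]
        rw [h] at hZW
        exact sub_mem hφW hZW
  · intro C hC
    obtain ⟨y, hy, rfl⟩ := mem_image.1 hC
    exact ⟨code_weight.trans (hT1 y hy).2.2.1, (hT1 y hy).2.2.2⟩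
  · intro C hC
    obtain ⟨φ, hφ, rfl⟩ := mem_image.1 hC
    obtain ⟨-, h1, h2⟩ := mem_filter.1 hφ
    have e := hY φ h1
    refine ⟨fun q hq => mem_halfCode hq, ?_⟩
    rw [← e.wt_eq_wt hp0 hχ]
    exact halfCode_weight hr hN (e.join_lt hn) (e.selfRefl hn h2) e.runner

/-- At weight at most one the rank is below `p`. -/
theorem alt_blockRank_lt_of_small (hM : IsPModular p M) {b : Set (IrrCharacter 𝔸)}
    (hb : IsPBlock M b) {D : Subgroup 𝔸} (hD : IsDefectGroup p M b D) (hD1 : D ≠ ⊥)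
    {χ : IrrCharacter 𝕊} {θ : IrrCharacter 𝔸} (hθb : θ ∈ b)
    (hθ : classInner (altRes (χ : 𝕊 → ℂ)) (θ : 𝔸 → ℂ) ≠ 0)
    {r x : Fin (p * n) → ℕ} (hr : ∀ i, r i < p) (hχ : Expo n p r x χ) (hw : wt r x ≤ 1) :
    blockRank p b < p := by
  classical
  letI := Chr.irrFintype (G := 𝕊)
  letI := Chr.irrFintype (G := 𝔸)
  haveI : Fintype b := Fintype.ofFinite b
  have hn : n ≤ p * n := le_mul_self_prime
  have hN : p * n = p * n := rfl
  have hp0 := hp.out.pos
  have hp2 := hp.out.two_le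
  set F := univ.filter fun φ : IrrCharacter 𝕊 => SameBlock M (χ : 𝕊 → ℂ) (φ : 𝕊 → ℂ) with hF
  -- one character for each colour
  have hFcard : F.card ≤ p := by
    have hY : ∀ φ ∈ F, ∃ y : Fin (p * n) → ℕ, Expo n p r y φ := fun φ hφ =>
      exists_expo_of_sameBlock hM hn hr hχ (mem_filter.1 hφ).2
    choose Y hY using hY
    rw [← card_attach]
    by_cases h0 : wt r x = 0
    · refine (card_le_one.2 fun φ _ φ' _ => Subtype.ext ?_).trans (by omega)
      have e := hY _ φ.2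
      have e' := hY _ φ'.2
      refine e.eq_of_perm e' (exists_perm_of_code_eq e.runner e'.runner ?_)
      have hz : ∀ y : Fin (p * n) → ℕ, wt r y = 0 → code r y = 0 := fun y hy =>
        Multiset.eq_zero_of_forall_notMem fun q hq => by
          have h1 : 0 < q.2 := (Multiset.mem_filter.1 hq).2
          have h2 := Multiset.le_sum_of_mem (Multiset.mem_map_of_mem Prod.snd hq)
          rw [code_weight, hy] at h2
          omega
      rw [hz _ ((e.wt_eq_wt hp0 hχ).trans h0), hz _ ((e'.wt_eq_wt hp0 hχ).trans h0)]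
    · have h1 : wt r x = 1 := by omega
      refine le_trans (card_le_card_of_injOn (t := (range p).image fun c => ({(c, 1)} : Multiset (ℕ × ℕ)))
        (fun φ => code r (Y _ φ.2)) ?_ ?_) (card_image_le.trans (card_range p).le)
      · intro φ _
        have hw1 : ((code r (Y _ φ.2)).map Prod.snd).sum = 1 :=
          code_weight.trans (((hY _ φ.2).wt_eq_wt hp0 hχ).trans h1)
        obtain ⟨q, hq⟩ : ∃ q, q ∈ code r (Y _ φ.2) := by
          by_contra hne
          push Not at hne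
          rw [Multiset.eq_zero_of_forall_notMem hne] at hw1
          simp at hw1
        obtain ⟨C, hC⟩ := Multiset.exists_cons_of_mem hq
        obtain ⟨hq1, hq2⟩ := Multiset.mem_filter.1 (show q ∈ code r (Y _ φ.2) from hq)
        obtain ⟨i, -, rfl⟩ := Multiset.mem_map.1 hq1
        rw [hC, Multiset.map_cons, Multiset.sum_cons] at hw1
        have hC0 : C = 0 := Multiset.eq_zero_of_forall_notMem fun d hd => by
          have h2 := Multiset.le_sum_of_mem (Multiset.mem_map_of_mem Prod.snd hd)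
          have h3 : 0 < d.2 := (Multiset.mem_filter.1
            (show d ∈ code r (Y _ φ.2) by rw [hC]; exact Multiset.mem_cons_of_mem hd)).2
          simp only at hw1 hq2
          omega
        rw [hC0] at hC hw1
        refine mem_coe.2 (mem_image.2 ⟨r i, mem_range.2 (hr i), ?_⟩)
        simp only [hC, Multiset.map_zero, Multiset.sum_zero, add_zero] at hw1 ⊢
        rw [hw1]
        rfl
      · intro φ _ φ' _ h
        exact Subtype.ext ((hY _ φ.2).eq_of_perm (hY _ φ'.2)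
          (exists_perm_of_code_eq (hY _ φ.2).runner (hY _ φ'.2).runner h))
  -- at most one self associate member
  have hSC : ∀ φ φ' : IrrCharacter 𝕊, φ ∈ F → φ' ∈ F → sgnMul φ = φ → sgnMul φ' = φ' → φ = φ' := by
    intro φ φ' hφ hφ' hs hs'
    obtain ⟨y, e⟩ := exists_expo_of_sameBlock hM hn hr hχ (mem_filter.1 hφ).2
    obtain ⟨y', e'⟩ := exists_expo_of_sameBlock hM hn hr hχ (mem_filter.1 hφ').2
    refine e.eq_of_perm e' (exists_perm_of_halfCode_eq hr hN (e.join_lt hn) (e.selfRefl hn hs)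
      (e'.join_lt hn) (e'.selfRefl hn hs') e.runner e'.runner ?_)
    have key : ∀ z ψ, Expo n p r z ψ → SelfRefl (join p r z) →
        halfCode p n r z = if wt r x = 0 then 0 else {((p + 1) / 2, 1)} := by
      intro z ψ ez hz
      obtain ⟨u, h1, h2, h3⟩ := halfCode_weight hr hN (ez.join_lt hn) hz ez.runner
      rw [ez.wt_eq_wt hp0 hχ] at h1 h2
      have hu : u ≤ 1 := by
        by_contra hu
        have : 2 * 2 ≤ u * u := Nat.mul_le_mul (by omega) (by omega)
        omega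
      split_ifs with hw0
      · refine Multiset.eq_zero_of_forall_notMem fun q hq => ?_
        have hL := Multiset.le_sum_of_mem (Multiset.mem_map_of_mem Prod.snd hq)
        have h4 := (mem_halfCode hq).2.1
        have : u * u ≤ 0 := by omega
        have hu0 : u = 0 := by rcases Nat.eq_zero_or_pos u with h | h <;> [exact h; nlinarith]
        omega
      · obtain ⟨q, hq, hq1⟩ := h3 (by omega)
        obtain ⟨C, hC⟩ := Multiset.exists_cons_of_mem hq
        have h4 := (mem_halfCode hq).2.1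
        rw [hC, Multiset.map_cons, Multiset.sum_cons] at h1
        have hC0 : C = 0 := Multiset.eq_zero_of_forall_notMem fun d hd => by
          have h5 := Multiset.le_sum_of_mem (Multiset.mem_map_of_mem Prod.snd hd)
          have h6 := (mem_halfCode (show d ∈ halfCode p n r z by
            rw [hC]; exact Multiset.mem_cons_of_mem hd)).2.1
          omega
        rw [hC, hC0]
        rw [hC0, Multiset.map_zero, Multiset.sum_zero] at h1
        exact congrArg (· ::ₘ (0 : Multiset (ℕ × ℕ))) (Prod.ext (by omega) (by omega))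
    rw [key y φ e (e.selfRefl hn hs), key y' φ' e' (e'.selfRefl hn hs')]
  -- the members of `b`
  have hover : ∀ ξ : b, ∃ φ ∈ F, classInner (altRes (φ : 𝕊 → ℂ)) ((ξ : IrrCharacter 𝔸) : 𝔸 → ℂ) ≠ 0 :=
    fun ξ => by
      obtain ⟨φ, h1, h2⟩ := exists_over_sameBlock (M := M) hθ (sameBlock_of_mem hb hθb ξ.2)
      exact ⟨φ, mem_filter.2 ⟨mem_univ φ, h1⟩, h2⟩
  choose f hf1 hf2 using hover
  have hsame : ∀ ξ ξ' : b, altRes (f ξ : 𝕊 → ℂ) = altRes (f ξ' : 𝕊 → ℂ) → sgnMul (f ξ) ≠ f ξ →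
      ξ = ξ' := by
    intro ξ ξ' h hne
    rcases restrict_cases (f ξ) ξ.1 (hf2 ξ) with ⟨-, hu⟩ | ⟨hs, -⟩
    · exact Subtype.ext (hu ξ'.1 (h ▸ hf2 ξ')).symm
    · exact absurd hs hne
  have hk : Nat.card b ≤ p := by
    rw [Nat.card_eq_fintype_card]
    by_cases hex : ∃ δ ∈ F, sgnMul δ = δ
    swap
    · push Not at hex
      refine le_trans ?_ hFcard
      rw [← card_univ]
      exact card_le_card_of_injOn f (fun ξ _ => mem_coe.2 (hf1 ξ)) fun ξ _ ξ' _ h =>
        hsame ξ ξ' (by rw [h]) (hex _ (hf1 ξ))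
    obtain ⟨δ, hδ, hδs⟩ := hex
    have hclosed : ∀ φ ∈ F, sgnMul φ ∈ F := by
      intro φ hφ
      refine mem_filter.2 ⟨mem_univ _, ?_⟩
      have hd := (mem_filter.1 hδ).2
      refine sameBlock_trans hd (sameBlock_trans ?_ (sameBlock_sgnMul (mem_filter.1 hφ).2))
      have := sameBlock_sgnMul hd
      rw [hδs] at this
      exact sameBlock_symm this
    obtain ⟨ζ, hζ, hZ⟩ := exists_constituent_restrict (N := 𝔸) δ.2
    have hfib : (univ.filter fun ξ : b => f ξ = δ).card ≤ 2 := by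
      rcases restrict_cases δ ⟨ζ, hζ⟩ hZ with ⟨-, hu⟩ | ⟨-, ζ', -, hu⟩
      · refine (card_le_one.2 fun ξ hξ ξ' hξ' => Subtype.ext ?_).trans one_le_two
        rw [hu ξ.1 ((mem_filter.1 hξ).2 ▸ hf2 ξ), hu ξ'.1 ((mem_filter.1 hξ').2 ▸ hf2 ξ')]
      · refine le_trans (card_le_card_of_injOn (t := ({⟨ζ, hζ⟩, ζ'} : Finset (IrrCharacter 𝔸)))
          (fun ξ => ξ.1) (fun ξ hξ => ?_) fun ξ _ ξ' _ h => Subtype.ext h) card_le_two
        rcases hu ξ.1 ((mem_filter.1 (mem_coe.1 hξ)).2 ▸ hf2 ξ) with h | h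
        · exact mem_coe.2 (by simp [h])
        · exact mem_coe.2 (by simp [h])
    have hsplit := card_filter_add_card_filter_not (s := (univ : Finset b)) fun ξ => f ξ = δ
    rw [card_univ] at hsplit
    have hrest : (univ.filter fun ξ : b => ¬ f ξ = δ).card ≤
        ((F.erase δ).filter fun φ => ∃ ξ : b, f ξ = φ).card := by
      refine card_le_card_of_injOn f (fun ξ hξ => mem_coe.2 (mem_filter.2
        ⟨mem_erase.2 ⟨(mem_filter.1 (mem_coe.1 hξ)).2, hf1 ξ⟩, ξ, rfl⟩)) fun ξ hξ ξ' _ h => ?_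
      exact hsame ξ ξ' (by rw [h]) fun hs => (mem_filter.1 (mem_coe.1 hξ)).2 (hSC _ _ (hf1 ξ) hδ hs hδs)
    by_cases hF1 : F.erase δ = ∅
    · rw [hF1] at hrest
      simp only [filter_empty, card_empty] at hrest
      omega
    obtain ⟨φ₀, hφ₀⟩ := Finset.nonempty_iff_ne_empty.2 hF1
    obtain ⟨hne₀, hφ₀F⟩ := mem_erase.1 hφ₀
    have hns : sgnMul φ₀ ≠ φ₀ := fun h => hne₀ (hSC _ _ hφ₀F hδ h hδs)
    have hne₁ : sgnMul φ₀ ≠ δ := fun h => hne₀ (by rw [← sgnMul_sgnMul φ₀, h, hδs])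
    have hmiss : ∃ φ ∈ F.erase δ, ¬ ∃ ξ : b, f ξ = φ := by
      by_contra hall
      push Not at hall
      obtain ⟨ξ, hξ⟩ := hall φ₀ hφ₀
      obtain ⟨ξ', hξ'⟩ := hall _ (mem_erase.2 ⟨hne₁, hclosed φ₀ hφ₀F⟩)
      have := hsame ξ ξ' (by rw [hξ, hξ', altRes_sgnMul]) (by rw [hξ]; exact hns)
      exact hns (by rw [← hξ', ← this, hξ])
    obtain ⟨φ₁, hφ₁, hφ₁'⟩ := hmiss
    have hlt : ((F.erase δ).filter fun φ => ∃ ξ : b, f ξ = φ).card < (F.erase δ).card :=
      card_lt_card ((ssubset_iff_of_subset (filter_subset _ _)).2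
        ⟨φ₁, hφ₁, fun h => hφ₁' (mem_filter.1 h).2⟩)
    rw [card_erase_of_mem hδ] at hlt
    omega
  refine lt_of_lt_of_le (lt_of_le_of_ne (CfsgLib.BlockB.blockRank_le_card hM hb) fun h => hD1 ?_) hk
  rw [← Subgroup.card_eq_one, card_defectGroup hM hb hD,
    CfsgLib.BlockB.defect_zero_of_rank_eq hM hb h.symm, pow_zero]

end CfsgLib.SymBlocks
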