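import Cfsg.Agent.SymBlocks.DegVal
import Cfsg.Agent.SymBlocks.AltRank
import Cfsg.Agent.Blocks.DefectZeroVanish

/-!
# Alternant characters with the same residues lie in one block
-/

set_option autoImplicit false
set_option linter.style.haveILetI false

namespace CfsgLib.SymBlocks

open Finset Cfsg CfsgLib.Block CfsgLib.Char
open scoped ComplexConjugate

section Generic

variable {G : Type} [Group G] [Fintype G] {M : Ideal AlgInt} [M.IsPrime] {p : ℕ}

/-- A constituent of the section of a member gives a block inducing to its block. -/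
theorem isInducedBlock_of_classInner (hM : IsPModular p M) {B : Set (IrrCharacter G)}
    (hB : IsPBlock M B) {χ : IrrCharacter G} (hχ : χ ∈ B) {x : G} {k : ℕ} (hx : orderOf x = p ^ k)
    [Fintype (Subgroup.centralizer ({x} : Set G))]
    {ξ : IrrCharacter (Subgroup.centralizer ({x} : Set G))}
    (hne : classInner
      (regPart p fun c : Subgroup.centralizer ({x} : Set G) => (χ : G → ℂ) (x * (c : G)))
      (ξ : Subgroup.centralizer ({x} : Set G) → ℂ) ≠ 0) :
    IsInducedBlock M (Subgroup.centralizer ({x} : Set G))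
      (blockOf M (ξ : Subgroup.centralizer ({x} : Set G) → ℂ)) B := by
  classical
  haveI : Fact p.Prime := ⟨hM.1⟩
  set θ : Subgroup.centralizer ({x} : Set G) → ℂ := fun c => (χ : G → ℂ) (x * (c : G)) with hθdef
  by_contra hnot
  refine hne ?_
  letI := Chr.irrFintype (G := Subgroup.centralizer ({x} : Set G))
  have hb := isPBlock_blockOf (M := M) ξ
  have h0 : blockPart (blockOf M (ξ : Subgroup.centralizer ({x} : Set G) → ℂ)) (regPart p θ) = 0 := by
    rw [blockPart_regPart hM hb]
    funext y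
    by_cases hy : p ∣ orderOf y
    · rw [regPart_of_dvd hy]; rfl
    · rw [regPart_of_not_dvd hy]
      exact blockPart_eq_zero_of_not_induced hM hx hB hχ hb hnot y hy
  have h1 := classInner_blockPart (blockOf M (ξ : Subgroup.centralizer ({x} : Set G) → ℂ))
    (regPart p θ) ξ
  rw [if_pos (mem_blockOf_self ξ), h0] at h1
  rw [← h1]
  exact classInner_zero_left _

end Generic

section Orbits

variable {X Y : Type*} [Fintype X] [DecidableEq X] [Fintype Y] [DecidableEq Y]

theorem parts_sumCongr (a : Equiv.Perm X) (b : Equiv.Perm Y) :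
    parts (Equiv.Perm.sumCongr a b) = parts a + parts b := by
  classical
  have hz : ∀ i : ℤ, Equiv.Perm.sumCongr a b ^ i = Equiv.Perm.sumCongr (a ^ i) (b ^ i) := fun i =>
    (map_zpow (Equiv.Perm.sumCongrHom X Y) (a, b) i).symm
  have hl : ∀ x, orb (Equiv.Perm.sumCongr a b) (Sum.inl x) =
      (orb a x).map ⟨Sum.inl, Sum.inl_injective⟩ := by
    intro x
    ext z
    simp only [mem_orb, mem_map, Function.Embedding.coeFn_mk, Equiv.Perm.SameCycle, hz,
      Equiv.Perm.sumCongr_apply, Sum.map_inl]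
    constructor
    · rintro ⟨i, rfl⟩; exact ⟨_, ⟨i, rfl⟩, rfl⟩
    · rintro ⟨y, ⟨i, rfl⟩, rfl⟩; exact ⟨i, rfl⟩
  have hr : ∀ y, orb (Equiv.Perm.sumCongr a b) (Sum.inr y) =
      (orb b y).map ⟨Sum.inr, Sum.inr_injective⟩ := by
    intro y
    ext z
    simp only [mem_orb, mem_map, Function.Embedding.coeFn_mk, Equiv.Perm.SameCycle, hz,
      Equiv.Perm.sumCongr_apply, Sum.map_inr]
    constructor
    · rintro ⟨i, rfl⟩; exact ⟨_, ⟨i, rfl⟩, rfl⟩
    · rintro ⟨y, ⟨i, rfl⟩, rfl⟩; exact ⟨i, rfl⟩
  have himg : orbs (Equiv.Perm.sumCongr a b) =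
      (orbs a).image (fun S => S.map ⟨Sum.inl, Sum.inl_injective⟩) ∪
        (orbs b).image (fun S => S.map ⟨Sum.inr, Sum.inr_injective⟩) := by
    ext S
    simp only [mem_orbs, mem_union, mem_image]
    constructor
    · rintro ⟨x | y, rfl⟩
      · exact Or.inl ⟨_, ⟨x, rfl⟩, (hl x).symm⟩
      · exact Or.inr ⟨_, ⟨y, rfl⟩, (hr y).symm⟩
    · rintro (⟨_, ⟨x, rfl⟩, rfl⟩ | ⟨_, ⟨y, rfl⟩, rfl⟩)
      · exact ⟨_, hl x⟩
      · exact ⟨_, hr y⟩
  have hd : Disjoint ((orbs a).image fun S => S.map ⟨Sum.inl, Sum.inl_injective⟩)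
      ((orbs b).image fun S => (S.map ⟨Sum.inr, Sum.inr_injective⟩ : Finset (X ⊕ Y))) := by
    rw [Finset.disjoint_left]
    intro S hS hS'
    obtain ⟨_, hT, rfl⟩ := mem_image.1 hS
    obtain ⟨_, hU, he⟩ := mem_image.1 hS'
    obtain ⟨x, rfl⟩ := mem_orbs.1 hT
    have := mem_map_of_mem ⟨Sum.inl, Sum.inl_injective (β := Y)⟩ (mem_orb_self a x)
    rw [← he] at this
    obtain ⟨y, -, hy⟩ := mem_map.1 this
    exact Sum.inr_ne_inl hy
  rw [parts, himg, ← disjUnion_eq_union _ _ hd, disjUnion_val, Multiset.map_add,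
    image_val_of_injOn (Set.injOn_of_injective (Finset.map_injective _)),
    image_val_of_injOn (Set.injOn_of_injective (Finset.map_injective _)),
    Multiset.map_map, Multiset.map_map, parts, parts]
  congr 1 <;> exact Multiset.map_congr rfl fun S _ => card_map _

end Orbits

section Model

variable {n p : ℕ} [hp : Fact p.Prime] {w m : ℕ} (ε : Pts p w m ≃ Fin n)

/-- The permutations of the fixed points. -/
noncomputable def incl : Equiv.Perm (Fin m) →* Equiv.Perm (Fin n) :=
  ε.permCongrHom.toMonoidHom.comp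
    ((Equiv.Perm.sumCongrHom (Fin w × ZMod p) (Fin m)).comp (MonoidHom.inr _ _))

theorem incl_apply (π : Equiv.Perm (Fin m)) :
    incl ε π = ε.permCongr (Equiv.Perm.sumCongr (1 : Equiv.Perm (Fin w × ZMod p)) π) := rfl

theorem incl_injective : Function.Injective (incl ε) := fun a b h => by
  have h1 := Equiv.Perm.sumCongrHom_injective (ε.permCongrHom.injective h)
  exact (Prod.ext_iff.1 h1).2

theorem incl_commute (π : Equiv.Perm (Fin m)) :
    Commute (incl ε π) (ε.permCongr (cyclesPerm p w m)) := by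
  show ε.permCongrHom _ * ε.permCongrHom (cyclesPerm p w m) =
    ε.permCongrHom (cyclesPerm p w m) * ε.permCongrHom _
  rw [← map_mul, ← map_mul]
  refine congrArg _ (Equiv.ext ?_)
  rintro (⟨j, a⟩ | b) <;> rfl

theorem mem_incl_range {g : Equiv.Perm (Fin n)} :
    g ∈ (incl ε).range ↔ ∀ z, g (ε (Sum.inl z)) = ε (Sum.inl z) := by
  constructor
  · rintro ⟨π, rfl⟩ z
    rw [incl_apply, Equiv.permCongr_apply, Equiv.symm_apply_apply]
    rfl
  · intro h
    set g' := ε.symm.permCongr g with hg'
    have hfix : ∀ z, g' (Sum.inl z) = Sum.inl z := fun z => by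
      rw [hg', Equiv.permCongr_apply, Equiv.symm_symm, h, Equiv.symm_apply_apply]
    obtain ⟨⟨a, π⟩, hπ⟩ := Equiv.Perm.mem_sumCongrHom_range_of_perm_mapsTo_inl (σ := g') (by
      rintro _ ⟨z, rfl⟩
      exact ⟨z, (hfix z).symm⟩)
    have ha : a = 1 := Equiv.ext fun z => Sum.inl_injective (by
      have := congrArg (fun q : Equiv.Perm (Pts p w m) => q (Sum.inl z)) hπ
      simp only [Equiv.Perm.sumCongrHom_apply, Equiv.Perm.sumCongr_apply, Sum.map_inl] at this
      rw [this, hfix]
      rfl)
    refine ⟨π, ?_⟩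
    subst ha
    rw [incl_apply]
    rw [Equiv.Perm.sumCongrHom_apply] at hπ
    rw [hπ, hg']
    exact Equiv.ext fun z => by simp [Equiv.permCongr_apply]

/-- A regular element centralizing the cycles that maps each cycle to itself fixes their points. -/
theorem mem_incl_range_of_preserves {g : Equiv.Perm (Fin n)}
    (hg : Commute g (ε.permCongr (cyclesPerm p w m))) (hreg : ¬ p ∣ orderOf g)
    (hpres : ∀ j a, ∃ b, g (ε (Sum.inl (j, a))) = ε (Sum.inl (j, b))) : g ∈ (incl ε).range := by
  rw [mem_incl_range]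
  choose b hb using hpres
  have hu : ∀ j a, ε.permCongr (cyclesPerm p w m) (ε (Sum.inl (j, a))) = ε (Sum.inl (j, a + 1)) :=
    fun j a => by rw [Equiv.permCongr_apply, Equiv.symm_apply_apply, cyclesPerm_inl]
  have hstep : ∀ j a, b j (a + 1) = b j a + 1 := by
    intro j a
    have h := congrArg (fun q : Equiv.Perm (Fin n) => q (ε (Sum.inl (j, a)))) hg.eq
    simp only [Equiv.Perm.mul_apply, hu, hb] at h
    simpa using ε.injective h
  have hlin : ∀ (j : Fin w) (k : ℕ), b j (k : ZMod p) = b j 0 + k := by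
    intro j k
    induction k with
    | zero => simp
    | succ k ih => push_cast; rw [hstep, ih, add_assoc]
  have hpow : ∀ (j : Fin w) (k : ℕ),
      (g ^ k) (ε (Sum.inl (j, 0))) = ε (Sum.inl (j, (k : ZMod p) * b j 0)) := by
    intro j k
    induction k with
    | zero => simp
    | succ k ih =>
      rw [pow_succ', Equiv.Perm.mul_apply, ih, hb]
      congr 3
      rw [← ZMod.natCast_zmod_val ((k : ZMod p) * b j 0), hlin, ZMod.natCast_zmod_val]
      push_cast
      ring
  rintro ⟨j, a⟩
  have h0 : b j 0 = 0 := by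
    have h := hpow j (orderOf g)
    rw [pow_orderOf_eq_one, Equiv.Perm.one_apply] at h
    have h2 := ε.injective h
    simp only [Sum.inl.injEq, Prod.mk.injEq, true_and] at h2
    refine (mul_eq_zero.1 h2.symm).resolve_left fun h3 => hreg ?_
    exact (CharP.cast_eq_zero_iff (ZMod p) p _).1 h3
  rw [hb, ← ZMod.natCast_zmod_val a, hlin, h0, zero_add]

theorem parts_mul_incl (π : Equiv.Perm (Fin m)) :
    parts (ε.permCongr (cyclesPerm p w m) * incl ε π) = Multiset.replicate w p + parts π := by
  classical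
  have hc := parts_cyclesPerm (p := p) (w := w) (m := 0)
  rw [Multiset.replicate_zero, add_zero] at hc
  set a : Equiv.Perm (Fin w × ZMod p) :=
    { toFun := fun z => (z.1, z.2 + 1)
      invFun := fun z => (z.1, z.2 - 1)
      left_inv := fun z => by simp
      right_inv := fun z => by simp } with ha
  have hm : ε.permCongr (cyclesPerm p w m) * incl ε π =
      ε.permCongr (Equiv.Perm.sumCongr a π) := by
    rw [incl_apply]
    show ε.permCongrHom _ * ε.permCongrHom _ = ε.permCongrHom _
    rw [← map_mul]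
    refine congrArg _ (Equiv.ext ?_)
    rintro (⟨j, c⟩ | c) <;> rfl
  have h1 : parts a = Multiset.replicate w p := by
    rw [← hc, show cyclesPerm p w 0 = Equiv.Perm.sumCongr a 1 from Equiv.ext (by
      rintro (⟨j, c⟩ | c) <;> rfl), parts_sumCongr, parts_one]
    simp
  rw [hm, parts_permCongr, parts_sumCongr, h1]

end Model

variable {N n p : ℕ} [hp : Fact p.Prime] {M : Ideal AlgInt} [M.IsPrime]

/-- Converse of Nakayama's rule. -/
theorem sameBlock_of_residues (hM : IsPModular p M) {r y y' : Fin N → ℕ} (hr : ∀ i, r i < p)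
    (hy : ∀ i j, i < j → r i = r j → y i < y j) (hy' : ∀ i j, i < j → r i = r j → y' i < y' j)
    {χ χ' : IrrCharacter (Equiv.Perm (Fin n))} (hχ : Expo n p r y χ) (hχ' : Expo n p r y' χ') :
    SameBlock M (χ : Equiv.Perm (Fin n) → ℂ) (χ' : Equiv.Perm (Fin n) → ℂ) := by
  classical
  have hp0 := hp.out.pos
  set w := wt r y with hw
  have hw' : wt r y' = w := hχ'.wt_eq_wt hp0 hχ
  have hlow : ∀ i j, i < j → r i = r j → low r i < low r j := fun i j hij hrij => by
    rw [← rnk_eq_low hy, ← rnk_eq_low hy]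
    exact rnk_lt_rnk hrij (hy i j hij hrij)
  have hlinj := join_injective hr (runner_injective hlow)
  have hge := tri_le_sum hlinj
  have hsum : p * w + ∑ i, join p r (low r) i = tri N + n := by
    rw [← hχ.1, sum_join, sum_join, ← sum_low_le hy, mul_add]
    ring
  set m := n - p * w with hm
  have hcore : ∑ i, join p r (low r) i = tri N + m := by omega
  set ε : Pts p w m ≃ Fin n := Fintype.equivFinOfCardEq (by
    simp only [Fintype.card_sum, Fintype.card_prod, Fintype.card_fin, ZMod.card]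
    rw [hm, mul_comm w p]
    omega) with hε
  set u := ε.permCongr (cyclesPerm p w m) with hu
  obtain ⟨c, hc, hval⟩ := chm_replicate_add hr m w y hy rfl (by rw [hχ.1]; omega)
  obtain ⟨c', hc', hval'⟩ := chm_replicate_add hr m w y' hy' hw' (by rw [hχ'.1]; omega)
  set core : Equiv.Perm (Fin m) → ℂ := chi m (join p r (low r)) with hcoredef
  obtain ⟨e, he, hφ⟩ := hχ.2.2
  obtain ⟨e', he', hφ'⟩ := hχ'.2.2
  have hsec : ∀ π, (χ : Equiv.Perm (Fin n) → ℂ) (u * incl ε π) = e * c * core π := fun π => by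
    rw [hφ, Pi.smul_apply, smul_eq_mul, chi, hu, parts_mul_incl, hval, hcoredef, chi]
    push_cast
    ring
  have hsec' : ∀ π, (χ' : Equiv.Perm (Fin n) → ℂ) (u * incl ε π) = e' * c' * core π := fun π => by
    rw [hφ', Pi.smul_apply, smul_eq_mul, chi, hu, parts_mul_incl, hval', hcoredef, chi]
    push_cast
    ring
  -- the core is a character of defect zero
  obtain ⟨φ₀, s, hs0, hφ₀⟩ : ∃ (φ₀ : IrrCharacter (Equiv.Perm (Fin m))) (s : ℂ), s ≠ 0 ∧
      (φ₀ : Equiv.Perm (Fin m) → ℂ) = s • core := by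
    rcases chi_isIrr_or_neg hlinj hcore with h | h
    · exact ⟨⟨_, h⟩, 1, one_ne_zero, (one_smul _ _).symm⟩
    · exact ⟨⟨_, h⟩, -1, by norm_num, (neg_one_smul ℂ core).symm⟩
  have hwlow : wt r (low r) = 0 := sum_eq_zero fun i _ => by
    unfold part; rw [rnk_eq_low hlow]; omega
  have hexp : Expo m p r (low r) φ₀ := ⟨hcore, hlinj, s, hs0, hφ₀⟩
  have hhv : hv p r (low r) = 0 := sum_eq_zero fun i _ => by
    have hsub : ∏ j ∈ univ.filter (fun j => r j = r i ∧ low r j < low r i), (low r i - low r j) =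
        (low r i).factorial := by
      rw [← Finset.prod_Ico_id_eq_factorial]
      refine prod_nbij (fun j => low r i - low r j) (fun j hj => ?_) (fun j hj k hk h => ?_)
        (fun v hv => ?_) fun j _ => rfl
      · have := (mem_filter.1 hj).2.2
        exact mem_Ico.2 ⟨by omega, by omega⟩
      · obtain ⟨-, h1, h2⟩ := mem_filter.1 (mem_coe.1 hj)
        obtain ⟨-, h3, h4⟩ := mem_filter.1 (mem_coe.1 hk)
        simp only at h
        exact runner_injective hlow j k (h1.trans h3.symm) (by omega)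
      · obtain ⟨h1, h2⟩ := mem_Ico.1 (mem_coe.1 hv)
        have hsub : (univ.filter fun j => r j = r i ∧ low r j < low r i).image (low r) =
            range (low r i) := by
          refine eq_of_subset_of_card_le (fun q hq => ?_) ?_
          · obtain ⟨j, hj, rfl⟩ := mem_image.1 hq
            exact mem_range.2 (mem_filter.1 hj).2.2
          · rw [card_range, card_image_of_injOn fun a ha b hb h => runner_injective hlow a b
              ((mem_filter.1 ha).2.1.trans (mem_filter.1 hb).2.1.symm) h]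
            exact le_of_eq (rnk_eq_low hlow i).symm
        have hmem : low r i - v ∈ range (low r i) := mem_range.2 (by omega)
        rw [← hsub] at hmem
        obtain ⟨j, hj, hj2⟩ := mem_image.1 hmem
        exact ⟨j, mem_coe.2 hj, by show low r i - low r j = v; omega⟩
    rw [← Finset.sum_apply', ← Nat.factorization_prod fun j hj => by
      have := (mem_filter.1 hj).2.2; omega, hsub, Nat.sub_self]
  have hdz : ∀ π : Equiv.Perm (Fin m), p ∣ orderOf π → core π = 0 := by
    intro π hπ
    have h := hexp.degree_val hp.out hr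
    rw [hwlow, hhv, add_zero, add_zero] at h
    have h2 := eq_zero_of_defectZero hp.out φ₀ (by
      rw [Nat.card_perm, Nat.card_fin, ← h]; exact Nat.ordProj_dvd _ _) hπ
    rw [hφ₀, Pi.smul_apply, smul_eq_mul] at h2
    exact (mul_eq_zero.1 h2).resolve_left hs0
  -- the section
  set H := Subgroup.centralizer ({u} : Set (Equiv.Perm (Fin n))) with hH
  haveI : Fintype H := Fintype.ofFinite _
  letI := Chr.irrFintype (G := H)
  set j : Equiv.Perm (Fin m) →* H := (incl ε).codRestrict H
    (fun π => Subgroup.mem_centralizer_singleton_iff.2 (incl_commute ε π).eq) with hj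
  have hjinj : Function.Injective j := fun a b h => incl_injective ε (congrArg Subtype.val h)
  set K : Subgroup H := j.range with hK
  have hKmem : ∀ g : H, g ∈ K ↔ (g : Equiv.Perm (Fin n)) ∈ (incl ε).range := fun g =>
    ⟨fun ⟨π, hπ⟩ => ⟨π, congrArg Subtype.val hπ⟩, fun ⟨π, hπ⟩ => ⟨π, Subtype.ext hπ⟩⟩
  have hinlmem : ∀ (h : H) z, ∃ z', (h : Equiv.Perm (Fin n)) (ε (Sum.inl z)) = ε (Sum.inl z') := by
    intro h z
    obtain ⟨v, hv⟩ := ε.surjective ((h : Equiv.Perm (Fin n)) (ε (Sum.inl z)))
    rcases v with z' | q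
    · exact ⟨z', hv.symm⟩
    · exfalso
      have hcomm := congrArg (fun q : Equiv.Perm (Fin n) => q (ε (Sum.inl z)))
        (Subgroup.mem_centralizer_singleton_iff.1 h.2)
      simp only [Equiv.Perm.mul_apply, hu, Equiv.permCongr_apply, Equiv.symm_apply_apply] at hcomm
      rw [← hv, Equiv.symm_apply_apply, cyclesPerm_inr, hv] at hcomm
      obtain ⟨z1, z2⟩ := z
      rw [cyclesPerm_inl] at hcomm
      have := ε.injective ((h : Equiv.Perm (Fin n)).injective hcomm)
      simp at this
  haveI : K.Normal := ⟨fun g hg h => (hKmem _).2 ((mem_incl_range ε).2 fun z => by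
    obtain ⟨z', hz'⟩ := hinlmem h⁻¹ z
    have hfix := (mem_incl_range ε).1 ((hKmem g).1 hg) z'
    show ((h : Equiv.Perm (Fin n)) * g * (h : Equiv.Perm (Fin n))⁻¹) (ε (Sum.inl z)) = _
    rw [Equiv.Perm.mul_apply, Equiv.Perm.mul_apply]
    rw [Subgroup.coe_inv] at hz'
    rw [hz', hfix, ← hz']
    exact Equiv.apply_symm_apply _ _)⟩
  haveI : Fintype K := Fintype.ofFinite _
  set eK : Equiv.Perm (Fin m) ≃* K := MonoidHom.ofInjective hjinj with heK
  set θ : IrrCharacter (Equiv.Perm (Fin n)) → H → ℂ :=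
    fun φ g => (φ : Equiv.Perm (Fin n) → ℂ) (u * (g : Equiv.Perm (Fin n))) with hθ
  have hθcl : ∀ φ, IsClassFunction H (θ φ) := by
    intro φ g v
    have hv : Commute u (v : Equiv.Perm (Fin n)) :=
      (Subgroup.mem_centralizer_singleton_iff.1 v.2).symm
    show (φ : Equiv.Perm (Fin n) → ℂ) (u * ((v * g * v⁻¹ : H) : Equiv.Perm (Fin n))) = (φ : Equiv.Perm (Fin n) → ℂ) (u * g)
    rw [← Chr.isClassFunction_irr φ (u * (g : Equiv.Perm (Fin n))) (v : Equiv.Perm (Fin n))]
    push_cast
    refine congrArg (φ : Equiv.Perm (Fin n) → ℂ) ?_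
    calc u * ((v : Equiv.Perm (Fin n)) * g * (v : Equiv.Perm (Fin n))⁻¹) =
        (u * v) * g * (v : Equiv.Perm (Fin n))⁻¹ := by group
      _ = v * (u * g) * (v : Equiv.Perm (Fin n))⁻¹ := by rw [hv.eq]; group
  set f : H → ℂ := fun g => if g ∈ K then regPart p (θ χ) g else 0 with hf
  have hrcl : ∀ φ, IsClassFunction H (regPart p (θ φ)) := fun φ g v => by
    have ho : orderOf (v * g * v⁻¹) = orderOf g :=
      orderOf_injective (MulAut.conj v).toMonoidHom (MulAut.conj v).injective g
    by_cases hg : p ∣ orderOf g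
    · rw [regPart_of_dvd hg, regPart_of_dvd (by rw [ho]; exact hg)]
    · rw [regPart_of_not_dvd hg, regPart_of_not_dvd (by rw [ho]; exact hg), hθcl φ g v]
  have horder : ∀ π, orderOf (j π) = orderOf π := fun π => orderOf_injective j hjinj π
  have hfK : ∀ π, f (j π) = e * c * core π := by
    intro π
    simp only [hf, hK, MonoidHom.mem_range, exists_apply_eq_apply, if_true]
    by_cases hπ : p ∣ orderOf π
    · rw [regPart_of_dvd (by rwa [horder]), hdz π hπ, mul_zero]
    · rw [regPart_of_not_dvd (by rwa [horder])]; exact hsec π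
  -- the restriction of a constituent of `f` to `K` meets the core
  set ψ₀ : IrrCharacter K := ⟨fun g => (φ₀ : Equiv.Perm (Fin m) → ℂ) (eK.symm g),
    IsIrrCharacter.comp_surjective φ₀.2 eK.symm.toMonoidHom eK.symm.surjective⟩
  have hconst : ∀ ξ : IrrCharacter H, classInner f (ξ : H → ℂ) ≠ 0 →
      classInner (fun g : K => (ξ : H → ℂ) g) (ψ₀ : K → ℂ) ≠ 0 := by
    intro ξ hξ h0
    refine hξ ?_
    rw [CfsgLib.Char.classInner_def, sum_eq_sum_subgroup K _ fun g hg => by simp [hf, hg]]
    have h1 : ∑ g : K, f g * conj ((ξ : H → ℂ) g) =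
        e * c * s⁻¹ * ∑ g : K, (ψ₀ : K → ℂ) g * conj ((ξ : H → ℂ) g) := by
      rw [mul_sum]
      refine sum_congr rfl fun g _ => ?_
      obtain ⟨π, rfl⟩ := eK.surjective g
      show f (j π) * _ = _
      rw [hfK]
      show _ = _ * (((φ₀ : Equiv.Perm (Fin m) → ℂ) (eK.symm (eK π))) * _)
      rw [MulEquiv.symm_apply_apply, hφ₀, Pi.smul_apply, smul_eq_mul]
      field_simp
    have h2 := congrArg conj h0
    rw [classInner_conj, map_zero, CfsgLib.Char.classInner_def, mul_eq_zero] at h2
    rw [h1, h2.resolve_left (inv_ne_zero (Nat.cast_ne_zero.2 Nat.card_pos.ne')), mul_zero, mul_zero]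
  -- a constituent for each section
  have hexists : ∀ (φ : IrrCharacter (Equiv.Perm (Fin n))) (a : ℂ), a ≠ 0 →
      (∀ π, (φ : Equiv.Perm (Fin n) → ℂ) (u * incl ε π) = a * core π) →
      ∃ ξ : IrrCharacter H, classInner (regPart p (θ φ)) (ξ : H → ℂ) ≠ 0 ∧
        classInner f (ξ : H → ℂ) ≠ 0 := by
    intro φ a ha hφa
    by_contra hnone
    push Not at hnone
    have h0 : classInner (regPart p (θ φ)) f = 0 := by
      rw [classInner_eq_sum_irr (hrcl φ)]
      refine sum_eq_zero fun ξ hξ => ?_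
      by_cases h : classInner (regPart p (θ φ)) ξ = 0
      · rw [h, zero_mul]
      · rw [hnone ⟨ξ, mem_irrFinset.1 hξ⟩ h, map_zero, mul_zero]
    rw [CfsgLib.Char.classInner_def, mul_eq_zero, sum_eq_sum_subgroup K _ fun g hg => by simp [hf, hg]]
      at h0
    have h1 := h0.resolve_left (inv_ne_zero (Nat.cast_ne_zero.2 Nat.card_pos.ne'))
    rw [← Equiv.sum_comp eK.toEquiv] at h1
    have h2 : ∀ π, regPart p (θ φ) (j π) * conj (f (j π)) =
        a * conj (e * (c : ℂ)) * ((‖core π‖ ^ 2 : ℝ) : ℂ) := by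
      intro π
      rw [hfK, map_mul]
      by_cases hπ : p ∣ orderOf π
      · rw [regPart_of_dvd (by rwa [horder]), hdz π hπ]; simp
      · rw [regPart_of_not_dvd (by rwa [horder])]
        show (φ : Equiv.Perm (Fin n) → ℂ) (u * incl ε π) * _ = _
        rw [hφa, mul_mul_mul_comm, Complex.mul_conj']
        push_cast
        rfl
    replace h1 : ∑ π, regPart p (θ φ) (j π) * conj (f (j π)) = 0 := h1
    rw [sum_congr rfl fun π _ => h2 π, ← mul_sum, ← Complex.ofReal_sum,
      mul_eq_zero, Complex.ofReal_eq_zero] at h1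
    have h3 := h1.resolve_left (mul_ne_zero ha (by
      simp only [ne_eq, map_eq_zero]
      exact mul_ne_zero he (Int.cast_ne_zero.2 hc.ne')))
    have h4 := (sum_eq_zero_iff_of_nonneg fun π _ => sq_nonneg _).1 h3 1 (mem_univ _)
    simp only [pow_eq_zero_iff two_ne_zero, norm_eq_zero, hcoredef, chi_one, Int.cast_eq_zero] at h4
    exact deg_ne_zero hlinj hcore h4
  obtain ⟨ξ, hξ, hξf⟩ := hexists χ (e * c) (mul_ne_zero he (Int.cast_ne_zero.2 hc.ne')) hsec
  obtain ⟨ξ', hξ', hξf'⟩ := hexists χ' (e' * c') (mul_ne_zero he' (Int.cast_ne_zero.2 hc'.ne')) hsec'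
  have hco := hconst ξ hξf
  have hco' := hconst ξ' hξf'
  -- one block of the centralizer
  set E : Subgroup (Equiv.Perm (Fin n)) := (cyc' ε).range with hE
  set E' : Subgroup H := E.subgroupOf H with hE'
  haveI : E'.Normal := ⟨fun g hg h => by
    obtain ⟨v, hv⟩ := (Subgroup.mem_subgroupOf.1 hg : (g : Equiv.Perm (Fin n)) ∈ E)
    refine Subgroup.mem_subgroupOf.2 ?_
    show (h : Equiv.Perm (Fin n)) * g * (h : Equiv.Perm (Fin n))⁻¹ ∈ E
    rw [← hv]
    exact cyc'_normal ε (Subgroup.mem_centralizer_singleton_iff.1 h.2) v⟩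
  have hE'p : IsPGroup p E' := IsPGroup.comap_of_injective (fun g => ⟨1, by
    obtain ⟨_, v, rfl⟩ := g
    refine Subtype.ext ?_
    rw [SubmonoidClass.coe_pow, pow_one, ← map_pow, mul_left_pow_eq_one, map_one]
    rfl⟩) H.subtype H.subtype_injective
  have hsame : SameBlock M (ξ : H → ℂ) (ξ' : H → ℂ) := by
    refine sameBlock_of_regular hM ξ ξ' fun g hg => ?_
    by_cases hgC : g ∈ Subgroup.centralizer (E' : Set H)
    · have hgK : g ∈ K := by
        refine (hKmem g).2 (mem_incl_range_of_preserves ε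
          (Subgroup.mem_centralizer_singleton_iff.1 g.2) (by rwa [Subgroup.orderOf_coe]) ?_)
        intro i a
        obtain ⟨⟨i', b⟩, hb⟩ := hinlmem g (i, a)
        by_cases hi : i' = i
        · exact ⟨b, by rw [hb, hi]⟩
        exfalso
        set v : Multiplicative (Fin w → ZMod p) := Multiplicative.ofAdd (Pi.single i 1)
        have hvmem : cyc' ε v ∈ E := ⟨v, rfl⟩
        have hvH : cyc' ε v ∈ H :=
          Subgroup.mem_centralizer_singleton_iff.2 (cyc'_centralize ε v).eq
        have hcm := congrArg Subtype.val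
          (Subgroup.mem_centralizer_iff.1 hgC ⟨_, hvH⟩ (Subgroup.mem_subgroupOf.2 hvmem))
        have h5 := congrArg (fun q : Equiv.Perm (Fin n) => q (ε (Sum.inl (i, a)))) hcm
        have happ : ∀ i₀ a₀, cyc' ε v (ε (Sum.inl (i₀, a₀))) =
            ε (Sum.inl (i₀, a₀ + Pi.single (M := fun _ : Fin w => ZMod p) i 1 i₀)) := by
          intro i₀ a₀
          show ε.permCongr (shift p w m v) _ = _
          rw [Equiv.permCongr_apply, Equiv.symm_apply_apply, shift_inl]
          rfl
        simp only [Subgroup.coe_mul, Equiv.Perm.mul_apply, happ, hb, Pi.single_eq_same,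
          Pi.single_eq_of_ne hi, add_zero] at h5
        have := ε.injective ((g : Equiv.Perm (Fin n)).injective (hb.trans h5))
        simp at this
      have h6 := centralChar_eq_of_constituent hco ⟨g, hgK⟩
      have h7 := centralChar_eq_of_constituent hco' ⟨g, hgK⟩
      rw [h6, h7, sub_self]
      exact memLocalIdeal_zero
    · exact memLocalIdeal_sub (centralChar_mem_ideal_of_normal hM E' hE'p ξ hgC)
        (centralChar_mem_ideal_of_normal hM E' hE'p ξ' hgC)
  obtain ⟨k, hk⟩ := orderOf_cyc ε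
  have hind := isInducedBlock_of_classInner hM (isPBlock_blockOf χ) (mem_blockOf_self χ) hk hξ
  have hind' := isInducedBlock_of_classInner hM (isPBlock_blockOf χ') (mem_blockOf_self χ') hk hξ'
  intro g
  exact memLocalIdeal_sub_trans
    (memLocalIdeal_sub_comm (hind.2.2 ξ' hsame χ (mem_blockOf_self χ) g))
    (hind'.2.2 ξ' (mem_blockOf_self ξ') χ' (mem_blockOf_self χ') g)

end CfsgLib.SymBlocks
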