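import Cfsg.Agent.SymBlocks.Witness
import Cfsg.Agent.SymBlocks.NakayamaConv
import Cfsg.Agent.SymBlocks.AltSpan

/-!
# Degrees and heights in a block of an alternating group
-/

set_option autoImplicit false
set_option linter.style.haveILetI false

namespace CfsgLib.SymBlocks

open Finset Cfsg CfsgLib.Block CfsgLib.Char
open scoped ComplexConjugate

variable {N n p : ℕ}

local notation "𝕊" => Equiv.Perm (Fin n)
local notation "𝔸" => alternatingGroup (Fin n)

section Split

/-- A split with exactly one carry. -/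
theorem exists_split (hp : p.Prime) {w : ℕ} (hw : p ≤ w) :
    (∃ k, k ≤ w ∧ k.factorial.factorization p + (w - k).factorial.factorization p + 1 =
      w.factorial.factorization p) ∨
    (w % p = p - 1 ∧ (w - w % p).factorization p = 1 ∧
      (w - p).factorial.factorization p + 1 = w.factorial.factorization p) := by
  set r := w % p with hr
  have hrlt : r < p := Nat.mod_lt _ hp.pos
  set v := (w - r).factorization p with hv
  have hwr : w - r ≠ 0 := by omega
  have hdiv : p ∣ w - r := hr ▸ Nat.dvd_sub_mod w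
  have hv1 : 1 ≤ v := (hp.dvd_iff_one_le_factorization hwr).1 hdiv
  have hpv : p ^ v ∣ w - r := Nat.ordProj_dvd _ _
  have hnot : ¬ p ^ (v + 1) ∣ w - r := Nat.pow_succ_factorization_not_dvd hwr hp
  have hple : p ≤ p ^ v := Nat.le_self_pow (by omega) p
  have hmodv : w % p ^ v = r := by
    obtain ⟨q, hq⟩ := hpv
    rw [show w = r + p ^ v * q by omega, Nat.add_mul_mod_self_left, Nat.mod_eq_of_lt (by omega)]
  have hhigh : ∀ i, v < i → p ^ v ≤ w % p ^ i := by
    intro i hi
    by_contra hlt
    have h1 : w % p ^ i = r := by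
      rw [← hmodv, ← Nat.mod_mod_of_dvd w (pow_dvd_pow p hi.le), Nat.mod_eq_of_lt (not_le.1 hlt)]
    refine hnot ((pow_dvd_pow p hi).trans ?_)
    rw [← h1]
    exact Nat.dvd_sub_mod w
  have hb : Nat.log p w < w + 1 := Nat.lt_succ_of_le (Nat.log_le_self p w)
  have hvw : v < w + 1 := by
    have h1 : p ^ v ≤ w - r := Nat.le_of_dvd (Nat.pos_of_ne_zero hwr) hpv
    have h2 : v < p ^ v := Nat.lt_pow_self hp.one_lt
    omega
  have hchoose : ∀ k ≤ w, (w.choose k).factorization p + k.factorial.factorization p +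
      (w - k).factorial.factorization p = w.factorial.factorization p := by
    intro k hk
    have h := congrArg (fun q : ℕ => q.factorization p) (Nat.choose_mul_factorial_mul_factorial hk)
    rw [Nat.factorization_mul (Nat.mul_ne_zero (Nat.choose_pos hk).ne' (Nat.factorial_ne_zero _))
      (Nat.factorial_ne_zero _), Finsupp.add_apply,
      Nat.factorization_mul (Nat.choose_pos hk).ne' (Nat.factorial_ne_zero _), Finsupp.add_apply] at h
    exact h
  -- one carry at the position of `v`
  have hcarry : ∀ k, r < k → k < p ^ v → k ≤ w → (∀ i, 1 ≤ i → i < v → k % p ^ i = 0) →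
      (w.choose k).factorization p = 1 := by
    intro k hrk hkv hkw hlow
    rw [Nat.factorization_choose hp hkw hb, card_eq_one]
    refine ⟨v, ?_⟩
    ext i
    rw [mem_filter, mem_Ico, mem_singleton]
    constructor
    · rintro ⟨⟨hi1, -⟩, hle⟩
      by_contra hne
      rcases lt_or_gt_of_ne hne with hi | hi
      · rw [hlow i hi1 hi, zero_add] at hle
        exact absurd hle (not_le.2 (Nat.mod_lt _ (pow_pos hp.pos i)))
      · have h1 := hhigh i hi
        have hki : k % p ^ i = k := Nat.mod_eq_of_lt (hkv.trans (Nat.pow_lt_pow_right hp.one_lt hi))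
        have h2 : (w - k) % p ^ i = w % p ^ i - k := by
          have e := Nat.mod_add_div w (p ^ i)
          rw [show w - k = (w % p ^ i - k) + p ^ i * (w / p ^ i) by omega, Nat.add_mul_mod_self_left,
            Nat.mod_eq_of_lt (by have := Nat.mod_lt w (pow_pos hp.pos i); omega)]
        rw [hki, h2] at hle
        have := Nat.mod_lt w (pow_pos hp.pos i)
        omega
    · rintro rfl
      refine ⟨⟨hv1, hvw⟩, ?_⟩
      obtain ⟨q, hq⟩ := hpv
      have hq1 : 1 ≤ q := Nat.pos_of_ne_zero fun h => hwr (by rw [hq, h, mul_zero])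
      obtain ⟨q', rfl⟩ : ∃ q', q = q' + 1 := ⟨q - 1, by omega⟩
      rw [mul_add, mul_one] at hq
      rw [Nat.mod_eq_of_lt hkv, show w - k = (r + p ^ v - k) + p ^ v * q' by omega,
        Nat.add_mul_mod_self_left, Nat.mod_eq_of_lt (show r + p ^ v - k < p ^ v by omega)]
      omega
  rcases Nat.lt_or_ge v 2 with hv2 | hv2
  · have hv' : v = 1 := by omega
    rcases Nat.lt_or_ge r (p - 1) with hrp | hrp
    · refine Or.inl ⟨r + 1, by omega, ?_⟩
      have h1 := hcarry (r + 1) (by omega) (by rw [hv', pow_one]; omega) (by omega) fun i h1 h2 => by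
        omega
      have := hchoose (r + 1) (by omega)
      omega
    · refine Or.inr ⟨by omega, hv', ?_⟩
      have h0 : (w.choose p).factorization p = 0 := by
        rw [Nat.factorization_choose hp hw hb, card_eq_zero, filter_eq_empty_iff]
        intro i hi hle
        obtain ⟨hi1, -⟩ := mem_Ico.1 hi
        rcases Nat.lt_or_ge i 2 with h | h
        · rw [show i = 1 by omega, pow_one, Nat.mod_self, zero_add] at hle
          exact absurd hle (not_le.2 (Nat.mod_lt _ hp.pos))
        · have h1 := hhigh i (by omega)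
          rw [hv', pow_one] at h1
          have hp' : p < p ^ i := by
            calc p = p ^ 1 := (pow_one p).symm
              _ < p ^ i := Nat.pow_lt_pow_right hp.one_lt (by omega)
          have h2 : (w - p) % p ^ i = w % p ^ i - p := by
            have e := Nat.mod_add_div w (p ^ i)
            rw [show w - p = (w % p ^ i - p) + p ^ i * (w / p ^ i) by omega,
              Nat.add_mul_mod_self_left,
              Nat.mod_eq_of_lt (by have := Nat.mod_lt w (pow_pos hp.pos i); omega)]
          rw [Nat.mod_eq_of_lt hp', h2] at hle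
          have := Nat.mod_lt w (pow_pos hp.pos i)
          omega
      have h1 := hchoose p hw
      have hpf : p.factorial.factorization p = 1 := by
        obtain ⟨q, rfl⟩ : ∃ q, p = q + 1 := ⟨p - 1, by have := hp.two_le; omega⟩
        rw [Nat.factorial_succ, Nat.factorization_mul (by omega) (Nat.factorial_ne_zero _),
          Finsupp.add_apply, hp.factorization_self, Nat.factorization_factorial_eq_zero_of_lt (by omega)]
      omega
  · refine Or.inl ⟨p ^ (v - 1), ?_, ?_⟩
    · exact ((Nat.pow_le_pow_right hp.pos (by omega)).trans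
        (Nat.le_of_dvd (Nat.pos_of_ne_zero hwr) hpv)).trans (Nat.sub_le _ _)
    · have hk : p ≤ p ^ (v - 1) := Nat.le_self_pow (by omega) p
      have hkw : p ^ (v - 1) ≤ w := ((Nat.pow_le_pow_right hp.pos (by omega)).trans
        (Nat.le_of_dvd (Nat.pos_of_ne_zero hwr) hpv)).trans (Nat.sub_le _ _)
      have h1 := hcarry (p ^ (v - 1)) (by omega) (Nat.pow_lt_pow_right hp.one_lt (by omega)) hkw
        fun i _ hi => Nat.mod_eq_zero_of_dvd (pow_dvd_pow p (by omega))
      have := hchoose _ hkw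
      omega

end Split

variable [Fintype (alternatingGroup (Fin n))]

/-- The degrees below. -/
theorem degree_cases [Nontrivial (Fin n)] (φ : IrrCharacter 𝕊) (θ : IrrCharacter 𝔸)
    (h : classInner (altRes (φ : 𝕊 → ℂ)) (θ : 𝔸 → ℂ) ≠ 0) :
    (sgnMul φ ≠ φ ∧ charDegree (φ : 𝕊 → ℂ) = charDegree (θ : 𝔸 → ℂ)) ∨
      (sgnMul φ = φ ∧ charDegree (φ : 𝕊 → ℂ) = 2 * charDegree (θ : 𝔸 → ℂ)) := by
  classical
  obtain ⟨e, he⟩ := IsCharacter.exists_classInner_eq_natCast
    (IsCharacter.restrict (IsIrrCharacter.isCharacter φ.2) 𝔸) θ.2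
  set O := conjOrbit (G := 𝕊) (θ : 𝔸 → ℂ) with hO
  have he' : classInner (altRes (φ : 𝕊 → ℂ)) (θ : 𝔸 → ℂ) = (e : ℂ) := he
  have hres : altRes (φ : 𝕊 → ℂ) = (e : ℂ) • ∑ ψ ∈ O, ψ := by
    rw [← he']; exact restrict_eq_smul_sum φ.2 θ.2 h
  have he0 : e ≠ 0 := fun h0 => h (by rw [he', h0, Nat.cast_zero])
  have hOirr : ∀ ψ ∈ O, IsIrrCharacter 𝔸 ψ ∧ ψ 1 = (θ : 𝔸 → ℂ) 1 := fun ψ hψ => by
    obtain ⟨g, rfl⟩ := mem_conjOrbit.1 hψ
    exact ⟨isIrrCharacter_conjOn θ.2 g, conjOn_apply_one g _⟩
  have hpos : 0 < O.card := card_pos.2 ⟨_, self_mem_conjOrbit _⟩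
  have hnormA : classInner (altRes (φ : 𝕊 → ℂ)) (altRes (φ : 𝕊 → ℂ)) =
      ((e * e * O.card : ℕ) : ℂ) := by
    rw [hres]
    simp only [classInner_smul_left, classInner_smul_right, classInner_sum_left, classInner_sum_right]
    have hone : ∀ ψ ∈ O, ∑ ψ' ∈ O, classInner ψ' ψ = 1 := fun ψ hψ => by
      rw [sum_eq_single ψ
        (fun ψ' hψ' hne => IsIrrCharacter.classInner_of_ne (hOirr ψ' hψ').1 (hOirr ψ hψ).1 hne)
        (fun h => absurd hψ h), IsIrrCharacter.classInner_self (hOirr ψ hψ).1]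
    rw [sum_congr rfl fun ψ hψ => by rw [hone ψ hψ], sum_const, Complex.conj_natCast]
    push_cast
    ring
  have hnormS := IsIrrCharacter.classInner_self φ.2
  rw [CfsgLib.Char.classInner_self, Complex.ofReal_eq_one,
    inv_mul_eq_one₀ (by exact_mod_cast Nat.card_pos.ne')] at hnormS
  rw [CfsgLib.Char.classInner_self, ← Complex.ofReal_natCast, Complex.ofReal_inj,
    inv_mul_eq_iff_eq_mul₀ (by exact_mod_cast Nat.card_pos.ne')] at hnormA
  have hidx : (Nat.card 𝕊 : ℝ) = 2 * (Nat.card 𝔸 : ℝ) := by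
    rw [← (𝔸).index_mul_card, alternatingGroup.index_eq_two]
    push_cast
    ring
  have hsplit := sum_filter_add_sum_filter_not univ (· ∈ 𝔸) fun g => ‖(φ : 𝕊 → ℂ) g‖ ^ 2
  have hA : ∑ g ∈ univ.filter (· ∈ 𝔸), ‖(φ : 𝕊 → ℂ) g‖ ^ 2 =
      ∑ a : 𝔸, ‖altRes (φ : 𝕊 → ℂ) a‖ ^ 2 :=
    sum_subtype (univ.filter (· ∈ 𝔸)) (p := (· ∈ 𝔸)) (by simp) fun g => ‖(φ : 𝕊 → ℂ) g‖ ^ 2
  have hnn : (0 : ℝ) ≤ ∑ g ∈ univ.filter (fun g => ¬ g ∈ 𝔸), ‖(φ : 𝕊 → ℂ) g‖ ^ 2 :=
    sum_nonneg fun g _ => sq_nonneg _
  have hApos : (0 : ℝ) < Nat.card 𝔸 := by exact_mod_cast Nat.card_pos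
  push_cast at hnormA
  have hle : (e * e * O.card : ℕ) ≤ 2 := by
    by_contra hgt
    have h3 : ((3 : ℕ) : ℝ) ≤ ((e * e * O.card : ℕ) : ℝ) := by exact_mod_cast (by omega : 3 ≤ _)
    push_cast at h3
    nlinarith
  have he1 : e = 1 := by
    by_contra hne
    have h4 : 2 * 2 ≤ e * e := Nat.mul_le_mul (by omega) (by omega)
    have : 4 * 1 ≤ e * e * O.card := Nat.mul_le_mul h4 hpos
    omega
  subst he1
  simp only [one_mul] at hle
  have hdeg : charDegree (φ : 𝕊 → ℂ) = O.card * charDegree (θ : 𝔸 → ℂ) := by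
    have h1 := congrFun hres 1
    simp only [altRes, OneMemClass.coe_one, Pi.smul_apply, Finset.sum_apply, Nat.cast_one, one_smul] at h1
    rw [sum_congr rfl fun ψ hψ => (hOirr ψ hψ).2, sum_const, nsmul_eq_mul, (Chr.irr_one φ).1,
      (Chr.irr_one θ).1] at h1
    exact_mod_cast h1
  by_cases h1 : O.card = 1
  · refine Or.inl ⟨fun hs => ?_, by rw [hdeg, h1, one_mul]⟩
    have h0 : ∑ g ∈ univ.filter (fun g => ¬ g ∈ 𝔸), ‖(φ : 𝕊 → ℂ) g‖ ^ 2 = 0 := by
      refine sum_eq_zero fun g hg => ?_
      have hg' : Equiv.Perm.sign g = -1 :=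
        (Int.units_eq_one_or _).resolve_left fun e => (mem_filter.1 hg).2 e
      have h2 := sgnMul_apply φ g
      rw [hs, hg'] at h2
      push_cast at h2
      rw [show (φ : 𝕊 → ℂ) g = 0 by linear_combination (1 / 2 : ℂ) * h2, norm_zero]
      norm_num
    rw [h1] at hnormA
    push_cast at hnormA
    linarith
  · have h2 : O.card = 2 := by omega
    refine Or.inr ⟨Subtype.ext (funext fun g => ?_), by rw [hdeg, h2]⟩
    rw [sgnMul_apply]
    by_cases hg : g ∈ 𝔸
    · rw [show Equiv.Perm.sign g = 1 from hg]; simp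
    · rw [h2] at hnormA
      push_cast at hnormA
      have h0 : ∑ g ∈ univ.filter (fun g => ¬ g ∈ 𝔸), ‖(φ : 𝕊 → ℂ) g‖ ^ 2 = 0 := by linarith
      have := (sum_eq_zero_iff_of_nonneg fun g _ => sq_nonneg _).1 h0 g
        (mem_filter.2 ⟨mem_univ g, hg⟩)
      simp only [pow_eq_zero_iff two_ne_zero, norm_eq_zero] at this
      rw [this, mul_zero]

theorem sameBlock_sgnMul_two {M : Ideal AlgInt} [M.IsPrime] (hM : IsPModular 2 M)
    (φ : IrrCharacter 𝕊) : SameBlock M (φ : 𝕊 → ℂ) (sgnMul φ : 𝕊 → ℂ) := by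
  intro g
  have hval : centralChar (sgnMul φ : 𝕊 → ℂ) g =
      ((Equiv.Perm.sign g : ℤ) : ℂ) * centralChar (φ : 𝕊 → ℂ) g := by
    rw [centralChar, centralChar, sgnMul_apply, sgnMul_apply, map_one, Units.val_one,
      Int.cast_one, one_mul]
    ring
  rw [hval]
  rcases Int.units_eq_one_or (Equiv.Perm.sign g) with hg | hg
  · rw [hg]; simpa using memLocalIdeal_zero
  · rw [hg]
    have := memLocalIdeal_mul_right (memLocalIdeal_p hM) (centralChar_mem (M := M) φ g)
    push_cast at this ⊢
    rw [show centralChar (φ : 𝕊 → ℂ) g - -1 * centralChar (φ : 𝕊 → ℂ) g =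
      2 * centralChar (φ : 𝕊 → ℂ) g by ring]
    exact this

/-- One where the degree loses a factor `p` below. -/
noncomputable def loss (p : ℕ) (φ : IrrCharacter 𝕊) : ℕ := by
  classical exact if p = 2 ∧ sgnMul φ = φ then 1 else 0

/-- Codes of weight one on each of two runners. -/
theorem code_of_kc_one {r y : Fin N → ℕ} (hr : ∀ i, r i < 2) (h0 : kc r y 0 = 1) (h1 : kc r y 1 = 1) :
    code r y = ({(0, 1), (1, 1)} : Multiset (ℕ × ℕ)) := by
  classical
  have hone : ∀ c, kc r y c = 1 → ∃ i, r i = c ∧ part r y i = 1 ∧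
      ∀ j, r j = c → j ≠ i → part r y j = 0 := by
    intro c hc
    rw [kc] at hc
    obtain ⟨i, hi, hne⟩ := exists_ne_zero_of_sum_ne_zero (by rw [hc]; exact one_ne_zero)
    have h2 := add_sum_erase _ (part r y) hi
    refine ⟨i, (mem_filter.1 hi).2, by omega, fun j hj hji => ?_⟩
    have h3 : part r y j ≤ ∑ k ∈ (univ.filter fun k => r k = c).erase i, part r y k :=
      single_le_sum (fun k _ => Nat.zero_le _) (mem_erase.2 ⟨hji, mem_filter.2 ⟨mem_univ j, hj⟩⟩)
    omega
  obtain ⟨i, hi, hip, hio⟩ := hone 0 h0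
  obtain ⟨j, hj, hjp, hjo⟩ := hone 1 h1
  have hij : i ≠ j := fun e => by rw [e, hj] at hi; omega
  have hset : (univ.filter fun k => 0 < part r y k) = ({i, j} : Finset (Fin N)) := by
    ext k
    simp only [mem_filter, mem_univ, true_and, mem_insert, mem_singleton]
    refine ⟨fun hk => ?_, fun hk => by rcases hk with rfl | rfl <;> omega⟩
    by_contra hne
    push Not at hne
    have := hr k
    rcases Nat.lt_or_ge (r k) 1 with h | h
    · have := hio k (by omega) hne.1; omega
    · have := hjo k (by omega) hne.2; omega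
  rw [code, Multiset.filter_map]
  show ((univ.filter fun k => 0 < part r y k).val.map fun k => (r k, part r y k)) = _
  rw [hset, insert_val, Multiset.ndinsert_of_notMem (by simpa using hij), singleton_val, Multiset.map_cons,
    Multiset.map_singleton, hi, hip, hj, hjp]
  rfl

variable [hp : Fact p.Prime] {M : Ideal AlgInt} [M.IsPrime]

/-- The valuations in a block of the alternating group of degree at least two. -/
theorem block_valuations [Nontrivial (Fin n)] (hM : IsPModular p M) {b : Set (IrrCharacter 𝔸)}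
    (hb : IsPBlock M b) {χ : IrrCharacter 𝕊} {θ : IrrCharacter 𝔸} (hθb : θ ∈ b)
    (hθ : classInner (altRes (χ : 𝕊 → ℂ)) (θ : 𝔸 → ℂ) ≠ 0)
    {r x : Fin (p * n) → ℕ} (hr : ∀ i, r i < p) (hχ : Expo n p r x χ) :
    (∀ ξ ∈ b, ∃ (φ : IrrCharacter 𝕊) (y : Fin (p * n) → ℕ),
      SameBlock M (χ : 𝕊 → ℂ) (φ : 𝕊 → ℂ) ∧ Expo n p r y φ ∧
      (charDegree (ξ : 𝔸 → ℂ)).factorization p + loss p φ + wt r x + hv p r y =
        n.factorial.factorization p) ∧
    (∀ (φ : IrrCharacter 𝕊) (y : Fin (p * n) → ℕ), SameBlock M (χ : 𝕊 → ℂ) (φ : 𝕊 → ℂ) →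
      Expo n p r y φ → ∃ ξ ∈ b,
        (charDegree (ξ : 𝔸 → ℂ)).factorization p + loss p φ + wt r x + hv p r y =
          n.factorial.factorization p) := by
  classical
  have key : ∀ (φ : IrrCharacter 𝕊) (ζ : IrrCharacter 𝔸) (y : Fin (p * n) → ℕ),
      classInner (altRes (φ : 𝕊 → ℂ)) (ζ : 𝔸 → ℂ) ≠ 0 → Expo n p r y φ →
      (charDegree (ζ : 𝔸 → ℂ)).factorization p + loss p φ + wt r x + hv p r y =
        n.factorial.factorization p := by
    intro φ ζ y hc e
    have h := e.degree_val hp.out hr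
    rw [e.wt_eq_wt hp.out.pos hχ] at h
    rw [← h]
    congr 2
    rcases degree_cases φ ζ hc with ⟨hs, hd⟩ | ⟨hs, hd⟩
    · rw [hd, loss, if_neg fun hh => hs hh.2, add_zero]
    · rw [hd, Nat.factorization_mul (by omega) (Chr.irr_one ζ).2.ne', Finsupp.add_apply, loss,
        add_comm]
      congr 1
      by_cases h2 : p = 2
      · subst h2; rw [if_pos ⟨rfl, hs⟩, Nat.prime_two.factorization_self]
      · rw [if_neg fun hh => h2 hh.1, Nat.factorization_eq_zero_of_not_dvd fun hd2 =>
          h2 ((Nat.prime_dvd_prime_iff_eq hp.out Nat.prime_two).1 hd2)]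
  constructor
  · intro ξ hξ
    obtain ⟨φ, hφ, hφξ⟩ := exists_over_sameBlock (M := M) hθ (sameBlock_of_mem hb hθb hξ)
    obtain ⟨y, e⟩ := exists_expo_of_sameBlock hM le_mul_self_prime hr hχ hφ
    exact ⟨φ, y, hφ, e, key φ ξ y hφξ e⟩
  · intro φ y hφ e
    obtain ⟨ζ, hζ, hζc⟩ := exists_constituent_restrict (N := 𝔸) φ.2
    obtain ⟨g, θ', hθ', he⟩ := mem_orbitUnion_of_covering (isPBlock_blockOf χ) hb
      (mem_blockOf_self χ) (χ' := φ) hφ hθb hθ (ψ := ⟨ζ, hζ⟩) hζc
    refine ⟨θ', hθ', ?_⟩
    have hk := key φ ⟨ζ, hζ⟩ y hζc e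
    have hd : charDegree ((⟨ζ, hζ⟩ : IrrCharacter 𝔸) : 𝔸 → ℂ) = charDegree (θ' : 𝔸 → ℂ) := by
      rw [he, conjIrr_coe, charDegree, charDegree, conjOn_apply_one]
    rwa [hd] at hk

theorem factorization_card_alt [Nontrivial (Fin n)] :
    (Nat.card 𝔸).factorization p + (if p = 2 then 1 else 0) = n.factorial.factorization p := by
  have h : 2 * Nat.card 𝔸 = n.factorial := by
    rw [← alternatingGroup.index_eq_two (α := Fin n), (𝔸).index_mul_card, Nat.card_perm, Nat.card_fin]
  rw [← h, Nat.factorization_mul (by omega) Nat.card_pos.ne', Finsupp.add_apply, add_comm]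
  congr 1
  by_cases h2 : p = 2
  · subst h2; rw [if_pos rfl, Nat.prime_two.factorization_self]
  · rw [if_neg h2, Nat.factorization_eq_zero_of_not_dvd fun hd2 =>
      h2 ((Nat.prime_dvd_prime_iff_eq hp.out Nat.prime_two).1 hd2)]

omit hp in
/-- The height and the defect from the least valuation. -/
theorem sInf_eq {b : Set (IrrCharacter 𝔸)} {v : ℕ}
    (hlow : ∀ ξ ∈ b, v ≤ (charDegree (ξ : 𝔸 → ℂ)).factorization p)
    (hex : ∃ ξ ∈ b, (charDegree (ξ : 𝔸 → ℂ)).factorization p = v) :
    sInf ((fun ξ : IrrCharacter 𝔸 => (charDegree (ξ : 𝔸 → ℂ)).factorization p) '' b) = v := by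
  obtain ⟨ξ, hξ, rfl⟩ := hex
  exact le_antisymm (Nat.sInf_le ⟨ξ, hξ, rfl⟩)
    (le_csInf ⟨_, ξ, hξ, rfl⟩ fun _ ⟨ζ, hζ, e⟩ => e ▸ hlow ζ hζ)

/-- All heights vanish below weight `p`, and below three for `p = 2`. -/
theorem heights_small [Nontrivial (Fin n)] (hM : IsPModular p M) {b : Set (IrrCharacter 𝔸)}
    (hb : IsPBlock M b) {χ : IrrCharacter 𝕊} {θ : IrrCharacter 𝔸} (hθb : θ ∈ b)
    (hθ : classInner (altRes (χ : 𝕊 → ℂ)) (θ : 𝔸 → ℂ) ≠ 0)
    {r x : Fin (p * n) → ℕ} (hr : ∀ i, r i < p) (hχ : Expo n p r x χ)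
    (hw : (p ≠ 2 ∧ wt r x < p) ∨ (p = 2 ∧ wt r x ≤ 2)) :
    (∀ ξ ∈ b, blockHeight p b (ξ : 𝔸 → ℂ) = 0) ∧
      blockDefect p b ≤ wt r x ∧ (p = 2 → blockDefect p b ≤ 2) := by
  classical
  obtain ⟨hdown, -⟩ := block_valuations hM hb hθb hθ hr hχ
  set w := wt r x with hwdef
  have hcard := factorization_card_alt (n := n) (p := p)
  suffices h : ∃ C ≤ w + (if p = 2 then 1 else 0), ∀ ξ ∈ b,
      (charDegree (ξ : 𝔸 → ℂ)).factorization p + C = n.factorial.factorization p by
    obtain ⟨C, hC, hall⟩ := h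
    have hmin := sInf_eq (p := p) (b := b) (v := n.factorial.factorization p - C)
      (fun ξ hξ => by have := hall ξ hξ; omega) ⟨θ, hθb, by have := hall θ hθb; omega⟩
    refine ⟨fun ξ hξ => ?_, ?_, fun h2 => ?_⟩
    · rw [blockHeight, hmin]; have := hall ξ hξ; omega
    · rw [blockDefect, hmin]
      have := hall θ hθb
      split_ifs at hcard hC with h2 <;> omega
    · rcases hw with ⟨hne, -⟩ | ⟨-, hw2⟩
      · exact absurd h2 hne
      · rw [blockDefect, hmin]
        have := hall θ hθb
        rw [if_pos h2] at hcard hC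
        omega
  rcases hw with ⟨hp2, hwp⟩ | ⟨hp2, hw2⟩
  · refine ⟨w, Nat.le_add_right _ _, fun ξ hξ => ?_⟩
    obtain ⟨φ, y, -, e, hk⟩ := hdown ξ hξ
    have h1 := hv_le hr e.runner
    rw [e.wt_eq_wt hp.out.pos hχ, Nat.factorization_factorial_eq_zero_of_lt hwp] at h1
    rw [loss, if_neg fun hh => hp2 hh.1] at hk
    omega
  subst hp2
  rw [if_pos rfl]
  have hn : n ≤ 2 * n := by omega
  have hself : ∀ (φ : IrrCharacter 𝕊) (y : Fin (2 * n) → ℕ), Expo n 2 r y φ → sgnMul φ = φ →
      kc r y 0 = kc r y 1 := fun φ y e hs =>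
    kc_eq_of_selfRefl hr rfl (e.join_lt hn) (e.selfRefl hn hs) e.runner
  have hkc : ∀ (φ : IrrCharacter 𝕊) (y : Fin (2 * n) → ℕ), Expo n 2 r y φ →
      kc r y 0 + kc r y 1 = w := fun φ y e => by
    have h := sum_kc (x := y) hr
    rw [sum_range_succ, sum_range_one, e.wt_eq_wt (by omega) hχ] at h
    exact h
  have hbound : ∀ (φ : IrrCharacter 𝕊) (y : Fin (2 * n) → ℕ), Expo n 2 r y φ →
      hv 2 r y ≤ (kc r y 0).factorial.factorization 2 + (kc r y 1).factorial.factorization 2 :=
    fun φ y e => by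
      have h := hv_le_sum (p := 2) hr e.runner
      rwa [sum_range_succ, sum_range_one] at h
  by_cases hw0 : w = 0
  · -- a single character above
    refine ⟨loss 2 χ, by rw [loss]; split_ifs <;> omega, fun ξ hξ => ?_⟩
    obtain ⟨φ, y, -, e, hk⟩ := hdown ξ hξ
    have hz : ∀ z : Fin (2 * n) → ℕ, wt r z = 0 → code r z = 0 := fun z hz =>
      Multiset.eq_zero_of_forall_notMem fun q hq => by
        have h1 : 0 < q.2 := (Multiset.mem_filter.1 hq).2
        have h2 := Multiset.le_sum_of_mem (Multiset.mem_map_of_mem Prod.snd hq)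
        rw [code_weight, hz] at h2
        omega
    have hφ : φ = χ := e.eq_of_perm hχ (exists_perm_of_code_eq e.runner hχ.runner
      (by rw [hz y ((e.wt_eq_wt (by omega) hχ).trans hw0), hz x hw0]))
    have h1 := hv_le hr e.runner (p := 2)
    rw [e.wt_eq_wt (by omega) hχ, ← hwdef, hw0, Nat.factorial_zero, Nat.factorization_one] at h1
    simp only [Finsupp.coe_zero, Pi.zero_apply] at h1
    rw [hφ] at hk
    omega
  by_cases hw1 : w = 1
  · refine ⟨1, by omega, fun ξ hξ => ?_⟩
    obtain ⟨φ, y, -, e, hk⟩ := hdown ξ hξ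
    have h1 := hv_le hr e.runner (p := 2)
    rw [e.wt_eq_wt (by omega) hχ, ← hwdef, hw1, Nat.factorial_one, Nat.factorization_one] at h1
    simp only [Finsupp.coe_zero, Pi.zero_apply] at h1
    have hns : sgnMul φ ≠ φ := fun hs => by
      have := hself φ y e hs
      have := hkc φ y e
      omega
    rw [loss, if_neg fun hh => hns hh.2] at hk
    omega
  have hw' : w = 2 := by omega
  refine ⟨3, by omega, fun ξ hξ => ?_⟩
  obtain ⟨φ, y, hφB, e, hk⟩ := hdown ξ hξ
  have hsum := hkc φ y e
  have hzero : kc r y 0 = 1 → hv 2 r y = 0 := fun h0 => by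
    have := hbound φ y e
    rw [h0, show kc r y 1 = 1 by omega, Nat.factorial_one, Nat.factorization_one] at this
    simpa using this
  by_cases hs : sgnMul φ = φ
  · rw [loss, if_pos ⟨rfl, hs⟩] at hk
    have h0 := hzero (by have := hself φ y e hs; omega)
    omega
  · rw [loss, if_neg fun hh => hs hh.2] at hk
    have hfull : ∀ (ψ : IrrCharacter 𝕊) (z : Fin (2 * n) → ℕ), Expo n 2 r z ψ →
        kc r z 0 ≠ 1 → hv 2 r z = 1 := by
      intro ψ z ez hne
      have h2 := hkc ψ z ez
      have hle := hbound ψ z ez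
      rw [hv_eq, ← sum_fiberwise_of_maps_to (t := range 2) (g := r) (fun i _ => mem_range.2 (hr i)),
        sum_range_succ, sum_range_one] at hle ⊢
      rcases Nat.lt_or_ge (kc r z 0) 1 with h | h
      · have := hterm_runner_eq_one ez.runner (c := 1) (by omega)
        rw [show kc r z 0 = 0 by omega, show kc r z 1 = 2 by omega] at hle
        simp only [Nat.factorial_zero, Nat.factorization_one, Finsupp.coe_zero, Pi.zero_apply,
          show Nat.factorial 2 = 2 from rfl, Nat.prime_two.factorization_self] at hle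
        omega
      · have := hterm_runner_eq_one ez.runner (c := 0) (by omega)
        rw [show kc r z 0 = 2 by omega, show kc r z 1 = 0 by omega] at hle
        simp only [Nat.factorial_zero, Nat.factorization_one, Finsupp.coe_zero, Pi.zero_apply,
          show Nat.factorial 2 = 2 from rfl, Nat.prime_two.factorization_self] at hle
        omega
    by_cases h0 : kc r y 0 = 1
    · exfalso
      have hφ' : SameBlock M (χ : 𝕊 → ℂ) (sgnMul φ : 𝕊 → ℂ) :=
        sameBlock_trans hφB (sameBlock_sgnMul_two hM φ)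
      obtain ⟨y', e'⟩ := exists_expo_of_sameBlock hM hn hr hχ hφ'
      have hd : charDegree (sgnMul φ : 𝕊 → ℂ) = charDegree (φ : 𝕊 → ℂ) := by
        rw [charDegree, charDegree, sgnMul_apply, map_one, Units.val_one, Int.cast_one, one_mul]
      have h1 := e.degree_val Nat.prime_two hr
      have h1' := e'.degree_val Nat.prime_two hr
      rw [hd, e'.wt_eq_wt (by omega) hχ] at h1'
      rw [e.wt_eq_wt (by omega) hχ, hzero h0] at h1
      have hk0 : kc r y' 0 = 1 := by
        by_contra hne
        have := hfull _ y' e' hne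
        omega
      have hsum' := hkc _ y' e'
      refine hs (e'.eq_of_perm e (exists_perm_of_code_eq e'.runner e.runner ?_))
      rw [code_of_kc_one hr hk0 (by omega), code_of_kc_one hr h0 (by omega)]
    · have := hfull φ y e h0
      omega

/-- At larger weight the defect is that of the symmetric group of degree `p * w`, and some height
is one. -/
theorem heights_large [Nontrivial (Fin n)] (hM : IsPModular p M) {b : Set (IrrCharacter 𝔸)}
    (hb : IsPBlock M b) {χ : IrrCharacter 𝕊} {θ : IrrCharacter 𝔸} (hθb : θ ∈ b)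
    (hθ : classInner (altRes (χ : 𝕊 → ℂ)) (θ : 𝔸 → ℂ) ≠ 0)
    {r x : Fin (p * n) → ℕ} (hr : ∀ i, r i < p) (hstrict : ∀ i j, i < j → r i = r j → x i < x j)
    (hχ : Expo n p r x χ) (hw : p ≤ wt r x) (hw3 : 3 ≤ wt r x) :
    (∃ ξ ∈ b, blockHeight p b (ξ : 𝔸 → ℂ) = 1) ∧
      blockDefect p b + (if p = 2 then 1 else 0) = (p * wt r x).factorial.factorization p := by
  classical
  obtain ⟨hdown, hup⟩ := block_valuations hM hb hθb hθ hr hχ
  set w := wt r x with hwdef
  have hp0 := hp.out.pos
  have hcard := factorization_card_alt (n := n) (p := p)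
  have hn : n ≤ p * n := le_mul_self_prime
  have hpw : (p * w).factorial.factorization p = w.factorial.factorization p + w := by
    rw [Nat.factorization_def _ hp.out, Nat.factorization_def _ hp.out, padicValNat_factorial_mul]
  have hlow : ∑ i, join p r (low r) i + p * w = tri (p * n) + n := by
    rw [← hχ.1, sum_join, sum_join, ← sum_low_le hstrict, mul_add]
    ring
  have hge := tri_le_sum (join_injective hr (runner_injective (low_strict (r := r))))
  have hcnt : ∀ c < p, 2 ≤ cnt r c := fun c hc =>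
    two_le_cnt (m := n - p * w) hr (by omega)
      (by
        have h1 : p * 2 ≤ p * w := Nat.mul_le_mul_left p (by omega)
        omega) hc
  -- members with given exponents
  have hmem : ∀ t t' : ℕ → ℕ, (∀ c, t' c ≤ t c) → ∑ c ∈ range p, (t c + t' c) = w →
      ∃ φ : IrrCharacter 𝕊, SameBlock M (χ : 𝕊 → ℂ) (φ : 𝕊 → ℂ) ∧
        Expo n p r (lift2 r t t') φ := by
    intro t t' htt ht
    obtain ⟨hs, -⟩ := join_lift2 hp0 hr htt hcnt ht hlow
    have hinj := join_injective hr (runner_injective (lift2_strict (r := r) htt))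
    obtain ⟨φ, c, hc, hφ⟩ : ∃ (φ : IrrCharacter 𝕊) (c : ℂ), c ≠ 0 ∧
        (φ : 𝕊 → ℂ) = c • chi n (join p r (lift2 r t t')) := by
      rcases chi_isIrr_or_neg hinj hs with h | h
      · exact ⟨⟨_, h⟩, 1, one_ne_zero, (one_smul _ _).symm⟩
      · exact ⟨⟨_, h⟩, -1, by norm_num, (neg_one_smul ℂ _).symm⟩
    have e : Expo n p r (lift2 r t t') φ := ⟨hs, hinj, c, hc, hφ⟩
    exact ⟨φ, sameBlock_of_residues hM hr hstrict (lift2_strict htt) hχ e, e⟩
  have hns : ∀ (φ : IrrCharacter 𝕊) (y : Fin (p * n) → ℕ), Expo n p r y φ → p = 2 →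
      sgnMul φ = φ → kc r y 0 = kc r y 1 := fun φ y e h2 hs => by
    subst h2
    exact kc_eq_of_selfRefl hr rfl (e.join_lt hn) (e.selfRefl hn hs) e.runner
  -- the least valuation
  have hupper : ∀ (φ : IrrCharacter 𝕊) (y : Fin (p * n) → ℕ), Expo n p r y φ →
      loss p φ + hv p r y ≤ w.factorial.factorization p := by
    intro φ y e
    have h1 := hv_le hr e.runner (p := p)
    rw [e.wt_eq_wt hp0 hχ] at h1
    by_cases hs : p = 2 ∧ sgnMul φ = φ
    · obtain ⟨h2, hs⟩ := hs
      subst h2
      rw [loss, if_pos ⟨rfl, hs⟩]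
      have hk := hns φ y e rfl hs
      have hsum := sum_kc (x := y) hr
      rw [sum_range_succ, sum_range_one, e.wt_eq_wt hp0 hχ] at hsum
      have hle := hv_le_sum (p := 2) hr e.runner
      rw [sum_range_succ, sum_range_one, ← hk] at hle
      rw [show w = 2 * kc r y 0 by omega, Nat.factorization_def _ Nat.prime_two,
        padicValNat_factorial_mul]
      rw [Nat.factorization_def _ Nat.prime_two] at hle
      have hlt := sub_one_mul_padicValNat_factorial_lt_of_ne_zero (p := 2)
        (show kc r y 0 ≠ 0 by omega)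
      omega
    · rw [← hwdef] at h1; rw [loss, if_neg hs]; omega
  have hlowb : ∀ ξ ∈ b, n.factorial.factorization p - (w + w.factorial.factorization p) ≤
      (charDegree (ξ : 𝔸 → ℂ)).factorization p := by
    intro ξ hξ
    obtain ⟨φ, y, -, e, hk⟩ := hdown ξ hξ
    have := hupper φ y e
    omega
  -- height zero
  set t₀ : ℕ → ℕ := fun c => if c = 0 then w else 0 with ht₀
  have hsum₀ : ∑ c ∈ range p, (t₀ c + 0) = w := by
    rw [sum_eq_single 0 (fun c _ hc => by simp [ht₀, hc]) (fun h => absurd (mem_range.2 hp0) h)]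
    simp [ht₀]
  obtain ⟨φ₀, hφ₀, e₀⟩ := hmem t₀ (fun _ => 0) (fun c => Nat.zero_le _) hsum₀
  have hv₀ : hv p r (lift2 r t₀ fun _ => 0) = w.factorial.factorization p := by
    rw [hv_rows hr hcnt, sum_eq_single 0 (fun c _ hc => by simp [ht₀, hc])
      (fun h => absurd (mem_range.2 hp0) h)]
    simp [ht₀]
  obtain ⟨ξ₀, hξ₀, hk₀⟩ := hup φ₀ _ hφ₀ e₀
  rw [hv₀] at hk₀
  have hl₀ : loss p φ₀ = 0 := by have := hupper φ₀ _ e₀; omega
  have hmin := sInf_eq (p := p) (b := b) hlowb ⟨ξ₀, hξ₀, by omega⟩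
  refine ⟨?_, ?_⟩
  swap
  · rw [blockDefect, hmin, hpw]
    split_ifs at hcard ⊢ <;> omega
  -- height one
  suffices h : ∃ t t' : ℕ → ℕ, (∀ c, t' c ≤ t c) ∧ ∑ c ∈ range p, (t c + t' c) = w ∧
      hv p r (lift2 r t t') + 1 = w.factorial.factorization p ∧
      (p = 2 → ∀ φ : IrrCharacter 𝕊, Expo n p r (lift2 r t t') φ → sgnMul φ ≠ φ) by
    obtain ⟨t, t', htt, ht, hh, hnot⟩ := h
    obtain ⟨φ, hφ, e⟩ := hmem t t' htt ht
    obtain ⟨ξ, hξ, hk⟩ := hup φ _ hφ e
    refine ⟨ξ, hξ, ?_⟩
    have hl : loss p φ = 0 := by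
      rw [loss, if_neg]
      rintro ⟨h2, hs⟩
      exact hnot h2 φ e hs
    rw [blockHeight, hmin]
    omega
  rcases exists_split hp.out hw with ⟨k, hk, hcar⟩ | ⟨hrem, hv1, hB⟩
  · refine ⟨fun c => if c = 0 then k else if c = 1 then w - k else 0, fun _ => 0,
      fun c => Nat.zero_le _, ?_, ?_, ?_⟩
    · rw [← sum_subset (s₁ := ({0, 1} : Finset ℕ)) (fun c hc => mem_range.2 (by
          have := hp.out.two_le
          simp only [mem_insert, mem_singleton] at hc
          omega)) (fun c _ hc => by simp only [mem_insert, mem_singleton, not_or] at hc; simp [hc.1, hc.2]),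
        sum_pair zero_ne_one]
      simp
      omega
    · rw [hv_rows hr hcnt, ← sum_subset (s₁ := ({0, 1} : Finset ℕ)) (fun c hc => mem_range.2 (by
          have := hp.out.two_le
          simp only [mem_insert, mem_singleton] at hc
          omega)) (fun c _ hc => by simp only [mem_insert, mem_singleton, not_or] at hc; simp [hc.1, hc.2]),
        sum_pair zero_ne_one]
      simp only [if_true, one_ne_zero, if_false]
      omega
    · intro h2 φ e hs
      subst h2
      have hkc : ∀ c < 2, kc r (lift2 r (fun c => if c = 0 then k else if c = 1 then w - k else 0)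
          fun _ => 0) c = (if c = 0 then k else if c = 1 then w - k else 0) + 0 := fun c hc =>
        kc_lift2 (fun c => Nat.zero_le _) (hcnt c hc)
      have heq := hns φ _ e rfl hs
      rw [hkc 0 (by omega), hkc 1 (by omega)] at heq
      simp only [if_true, one_ne_zero, if_false, add_zero] at heq
      refine not_selfRefl_rows (k := k) hr rfl hcnt (by omega) ?_ ?_
      · intro i
        have h3 := e.join_lt hn i
        have h4 : lift2 r (fun c => if c = 0 then k else if c = 1 then w - k else 0) (fun _ => 0) i =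
            lift2 r (fun _ => k) (fun _ => 0) i := by
          have := hr i
          simp only [lift2]
          rcases Nat.lt_or_ge (r i) 1 with h | h
          · simp [show r i = 0 by omega]
          · simp [show r i = 1 by omega, ← heq]
        simpa [join, h4] using h3
      · have h4 : join 2 r (lift2 r (fun _ => k) fun _ => 0) =
            join 2 r (lift2 r (fun c => if c = 0 then k else if c = 1 then w - k else 0) fun _ => 0) := by
          funext i
          have := hr i
          simp only [join, lift2]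
          rcases Nat.lt_or_ge (r i) 1 with h | h
          · simp [show r i = 0 by omega]
          · simp [show r i = 1 by omega, ← heq]
        rw [h4]
        exact e.selfRefl hn hs
  by_cases h2 : p = 2
  · subst h2
    refine ⟨fun c => if c = 0 then w - 1 else 0, fun c => if c = 0 then 1 else 0,
      fun c => by dsimp only; split_ifs <;> omega, ?_, ?_, ?_⟩
    · rw [sum_range_succ, sum_range_one]
      simp
      omega
    · have h := hv_hook hr hcnt (w := w) (by omega)
      rw [show w - w % 2 = w - 1 by omega] at hv1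
      omega
    · intro _ φ e hs
      have heq := hns φ _ e rfl hs
      rw [kc_lift2 (fun c => by split_ifs <;> omega) (hcnt 0 (by omega)),
        kc_lift2 (fun c => by split_ifs <;> omega) (hcnt 1 (by omega))] at heq
      simp at heq
  · have hp3 : 3 ≤ p := by have := hp.out.two_le; omega
    set t : ℕ → ℕ := fun c => if c = 0 then w - p else if c = 1 then p - 1 else if c = 2 then 1 else 0
      with ht
    have hsub : ({0, 1, 2} : Finset ℕ) ⊆ range p := fun c hc => by
      simp only [mem_insert, mem_singleton] at hc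
      exact mem_range.2 (by omega)
    have hoff : ∀ c ∈ range p, c ∉ ({0, 1, 2} : Finset ℕ) → t c = 0 := fun c _ hc => by
      simp only [mem_insert, mem_singleton, not_or] at hc
      simp [ht, hc.1, hc.2.1, hc.2.2]
    refine ⟨t, fun _ => 0, fun c => Nat.zero_le _, ?_, ?_, fun h => absurd h h2⟩
    · simp only [add_zero]
      rw [← sum_subset hsub hoff]
      simp [ht]
      omega
    · rw [hv_rows hr hcnt, ← sum_subset hsub (fun c hc hc' => by rw [hoff c hc hc']; simp)]
      simp [ht, Nat.factorization_factorial_eq_zero_of_lt (show p - 1 < p by omega)]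
      omega

end CfsgLib.SymBlocks
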