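import Cfsg.Agent.SymBlocks.Chars
import Cfsg.Prelude.Def_BlockRank
import Mathlib.LinearAlgebra.Dual.Lemmas

/-!
# Straightening the regular parts on the runners

With the residues `r` fixed, `vec x` is the regular part of the alternant character of `p x + r`.
Modulo the relations given by adding hooks of length divisible by `p` the entries on the runner of
residue zero can be lowered to their least total.
-/

set_option autoImplicit false

namespace CfsgLib.SymBlocks

open Finset Cfsg

variable {N n p : ℕ}

/-- The exponents from quotient and residue. -/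
def join (p : ℕ) (r x : Fin N → ℕ) : Fin N → ℕ := fun i => p * x i + r i

/-- The regular part of an alternant character. -/
noncomputable def vec (n p : ℕ) (r x : Fin N → ℕ) : Equiv.Perm (Fin n) → ℂ :=
  pRegularPart p (chi n (join p r x))

theorem pRegularPart_of_regular {G : Type*} [Group G] {χ : G → ℂ} {g : G} (h : IsPRegular p g) :
    pRegularPart p χ g = χ g := by classical exact if_pos h

theorem pRegularPart_of_singular {G : Type*} [Group G] {χ : G → ℂ} {g : G} (h : ¬ IsPRegular p g) :
    pRegularPart p χ g = 0 := by classical exact if_neg h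

theorem pRegularPart_smul {G : Type*} [Group G] (c : ℂ) (χ : G → ℂ) :
    pRegularPart p (c • χ) = c • pRegularPart p χ := by
  funext g
  by_cases h : IsPRegular p g <;>
    simp [pRegularPart_of_regular, pRegularPart_of_singular, h]

theorem vec_comp (r x : Fin N → ℕ) {σ : Equiv.Perm (Fin N)} (hσ : r ∘ σ = r) :
    vec n p r (x ∘ σ) = ((Equiv.Perm.sign σ : ℤ) : ℂ) • vec n p r x := by
  have h : join p r (x ∘ σ) = join p r x ∘ σ := funext fun i => by
    have := congrFun hσ i
    simp only [Function.comp_apply] at this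
    simp [join, this]
  rw [vec, vec, h, ← pRegularPart_smul]
  congr 1
  funext g
  simp [chi, chm_comp]

theorem vec_eq_zero_of_not_injective {r x : Fin N → ℕ} (h : ¬ Function.Injective (join p r x)) :
    vec n p r x = 0 := by
  obtain ⟨a, b, hab, hne⟩ := Function.not_injective_iff.1 h
  funext g
  by_cases hg : IsPRegular p g
  · simp [vec, pRegularPart_of_regular hg, chi, chm_eq_zero_of_eq _ hne hab]
  · simp [vec, pRegularPart_of_singular hg]

theorem sum_join (r x : Fin N → ℕ) : ∑ i, join p r x i = p * ∑ i, x i + ∑ i, r i := by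
  simp [join, sum_add_distrib, mul_sum]

theorem join_inc (r y : Fin N → ℕ) (i : Fin N) (m : ℕ) :
    join p r (inc y i m) = inc (join p r y) i (p * m) := by
  funext k
  by_cases hk : k = i
  · subst hk; simp [join, inc, mul_add]; ring
  · simp [join, inc, hk]

/-- The relations. -/
theorem sum_vec_inc (hp : 0 < p) (hn : n ≤ N) (r y : Fin N → ℕ) {m : ℕ} (hm : 1 ≤ m)
    (hs : ∑ i, join p r y i + p * m = tri N + n) : ∑ i, vec n p r (inc y i m) = 0 := by
  funext g
  rw [Finset.sum_apply, Pi.zero_apply]
  by_cases hg : IsPRegular p g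
  · simp only [vec, pRegularPart_of_regular hg, chi, join_inc, ← Int.cast_sum, Int.cast_eq_zero]
    refine raise_eq_zero _ _ _ (Nat.mul_pos hp (by omega)) (fun h => hg ?_) ?_ ?_
    · exact (dvd_mul_right p m).trans (dvd_orderOf_of_mem_parts h)
    · rw [parts_sum, Fintype.card_fin]; exact hs
    · rw [parts_sum, Fintype.card_fin]; exact hn
  · exact sum_eq_zero fun i _ => by rw [vec, pRegularPart_of_singular hg]

/-- The entries on the zero runner. -/
def zeroRunner (r : Fin N → ℕ) : Finset (Fin N) := univ.filter fun i => r i = 0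

/-- Everything is in the span of the vectors lowest on the zero runner. -/
theorem vec_mem_span (hp : 0 < p) (hn : n ≤ N) (r : Fin N → ℕ) :
    ∀ x : Fin N → ℕ, ∑ i, join p r x i = tri N + n →
      vec n p r x ∈ Submodule.span ℂ (vec n p r '' {y : Fin N → ℕ | ∑ i, join p r y i = tri N + n ∧
        Function.Injective (join p r y) ∧ ∑ i ∈ zeroRunner r, y i = tri (zeroRunner r).card}) := by
  classical
  set Bas : Set (Fin N → ℕ) := {y : Fin N → ℕ | ∑ i, join p r y i = tri N + n ∧
    Function.Injective (join p r y) ∧ ∑ i ∈ zeroRunner r, y i = tri (zeroRunner r).card}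
  set S := Submodule.span ℂ (vec n p r '' Bas)
  suffices h : ∀ t, ∀ x : Fin N → ℕ, ∑ i ∈ zeroRunner r, x i = t →
      ∑ i, join p r x i = tri N + n → vec n p r x ∈ S from fun x hx => h _ x rfl hx
  intro t
  induction t using Nat.strong_induction_on with
  | _ t ih =>
    intro x ht hx
    by_cases hinj : Function.Injective (join p r x)
    swap
    · rw [vec_eq_zero_of_not_injective hinj]; exact S.zero_mem
    set N0 := (zeroRunner r).card with hN0
    set e : Fin N0 ≃ (zeroRunner r) := (zeroRunner r).equivFin.symm
    set ι : Fin N0 → Fin N := fun a => (e a : Fin N) with hι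
    have hιinj : Function.Injective ι := fun a b h => e.injective (Subtype.ext h)
    have hι0 : ∀ a, r (ι a) = 0 := fun a => (mem_filter.1 (e a).2).2
    have hsum0 : ∀ z : Fin N → ℕ, ∑ i ∈ zeroRunner r, z i = ∑ a, z (ι a) := fun z => by
      rw [← sum_attach, ← univ_eq_attach]
      exact (Equiv.sum_comp e fun i => z i).symm
    set merge : (Fin N0 → ℕ) → (Fin N → ℕ) := fun z i =>
      if h : i ∈ zeroRunner r then z (e.symm ⟨i, h⟩) else x i with hmerge
    have hmι : ∀ z a, merge z (ι a) = z a := fun z a => by
      simp only [hmerge]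
      rw [dif_pos (e a).2]
      simp [ι]
    have hmo : ∀ z i, i ∉ zeroRunner r → merge z i = x i := fun z i hi => dif_neg hi
    have hmx : merge (x ∘ ι) = x := funext fun i => by
      by_cases hi : i ∈ zeroRunner r
      · simp [hmerge, hi, ι]
      · exact hmo _ i hi
    have hmsum : ∀ z, ∑ i, merge z i + t = ∑ i, x i + ∑ a, z a := by
      intro z
      have h1 := sum_add_sum_compl (zeroRunner r) (merge z)
      have h2 := sum_add_sum_compl (zeroRunner r) x
      have h3 : ∑ i ∈ zeroRunner r, merge z i = ∑ a, z a := by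
        rw [hsum0]; exact sum_congr rfl fun a _ => hmι z a
      have h4 : ∑ i ∈ (zeroRunner r)ᶜ, merge z i = ∑ i ∈ (zeroRunner r)ᶜ, x i :=
        sum_congr rfl fun i hi => hmo z i (mem_compl.1 hi)
      omega
    have hx0 : Function.Injective (x ∘ ι) := fun a b hab => hιinj (hinj (by
      show p * x (ι a) + r (ι a) = p * x (ι b) + r (ι b)
      rw [hι0, hι0]
      simp only [Function.comp_apply] at hab
      rw [hab]))
    have hge : tri N0 ≤ t := by
      rw [← ht, hsum0]
      exact tri_le_sum hx0
    rcases hge.eq_or_lt with heq | hlt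
    · exact Submodule.subset_span ⟨x, ⟨hx, hinj, ht.trans heq.symm⟩, rfl⟩
    obtain ⟨k, hk, hk1⟩ : ∃ k, t = tri N0 + k ∧ 1 ≤ k := ⟨t - tri N0, by omega, by omega⟩
    by_contra hnot
    obtain ⟨φ, hφx, hφS⟩ := Submodule.exists_dual_map_eq_bot_of_notMem hnot inferInstance
    have hφ : ∀ v ∈ S, φ v = 0 := fun v hv => by
      have h1 : φ v ∈ S.map φ := Submodule.mem_map_of_mem hv
      rwa [hφS, Submodule.mem_bot] at h1
    set f : (Fin N0 → ℕ) → ℂ := fun z => φ (vec n p r (merge z)) with hf
    have hanti : ∀ z (σ : Equiv.Perm (Fin N0)),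
        f (z ∘ σ) = ((Equiv.Perm.sign σ : ℤ) : ℂ) * f z := by
      intro z σ
      set τ : Equiv.Perm (Fin N) := σ.extendDomain (p := fun i => i ∈ zeroRunner r) e with hτ
      have hτr : r ∘ τ = r := funext fun i => by
        simp only [Function.comp_apply]
        by_cases hi : i ∈ zeroRunner r
        · rw [hτ, Equiv.Perm.extendDomain_apply_subtype _ _ hi]
          rw [(mem_filter.1 hi).2]
          exact (mem_filter.1 (e _).2).2
        · rw [hτ, Equiv.Perm.extendDomain_apply_not_subtype _ _ hi]
      have hmτ : merge (z ∘ σ) = merge z ∘ τ := funext fun i => by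
        simp only [Function.comp_apply]
        by_cases hi : i ∈ zeroRunner r
        · rw [hτ, Equiv.Perm.extendDomain_apply_subtype _ _ hi]
          simp only [hmerge]
          rw [dif_pos hi, dif_pos (e _).2]
          simp
        · rw [hτ, Equiv.Perm.extendDomain_apply_not_subtype _ _ hi, hmo _ i hi, hmo _ i hi]
      simp only [hf]
      rw [hmτ, vec_comp _ _ hτr, map_smul, smul_eq_mul, hτ, Equiv.Perm.sign_extendDomain]
    set Φ : Multiset ℕ → ℂ := fun μ => ∑ z ∈ vecs N0 t, f z * (chm μ z : ℂ) with hΦ
    have hzero : ∀ m ∈ Icc 1 k, ∀ μ, Φ (m ::ₘ μ) = 0 := by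
      intro m hm μ
      obtain ⟨hm1, hm2⟩ := mem_Icc.1 hm
      simp only [hΦ, chm_cons, Int.cast_sum, Int.cast_ite, Int.cast_zero]
      rw [show t = (t - m) + m by omega, sum_vecs_adjoint (t - m) m f fun z => (chm μ z : ℂ)]
      refine sum_eq_zero fun y hy => ?_
      have hy' := mem_vecs.1 hy
      have hmerge_inc : ∀ a, merge (inc y a m) = inc (merge y) (ι a) m := fun a => funext fun i => by
        by_cases hi : i ∈ zeroRunner r
        · obtain ⟨b, rfl⟩ : ∃ b, ι b = i := ⟨e.symm ⟨i, hi⟩, by simp [ι]⟩
          by_cases hab : b = a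
          · subst hab; simp [inc, hmι]
          · rw [hmι, inc, inc, Function.update_of_ne hab,
              Function.update_of_ne fun h => hab (hιinj h), hmι]
        · have hne : i ≠ ι a := fun h => hi (h ▸ (e a).2)
          rw [hmo _ i hi, inc, Function.update_of_ne hne, hmo _ i hi]
      have hsum : ∑ i, join p r (merge y) i + p * m = tri N + n := by
        have h1 := hmsum y
        rw [sum_join] at hx
        rw [sum_join, ← hx]
        have h2 : ∑ i, merge y i + m = ∑ i, x i := by omega
        rw [← h2, mul_add]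
        ring
      have hrel := congrArg φ (sum_vec_inc hp hn r (merge y) hm1 hsum)
      rw [map_sum, map_zero, ← sum_add_sum_compl (zeroRunner r)] at hrel
      have hout : ∑ i ∈ (zeroRunner r)ᶜ, φ (vec n p r (inc (merge y) i m)) = 0 := by
        refine sum_eq_zero fun i hi => hφ _ (ih (t - m) (by omega) _ ?_ ?_)
        · rw [hsum0, ← hy']
          refine sum_congr rfl fun a _ => ?_
          have hne : ι a ≠ i := fun h => (mem_compl.1 hi) (h ▸ (e a).2)
          rw [inc, Function.update_of_ne hne, hmι]
        · rw [join_inc, sum_inc]; omega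
      rw [hout, add_zero] at hrel
      have : ∑ a, f (inc y a m) = 0 := by
        rw [← hrel]
        exact sum_bij (fun a _ => ι a) (fun a _ => (e a).2) (fun a _ b _ h => hιinj h)
          (fun i hi => ⟨e.symm ⟨i, hi⟩, mem_univ _, by simp [ι]⟩)
          fun a _ => by simp only [hf, hmerge_inc]
      rw [this, zero_mul]
    have h0 : avg k (fun μ => Φ μ * (chm μ (x ∘ ι) : ℂ)) = 0 := by
      have h1 := avg_rec k (fun μ => Φ μ * (chm μ (x ∘ ι) : ℂ)) hk1
      rw [sum_eq_zero fun m hm => by
        rw [avg_congr _ _ (fun _ => 0) fun μ _ _ => by rw [hzero m hm μ, zero_mul], avg_zero_fun]]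
        at h1
      exact (mul_eq_zero.1 h1).resolve_left (by exact_mod_cast (show k ≠ 0 by omega))
    have hxs : ∑ a, (x ∘ ι) a = t := by rw [← ht, hsum0]; rfl
    simp only [hΦ, sum_mul, mul_assoc, avg_sum, avg_mul] at h0
    rw [sum_congr rfl fun z hz => by
      rw [avg_chm_mul k z (x ∘ ι) ((mem_vecs.1 hz).trans hk) (hxs.trans hk), mul_comm]] at h0
    rw [sum_alt_mul t (F := f) hanti hxs, mul_eq_zero] at h0
    refine hφx ?_
    have h2 := h0.resolve_left (by exact_mod_cast N0.factorial_ne_zero)
    simp only [hf, hmx] at h2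
    exact h2

end CfsgLib.SymBlocks
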