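import Cfsg.Agent.SymBlocks.Nakayama
import Cfsg.Agent.SymBlocks.Straighten
import Cfsg.Agent.Char.LinearTwist
import Mathlib.GroupTheory.SpecificGroups.Alternating

/-!
# Multiplication by the sign character
-/

set_option autoImplicit false

namespace CfsgLib.SymBlocks

open Finset Cfsg CfsgLib.Block CfsgLib.Char Polynomial

variable {N n : ℕ}

theorem card_parts_insert {X : Type*} [Fintype X] [DecidableEq X] (p : Equiv.Perm X) (j : X) :
    (parts (Equiv.swap none (some j) * p.optionCongr)).card = (parts p).card := by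
  rw [parts_insert, Multiset.card_cons, Multiset.card_erase_add_one]
  exact Multiset.mem_map.2 ⟨_, mem_orbs.2 ⟨j, rfl⟩, rfl⟩

/-- The sign is given by the number of orbits. -/
theorem sign_eq_parts : ∀ (n : ℕ) (g : Equiv.Perm (Fin n)),
    (Equiv.Perm.sign g : ℤ) = (-1) ^ (n + (parts g).card) := by
  intro n
  induction n with
  | zero =>
    intro g
    have hz : parts g = 0 := by rw [parts, orbs, univ_eq_empty]; rfl
    rw [hz, Subsingleton.elim g 1]
    simp
  | succ n ih =>
    intro g
    obtain ⟨⟨o, e⟩, rfl⟩ :=
      (Equiv.Perm.decomposeOption.symm.trans (finSuccEquiv n).symm.permCongr).surjective g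
    rw [Equiv.trans_apply, Equiv.Perm.sign_permCongr, parts_permCongr,
      Equiv.Perm.decomposeOption_symm_apply]
    cases o with
    | none =>
      rw [Equiv.swap_self, ← Equiv.Perm.one_def, one_mul, Equiv.optionCongr_sign, parts_optionCongr,
        Multiset.card_cons, ih]
      ring
    | some j =>
      rw [map_mul, Equiv.Perm.sign_swap (by simp), Equiv.optionCongr_sign, card_parts_insert,
        Units.val_mul, ih]
      push_cast
      ring

/-- The product over the negatives. -/
theorem eval_prod_neg (R : Multiset ℂ) (z : ℂ) :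
    (R.map fun a => -z - a).prod =
      (-1) ^ R.card * ((R.map fun a => -a).map fun a => z - a).prod := by
  induction R using Multiset.induction_on with
  | empty => simp
  | cons a R ih => simp only [Multiset.map_cons, Multiset.prod_cons, ih, Multiset.card_cons]; ring

/-- The number of entries above a point, seen in the root multiset. -/
theorem count_seaRoots (β : Fin N → ℕ) (j : ℕ) :
    ((sea β).map fun k : ℕ => (N : ℂ) - 1 - (k : ℂ)).count ((N : ℂ) - 1 - (j : ℂ)) =
      (univ.filter fun i => j < β i).card := by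
  rw [Multiset.count_map, sea, Multiset.filter_bind, Multiset.card_bind, card_filter]
  refine sum_congr rfl fun i _ => ?_
  simp only [Function.comp_apply]
  rw [← filter_val, ← card_def]
  have : (range (β i)).filter (fun k : ℕ => (N : ℂ) - 1 - (j : ℂ) = (N : ℂ) - 1 - (k : ℂ)) =
      (range (β i)).filter (fun k : ℕ => j = k) :=
    filter_congr fun k _ => by rw [sub_right_inj, Nat.cast_inj]
  rw [this, filter_eq]
  split_ifs <;> simp_all

theorem count_negRoots (β : Fin N → ℕ) {j j' : ℕ} (h : j + j' + 2 = 2 * N) :
    (((sea β).map fun k : ℕ => (N : ℂ) - 1 - (k : ℂ)).map fun a => -a).count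
      ((N : ℂ) - 1 - (j : ℂ)) = (univ.filter fun i => j' < β i).card := by
  have h' : (j : ℂ) + (j' : ℂ) + 2 = 2 * (N : ℂ) := by exact_mod_cast h
  rw [← count_seaRoots β j', show ((N : ℂ) - 1 - (j : ℂ)) = -((N : ℂ) - 1 - (j' : ℂ)) by
    linear_combination -h', Multiset.count_map_eq_count' (fun a : ℂ => -a) _ neg_injective]

theorem le_of_sum_eq {β : Fin N → ℕ} (hinj : Function.Injective β)
    (hs : ∑ i, β i = tri N + n) (i : Fin N) : β i < N + n := by
  by_contra hle
  obtain ⟨σ, hσ⟩ := exists_rk_perm hinj
  have hsum : ∑ k, ((σ k : Fin N) : ℕ) = tri N := Equiv.sum_comp σ (fun k : Fin N => (k : ℕ))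
  have h1 : ∀ k ∈ (univ : Finset (Fin N)).erase i, ((σ k : Fin N) : ℕ) ≤ β k := fun k _ => by
    rw [hσ]; exact rk_le hinj k
  have h2 := sum_le_sum h1
  have h3 := add_sum_erase univ β (mem_univ i)
  have h4 := add_sum_erase univ (fun k => ((σ k : Fin N) : ℕ)) (mem_univ i)
  have := (σ i).isLt
  omega

/-- The exponent sets of associated characters are complementary reflections. -/
theorem exists_iff_not_exists (hn : n ≤ N) {β γ : Fin N → ℕ} (hinjβ : Function.Injective β)
    (hβ : ∑ i, β i = tri N + n) (hinjγ : Function.Injective γ) (hγ : ∑ i, γ i = tri N + n)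
    {c : ℂ} (hc : c ≠ 0)
    (h : ∀ g, chi n γ g = c * ((Equiv.Perm.sign g : ℤ) : ℂ) * chi n β g) {v : ℕ} (hv : v < 2 * N) :
    (∃ i, γ i = v) ↔ ¬ ∃ i, β i = 2 * N - 1 - v := by
  classical
  have hdγ : (chm (Multiset.replicate n 1) γ : ℂ) = c * (chm (Multiset.replicate n 1) β : ℂ) := by
    have := h 1
    rw [chi_one, chi_one, map_one] at this
    simpa using this
  have hd : (chm (Multiset.replicate n 1) β : ℂ) ≠ 0 := by exact_mod_cast deg_ne_zero hinjβ hβ
  have hcyc : ∀ z, cyc n z γ = c * (-1) ^ n * cyc n (-z) β := by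
    intro z
    refine mul_left_cancel₀ (show (n.factorial : ℂ) ≠ 0 by exact_mod_cast n.factorial_ne_zero) ?_
    simp only [cyc]
    rw [← sum_perm_parts, mul_left_comm, ← sum_perm_parts, mul_sum]
    refine sum_congr rfl fun g _ => ?_
    have := h g
    simp only [chi] at this
    rw [this, sign_eq_parts, neg_pow z]
    push_cast
    rw [pow_add]
    ring
  set root : ℕ → ℂ := fun k => (N : ℂ) - 1 - (k : ℂ)
  set Rβ := (sea β).map root
  set Rγ := (sea γ).map root
  set Rs := (sea (stair N)).map root
  have heval : ∀ (δ : Fin N → ℕ) (z : ℂ),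
      seaProd δ z = (((sea δ).map root).map fun a => z - a).prod := by
    intro δ z
    rw [← eval_seaPoly, seaPoly, eval_multiset_prod, Multiset.map_map]
    congr 1
    exact Multiset.map_congr rfl fun a _ => by simp
  set P : Multiset ℂ → ℂ[X] := fun R => (R.map fun a => X - Polynomial.C a).prod
  have hP : ∀ (R : Multiset ℂ) (z : ℂ), (P R).eval z = (R.map fun a => z - a).prod := by
    intro R z
    simp only [P, eval_multiset_prod, Multiset.map_map]
    congr 1
    exact Multiset.map_congr rfl fun a _ => by simp
  have hpoly : Polynomial.C ((-1 : ℂ) ^ Rs.card) * P (Rγ + Rs.map fun a => -a) =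
      Polynomial.C ((-1 : ℂ) ^ n * (-1) ^ Rβ.card) * P (Rs + Rβ.map fun a => -a) := by
    refine Polynomial.funext fun z => ?_
    simp only [eval_mul, eval_C, hP, Multiset.map_add, Multiset.prod_add]
    have e1 := cyc_eq n z γ
    have e2 := cyc_eq n (-z) β
    rw [hcyc, hdγ, heval, heval] at e1
    rw [heval, heval, eval_prod_neg, eval_prod_neg] at e2
    refine mul_left_cancel₀ (mul_ne_zero hc hd) ?_
    linear_combination ((-1 : ℂ) ^ n * c * ((Rs.map fun a => z - a).prod)) * e2 -
      ((-1 : ℂ) ^ Rs.card * (((Rs.map fun a => -a).map fun a => z - a).prod)) * e1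
  have hroots := congrArg Polynomial.roots hpoly
  rw [roots_C_mul _ (pow_ne_zero _ (by norm_num)), roots_C_mul _ (mul_ne_zero
    (pow_ne_zero _ (by norm_num)) (pow_ne_zero _ (by norm_num)))] at hroots
  simp only [P, roots_multiset_prod_X_sub_C] at hroots
  have hT : ∀ j, (univ.filter fun i : Fin N => j < stair N i).card = N - 1 - j := by
    intro j
    by_cases hj : j < N
    · have h1 : (univ.filter fun i : Fin N => j < stair N i) = Ioi ⟨j, hj⟩ := by
        ext i; rw [mem_filter, mem_Ioi]; simp [stair, Fin.lt_def]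
      rw [h1, Fin.card_Ioi]
    · rw [filter_false_of_mem fun i _ => by simp [stair]; omega, card_empty]; omega
  have hG : ∀ j, j + 2 ≤ 2 * N → (univ.filter fun i => j < γ i).card + (N - 1 - (2 * N - 2 - j)) =
      (N - 1 - j) + (univ.filter fun i => 2 * N - 2 - j < β i).card := by
    intro j hj
    have := congrArg (Multiset.count (root j)) hroots
    simp only [Multiset.count_add, Rγ, Rs, Rβ, root] at this
    rw [count_seaRoots, count_seaRoots, count_negRoots (j' := 2 * N - 2 - j) _ (by omega),
      count_negRoots (j' := 2 * N - 2 - j) _ (by omega), hT, hT] at this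
    exact this
  have hind : ∀ (δ : Fin N → ℕ), Function.Injective δ → ∀ w,
      (univ.filter fun i => w < δ i).card + (if ∃ i, δ i = w then 1 else 0) =
        (univ.filter fun i => w ≤ δ i).card := by
    intro δ hδ w
    have hsplit : (univ.filter fun i => w ≤ δ i) =
        (univ.filter fun i => w < δ i) ∪ univ.filter (fun i => δ i = w) := by
      ext i; simp only [mem_filter, mem_univ, true_and, mem_union]; omega
    rw [hsplit, card_union_of_disjoint (by
      rw [Finset.disjoint_left]; intro i h1 h2
      simp only [mem_filter, mem_univ, true_and] at h1 h2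
      omega)]
    congr 1
    split_ifs with he
    · obtain ⟨i, hi⟩ := he
      refine (card_eq_one.2 ⟨i, ?_⟩).symm
      ext l
      simp only [mem_filter, mem_univ, true_and, mem_singleton, ← hi, hδ.eq_iff]
    · exact (card_eq_zero.2 (filter_false_of_mem fun i _ hi => he ⟨i, hi⟩)).symm
  have hbd : ∀ (δ : Fin N → ℕ), Function.Injective δ → ∑ i, δ i = tri N + n → ∀ w,
      2 * N ≤ w → (univ.filter fun i => w ≤ δ i).card = 0 := fun δ h1 h2 w hw =>
    card_eq_zero.2 (filter_false_of_mem fun i _ hi => by
      have := le_of_sum_eq h1 h2 i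
      omega)
  have hall : ∀ (δ : Fin N → ℕ), (univ.filter fun i => 0 ≤ δ i).card = N := fun δ => by simp
  have hsucc : ∀ (δ : Fin N → ℕ) (w : ℕ), (univ.filter fun i => w + 1 ≤ δ i).card =
      (univ.filter fun i => w < δ i).card := fun δ w => rfl
  have hsum : (if ∃ i, γ i = v then 1 else 0) + (if ∃ i, β i = 2 * N - 1 - v then 1 else 0) = 1 := by
    have e1 := hind γ hinjγ v
    have e2 := hind β hinjβ (2 * N - 1 - v)
    rcases Nat.eq_zero_or_pos v with rfl | hv0
    · rw [hall] at e1
      have e3 := hG 0 (by omega)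
      have e4 := hbd β hinjβ hβ (2 * N - 1 + 1) (by omega)
      rw [hsucc] at e4
      have e5 := hsucc β (2 * N - 2)
      rw [show 2 * N - 2 + 1 = 2 * N - 1 - 0 by omega] at e5
      rw [show 2 * N - 2 - 0 = 2 * N - 2 by omega] at e3
      simp only [Nat.sub_zero] at e2 e3 e5 ⊢
      omega
    by_cases hvt : v = 2 * N - 1
    · subst hvt
      rw [Nat.sub_self, hall] at e2
      have e3 := hG (2 * N - 2) (by omega)
      rw [Nat.sub_self] at e3
      have e4 := hbd γ hinjγ hγ (2 * N - 1 + 1) (by omega)
      rw [hsucc] at e4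
      have e5 := hsucc γ (2 * N - 2)
      rw [show 2 * N - 2 + 1 = 2 * N - 1 by omega] at e5
      simp only [Nat.sub_self, Nat.sub_zero] at e2 e3 ⊢
      omega
    · have e3 := hG (v - 1) (by omega)
      have e4 := hG v (by omega)
      have e5 := hsucc γ (v - 1)
      rw [show v - 1 + 1 = v by omega] at e5
      have e6 := hsucc β (2 * N - 2 - v)
      rw [show 2 * N - 2 - v + 1 = 2 * N - 1 - v by omega] at e6
      rw [show 2 * N - 2 - (v - 1) = 2 * N - 1 - v by omega] at e3
      omega
  by_cases h1 : ∃ i, γ i = v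
  · rw [if_pos h1] at hsum
    refine iff_of_true h1 fun h2 => ?_
    rw [if_pos h2] at hsum
    omega
  · rw [if_neg h1] at hsum
    refine iff_of_false h1 (not_not.2 ?_)
    by_contra h2
    rw [if_neg h2] at hsum
    omega

section TwoClass

variable {G : Type} [Group G] [Fintype G] {M : Ideal AlgInt} [M.IsPrime] {p : ℕ}

/-- Two characters with congruent central characters on the kernel of a sign character lie in one
block up to multiplication by it. -/
theorem sameBlock_or_mul (lam : G →* ℤˣ) (χ φ φ' : IrrCharacter G)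
    (hφ' : ∀ g, (φ' : G → ℂ) g = ((lam g : ℤ) : ℂ) * (φ : G → ℂ) g)
    (h : ∀ a : G → ℂ, IsIntClass M a → (∀ g, lam g ≠ 1 → a g = 0) →
      MemLocalIdeal M (omega (χ : G → ℂ) a - omega (φ : G → ℂ) a)) :
    SameBlock M (χ : G → ℂ) (φ : G → ℂ) ∨ SameBlock M (χ : G → ℂ) (φ' : G → ℂ) := by
  classical
  have hval : ∀ g, centralChar (φ' : G → ℂ) g = ((lam g : ℤ) : ℂ) * centralChar (φ : G → ℂ) g := by
    intro g
    have h1 : (φ' : G → ℂ) 1 = (φ : G → ℂ) 1 := by rw [hφ' 1]; simp
    rw [centralChar, centralChar, hφ' g, h1]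
    ring
  set X : IrrCharacter G → G → Residue M := fun ψ g =>
    res M ⟨centralChar (ψ : G → ℂ) g, centralChar_mem ψ g⟩ with hX
  have heven : ∀ g, lam g = 1 → X χ g = X φ g := fun g hg => by
    rw [hX, res_eq_iff]
    have := h (classInd g) (isIntClass_classInd g) fun x hx => classInd_of_not_isConj fun hc => hx (by
      obtain ⟨c, rfl⟩ := isConj_iff.1 hc
      simp [hg])
    rwa [omega_classInd, omega_classInd] at this
  have hodd : ∀ g g', lam g ≠ 1 → lam g' ≠ 1 → X χ g * X χ g' = X φ g * X φ g' := by
    intro g g' hg hg'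
    rw [hX, ← map_mul, ← map_mul, res_eq_iff]
    have hc := h (conv (classInd g) (classInd g'))
      (isIntClass_conv (isIntClass_classInd g) (isIntClass_classInd g')) fun x hx => by
        refine sum_eq_zero fun y _ => ?_
        by_cases h1 : IsConj g y
        · by_cases h2 : IsConj g' (y⁻¹ * x)
          · exfalso
            refine hx ?_
            obtain ⟨c, hc⟩ := isConj_iff.1 h1
            obtain ⟨d, hd⟩ := isConj_iff.1 h2
            have hlx : lam x = lam g * lam g' := by
              rw [show x = y * (y⁻¹ * x) by group, map_mul, ← hd, ← hc]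
              simp only [map_mul, map_inv, mul_comm (lam c), mul_comm (lam d), mul_inv_cancel_right]
            rw [hlx, (Int.units_eq_one_or (lam g)).resolve_left hg,
              (Int.units_eq_one_or (lam g')).resolve_left hg']
            decide
          · rw [classInd_of_not_isConj h2, mul_zero]
        · rw [classInd_of_not_isConj h1, zero_mul]
    rw [omega_conv χ (isClassFunction_classInd g), omega_conv φ (isClassFunction_classInd g),
      omega_classInd, omega_classInd, omega_classInd, omega_classInd] at hc
    exact hc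
  by_cases hz : ∃ g₀, lam g₀ ≠ 1 ∧ X χ g₀ ≠ 0
  · obtain ⟨g₀, hg₀, hne⟩ := hz
    rcases mul_self_eq_mul_self_iff.1 (hodd g₀ g₀ hg₀ hg₀).symm with he | he
    · left
      intro g
      by_cases hg : lam g = 1
      · exact res_eq_iff.1 (heven g hg)
      · have h1 := hodd g g₀ hg hg₀
        rw [he] at h1
        exact res_eq_iff.1 (mul_right_cancel₀ hne h1)
    · right
      intro g
      rw [hval]
      rcases Int.units_eq_one_or (lam g) with hg | hg
      · rw [hg, Units.val_one, Int.cast_one, one_mul]
        exact res_eq_iff.1 (heven g hg)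
      · have h1 := hodd g g₀ (by rw [hg]; decide) hg₀
        rw [he] at h1
        have h2 : X χ g = -X φ g := mul_right_cancel₀ hne (h1.trans (by ring))
        rw [hX, ← map_neg, res_eq_iff] at h2
        rw [hg]
        simpa using h2
  · push Not at hz
    left
    intro g
    by_cases hg : lam g = 1
    · exact res_eq_iff.1 (heven g hg)
    · have h1 := hodd g g hg hg
      rw [hz g hg, mul_zero] at h1
      exact res_eq_iff.1 ((hz g hg).trans (mul_self_eq_zero.1 h1.symm).symm)

end TwoClass

end CfsgLib.SymBlocks
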