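import Cfsg.Agent.SymBlocks.Ch
import Mathlib.Analysis.Complex.Basic

/-!
# The average over a symmetric group of a function of the cycle lengths

`avg n` is defined by inserting the last point into a cycle; it satisfies the recursion by the
length of the cycle of a point. The alternant characters are orthonormal.
-/

set_option autoImplicit false

namespace CfsgLib.SymBlocks

open Finset

variable {N : ℕ}

/-- Insert a point into a cycle, summed over the places. -/
noncomputable def ins (F : Multiset ℕ → ℂ) (μ : Multiset ℕ) : ℂ :=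
  (μ.map fun m : ℕ => (m : ℂ) * F ((m + 1) ::ₘ μ.erase m)).sum

theorem ins_zero (F : Multiset ℕ → ℂ) : ins F 0 = 0 := by simp [ins]

theorem ins_cons (F : Multiset ℕ → ℂ) (m : ℕ) (μ : Multiset ℕ) :
    ins F (m ::ₘ μ) = (m : ℂ) * F ((m + 1) ::ₘ μ) + ins (fun ν => F (m ::ₘ ν)) μ := by
  simp only [ins, Multiset.map_cons, Multiset.sum_cons, Multiset.erase_cons_head]
  congr 2
  refine Multiset.map_congr rfl fun x hx => ?_
  congr 2
  rw [Multiset.cons_swap]
  congr 1
  by_cases h : x = m
  · subst h; rw [Multiset.erase_cons_head, Multiset.cons_erase hx]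
  · rw [Multiset.erase_cons_tail _ (Ne.symm h)]

/-- The average over the permutations of `n` points. -/
noncomputable def avg : ℕ → (Multiset ℕ → ℂ) → ℂ
  | 0, F => F 0
  | n + 1, F => (avg n (fun μ => F (1 ::ₘ μ)) + avg n (ins F)) / (n + 1)

theorem avg_add : ∀ (n : ℕ) (F G : Multiset ℕ → ℂ),
    avg n (fun μ => F μ + G μ) = avg n F + avg n G := by
  intro n
  induction n with
  | zero => intros; rfl
  | succ n ih =>
    intro F G
    have h : ins (fun μ => F μ + G μ) = fun μ => ins F μ + ins G μ := by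
      funext μ; simp [ins, mul_add, Multiset.sum_map_add]
    simp only [avg, h, ih]
    ring

theorem avg_mul : ∀ (n : ℕ) (c : ℂ) (F : Multiset ℕ → ℂ),
    avg n (fun μ => c * F μ) = c * avg n F := by
  intro n
  induction n with
  | zero => intros; rfl
  | succ n ih =>
    intro c F
    have h : ins (fun μ => c * F μ) = fun μ => c * ins F μ := by
      funext μ
      simp only [ins, ← Multiset.sum_map_mul_left, mul_left_comm c]
    simp only [avg, h, ih]
    ring

theorem avg_zero_fun (n : ℕ) : avg n (fun _ => 0) = 0 := by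
  simpa using avg_mul n 0 fun _ => 0

theorem avg_sum {ι : Type*} (n : ℕ) (s : Finset ι) (F : ι → Multiset ℕ → ℂ) :
    avg n (fun μ => ∑ i ∈ s, F i μ) = ∑ i ∈ s, avg n (F i) := by
  classical
  induction s using Finset.induction_on with
  | empty => simp [avg_zero_fun]
  | insert a s ha ih => simp only [sum_insert ha, avg_add, ih]

theorem avg_congr : ∀ (n : ℕ) (F G : Multiset ℕ → ℂ),
    (∀ μ : Multiset ℕ, μ.sum = n → (∀ m ∈ μ, 0 < m) → F μ = G μ) → avg n F = avg n G := by
  intro n
  induction n with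
  | zero => intro F G h; exact h 0 rfl (by simp)
  | succ n ih =>
    intro F G h
    simp only [avg]
    rw [ih (fun μ => F (1 ::ₘ μ)) (fun μ => G (1 ::ₘ μ)) fun μ hμ hpos => h _
      (by simp [hμ, add_comm]) (by simpa using hpos), ih (ins F) (ins G) fun μ hμ hpos => ?_]
    refine congrArg Multiset.sum (Multiset.map_congr rfl fun m hm => ?_)
    rw [h]
    · conv at hμ => rw [← Multiset.cons_erase hm, Multiset.sum_cons]
      rw [Multiset.sum_cons]
      omega
    · intro x hx
      rcases Multiset.mem_cons.1 hx with rfl | hx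
      · omega
      · exact hpos x (Multiset.mem_of_mem_erase hx)

theorem avg_ins (k : ℕ) (H : Multiset ℕ → ℂ) :
    avg k (ins H) = (k + 1 : ℂ) * avg (k + 1) H - avg k (fun μ => H (1 ::ₘ μ)) := by
  have h : (k + 1 : ℂ) ≠ 0 := Nat.cast_add_one_ne_zero k
  show _ = (k + 1 : ℂ) * ((_ + _) / (k + 1)) - _
  rw [mul_div_cancel₀ _ h]
  ring

theorem sum_Icc_shift (n : ℕ) (f : ℕ → ℂ) :
    ∑ m ∈ Icc 1 (n + 1), f m = f 1 + ∑ m ∈ Icc 1 n, f (m + 1) := by
  induction n with
  | zero => simp
  | succ n ih =>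
    rw [Finset.sum_Icc_succ_top (by omega : 1 ≤ n + 1 + 1), ih,
      Finset.sum_Icc_succ_top (by omega : 1 ≤ n + 1)]
    ring

/-- The recursion by the cycle of a point. -/
theorem avg_rec : ∀ (n : ℕ) (F : Multiset ℕ → ℂ), 0 < n →
    (n : ℂ) * avg n F = ∑ m ∈ Icc 1 n, avg (n - m) (fun μ => F (m ::ₘ μ)) := by
  intro n
  induction n with
  | zero => intro F h; omega
  | succ n ih =>
    intro F _
    rcases Nat.eq_zero_or_pos n with rfl | hn
    · simp [avg, ins_zero]
    have hn0 : (n : ℂ) ≠ 0 := by exact_mod_cast hn.ne'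
    have h1 := ih (ins F) hn
    have h2 := ih (fun μ => F (1 ::ₘ μ)) hn
    simp only [ins_cons, avg_add, avg_mul] at h1
    have hstep : ∀ m ∈ Icc 1 n, avg (n - m) (ins fun ν => F (m ::ₘ ν)) =
        ((n + 1 - m : ℕ) : ℂ) * avg (n + 1 - m) (fun μ => F (m ::ₘ μ)) -
          avg (n - m) (fun μ => F (1 ::ₘ m ::ₘ μ)) := by
      intro m hm
      obtain ⟨hm1, hm2⟩ := mem_Icc.1 hm
      rw [avg_ins, show n + 1 - m = n - m + 1 by omega]
      push_cast
      simp only [Multiset.cons_swap m 1]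
    rw [sum_congr rfl fun m hm => show _ = _ + _ by rw [hstep m hm]] at h1
    simp only [sum_add_distrib, sum_sub_distrib] at h1
    rw [← h2] at h1
    set a : ℕ → ℂ := fun m => avg (n + 1 - m) (fun μ => F (m ::ₘ μ)) with ha
    have hA : ∑ m ∈ Icc 1 n, (m : ℂ) * avg (n - m) (fun μ => F ((m + 1) ::ₘ μ)) =
        ∑ m ∈ Icc 1 (n + 1), ((m - 1 : ℕ) : ℂ) * a m := by
      rw [sum_Icc_shift n fun m => ((m - 1 : ℕ) : ℂ) * a m]
      simp only [Nat.sub_self, Nat.cast_zero, zero_mul, zero_add, ha, Nat.add_sub_cancel]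
      exact sum_congr rfl fun m _ => by rw [Nat.add_sub_add_right]
    have hB : ∑ m ∈ Icc 1 n, ((n + 1 - m : ℕ) : ℂ) * a m =
        ∑ m ∈ Icc 1 (n + 1), ((n + 1 - m : ℕ) : ℂ) * a m := by
      rw [Finset.sum_Icc_succ_top (by omega : 1 ≤ n + 1)]
      simp
    rw [hA] at h1
    try simp only [← ha] at h1
    have htot : ∑ m ∈ Icc 1 (n + 1), ((m - 1 : ℕ) : ℂ) * a m +
        ∑ m ∈ Icc 1 (n + 1), ((n + 1 - m : ℕ) : ℂ) * a m = (n : ℂ) * ∑ m ∈ Icc 1 (n + 1), a m := by
      rw [← sum_add_distrib, mul_sum]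
      refine sum_congr rfl fun m hm => ?_
      obtain ⟨hm1, hm2⟩ := mem_Icc.1 hm
      rw [← add_mul, ← Nat.cast_add, show m - 1 + (n + 1 - m) = n by omega]
    refine mul_left_cancel₀ hn0 ?_
    show (n : ℂ) * ((n + 1 : ℕ) * avg (n + 1) F) = _
    rw [← htot, ← hB]
    have hsucc : ((n + 1 : ℕ) : ℂ) * avg (n + 1) F =
        avg n (fun μ => F (1 ::ₘ μ)) + avg n (ins F) := by
      show _ * ((_ + _) / _) = _
      push_cast
      rw [mul_div_cancel₀ _ (Nat.cast_add_one_ne_zero n)]
    rw [hsucc, mul_add, h1]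
    ring

/-- The alternant characters are orthonormal. -/
theorem avg_chm_mul : ∀ (n : ℕ) (β γ : Fin N → ℕ), ∑ i, β i = tri N + n →
    ∑ i, γ i = tri N + n →
    avg n (fun μ => (chm μ β : ℂ) * (chm μ γ : ℂ)) = (alt β γ : ℂ) := by
  intro n
  induction n using Nat.strong_induction_on with
  | _ n ih =>
    intro β γ hβ hγ
    rcases Nat.eq_zero_or_pos n with rfl | hn
    · show (chm 0 β : ℂ) * (chm 0 γ : ℂ) = _
      rw [chm_zero, chm_zero, ← Int.cast_mul, alt_stair_mul hβ]
    refine mul_left_cancel₀ (show (n : ℂ) ≠ 0 by exact_mod_cast hn.ne') ?_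
    rw [avg_rec n _ hn]
    have hexp : ∀ m ∈ Icc 1 n, avg (n - m) (fun μ => (chm (m ::ₘ μ) β : ℂ) *
        (chm (m ::ₘ μ) γ : ℂ)) =
        ((∑ i, ∑ j, (if m ≤ β i ∧ m ≤ γ j then alt (dec β i m) (dec γ j m) else 0) : ℤ) : ℂ) := by
      intro m hm
      obtain ⟨hm1, hm2⟩ := mem_Icc.1 hm
      simp only [chm_cons, Int.cast_sum, Finset.sum_mul_sum, avg_sum]
      refine sum_congr rfl fun i _ => sum_congr rfl fun j _ => ?_
      by_cases h : m ≤ β i ∧ m ≤ γ j
      · have h1 := sum_dec β h.1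
        have h2 := sum_dec γ h.2
        simp only [h.1, h.2, and_self, if_true]
        exact ih (n - m) (by omega) _ _ (by omega) (by omega)
      · rw [if_neg h, Int.cast_zero]
        rcases not_and_or.1 h with h' | h' <;> simp [h', avg_zero_fun]
    rw [sum_congr rfl hexp, ← Int.cast_sum]
    have hext : ∑ m ∈ Icc 1 n, ∑ i, ∑ j,
        (if m ≤ β i ∧ m ≤ γ j then alt (dec β i m) (dec γ j m) else 0) =
        ∑ m ∈ Icc 1 (tri N + n), ∑ i, ∑ j,
        (if m ≤ β i ∧ m ≤ γ j then alt (dec β i m) (dec γ j m) else 0) := by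
      refine sum_subset (Icc_subset_Icc_right (by omega)) fun m hm hm' => ?_
      simp only [mem_Icc] at hm hm'
      refine sum_eq_zero fun i _ => sum_eq_zero fun j _ => ?_
      split_ifs with h
      · by_contra hne
        have h1 := tri_le_sum (injective_of_alt_ne_zero hne)
        have h2 := sum_dec β h.1
        omega
      · rfl
    rw [hext, alt_step hβ hγ le_rfl]
    push_cast
    ring

end CfsgLib.SymBlocks
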