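import Cfsg.Agent.SymBlocks.Alt
import Mathlib.Data.Multiset.Basic

/-!
# The alternant characters as functions of cycle lengths

`chm μ β` is defined by the rule "remove a hook for each cycle".
-/

set_option autoImplicit false

namespace CfsgLib.SymBlocks

open Finset

variable {N : ℕ}

/-- The value on a list of cycle lengths. -/
def ch : List ℕ → (Fin N → ℕ) → ℤ
  | [], β => alt β (stair N)
  | m :: l, β => ∑ i, if m ≤ β i then ch l (dec β i m) else 0

theorem ch_swap (a b : ℕ) (l : List ℕ) (β : Fin N → ℕ) :
    ch (a :: b :: l) β = ch (b :: a :: l) β := by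
  simp only [ch, ite_sum_zero]
  rw [sum_comm]
  refine sum_congr rfl fun i _ => sum_congr rfl fun k _ => ?_
  by_cases hik : i = k
  · subst hik
    simp only [dec, Function.update_self, Function.update_idem, ← ite_and]
    by_cases h : a + b ≤ β i
    · rw [if_pos ⟨by omega, by omega⟩, if_pos ⟨by omega, by omega⟩]
      congr 2
      omega
    · rw [if_neg (by omega), if_neg (by omega)]
  · simp only [dec, Function.update_of_ne hik, Function.update_of_ne (Ne.symm hik), ← ite_and]
    rw [Function.update_comm hik]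
    simp only [and_comm]

theorem ch_perm {l l' : List ℕ} (h : l.Perm l') : ∀ β : Fin N → ℕ, ch l β = ch l' β := by
  induction h with
  | nil => intro β; rfl
  | cons x _ ih =>
    intro β
    simp only [ch, ih]
  | swap x y l => intro β; exact ch_swap y x l β
  | trans _ _ ih1 ih2 => intro β; rw [ih1, ih2]

/-- The value on a multiset of cycle lengths. -/
def chm (μ : Multiset ℕ) (β : Fin N → ℕ) : ℤ :=
  Quotient.liftOn μ (fun l => ch l β) fun _ _ h => ch_perm h β

theorem chm_zero (β : Fin N → ℕ) : chm 0 β = alt β (stair N) := rfl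

theorem chm_cons (m : ℕ) (μ : Multiset ℕ) (β : Fin N → ℕ) :
    chm (m ::ₘ μ) β = ∑ i, if m ≤ β i then chm μ (dec β i m) else 0 :=
  Quotient.inductionOn μ fun _ => rfl

theorem chm_comp (μ : Multiset ℕ) : ∀ (β : Fin N → ℕ) (σ : Equiv.Perm (Fin N)),
    chm μ (β ∘ σ) = (Equiv.Perm.sign σ : ℤ) * chm μ β := by
  induction μ using Multiset.induction_on with
  | empty => intro β σ; simp only [chm_zero, alt_perm_left]
  | cons m μ ih =>
    intro β σ
    simp only [chm_cons, mul_sum]
    conv_rhs => rw [← Equiv.sum_comp σ]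
    refine sum_congr rfl fun i _ => ?_
    simp only [Function.comp_apply, dec_comp, ih]
    split_ifs <;> simp

theorem chm_eq_zero_of_eq (μ : Multiset ℕ) {β : Fin N → ℕ} {i j : Fin N} (hne : i ≠ j)
    (h : β i = β j) : chm μ β = 0 := by
  have h1 := chm_comp μ β (Equiv.swap i j)
  have h2 : β ∘ Equiv.swap i j = β := by
    funext k
    simp only [Function.comp_apply, Equiv.swap_apply_def]
    split_ifs with hk hk' <;> simp_all
  rw [h2, Equiv.Perm.sign_swap hne] at h1
  simp at h1
  omega

theorem injective_of_chm_ne_zero {μ : Multiset ℕ} {β : Fin N → ℕ} (h : chm μ β ≠ 0) :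
    Function.Injective β := by
  intro i j hij
  by_contra hne
  exact h (chm_eq_zero_of_eq μ hne hij)

theorem sum_eq_of_chm_ne_zero {μ : Multiset ℕ} : ∀ {β : Fin N → ℕ},
    chm μ β ≠ 0 → ∑ i, β i = tri N + μ.sum := by
  induction μ using Multiset.induction_on with
  | empty =>
    intro β h
    obtain ⟨σ, hσ⟩ := exists_of_alt_ne_zero (chm_zero β ▸ h)
    rw [Multiset.sum_zero, add_zero, ← Equiv.sum_comp σ β]
    exact sum_congr rfl fun i _ => congrFun hσ i
  | cons m μ ih =>
    intro β h
    rw [chm_cons] at h
    obtain ⟨i, -, hi⟩ := exists_ne_zero_of_sum_ne_zero h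
    by_cases hm : m ≤ β i
    · rw [if_pos hm] at hi
      have h1 := ih hi
      have h2 := sum_dec β hm
      rw [Multiset.sum_cons]
      omega
    · exact absurd (if_neg hm) hi

theorem alt_stair_mul {β γ : Fin N → ℕ} (hβ : ∑ i, β i = tri N) :
    alt β (stair N) * alt γ (stair N) = alt β γ := by
  by_cases hinj : Function.Injective β
  · obtain ⟨σ, rfl⟩ := eq_stair_comp hinj hβ.le
    have hst : Function.Injective (stair N) := fun i j h => Fin.ext h
    rw [alt_perm_left, alt_self hst, alt_perm_left, mul_one,
      alt_comm γ (stair N)]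
  · obtain ⟨i, j, hij, hne⟩ := Function.not_injective_iff.1 hinj
    rw [alt_eq_zero_of_eq hne hij, alt_eq_zero_of_eq hne hij, zero_mul]

end CfsgLib.SymBlocks
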