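import Cfsg.Agent.SymBlocks.Avg

/-!
# The content identity, raising operators, degrees
-/

set_option autoImplicit false

namespace CfsgLib.SymBlocks

open Finset

variable {N : ℕ}

/-- Moving one of two equal entries in the two possible ways cancels. -/
theorem sum_antisym_eq_zero (μ : Multiset ℕ) {β : Fin N → ℕ} {a b : Fin N} (hne : a ≠ b)
    (h : β a = β b) (c : ℕ → ℂ) (t : ℕ → ℕ) :
    ∑ i, c (β i) * (chm μ (Function.update β i (t (β i))) : ℂ) = 0 := by
  rw [← sum_subset (subset_univ ({a, b} : Finset (Fin N))) fun i _ hi => ?_, sum_pair hne]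
  · have h1 : Function.update β b (t (β b)) =
        Function.update β a (t (β a)) ∘ Equiv.swap a b := by
      funext l
      by_cases hla : l = a
      · subst hla; simp [hne, hne.symm, h]
      by_cases hlb : l = b
      · subst hlb; simp [h]
      · simp [Equiv.swap_apply_of_ne_of_ne hla hlb, hla, hlb]
    rw [h1, chm_comp, Equiv.Perm.sign_swap hne, h]
    push_cast
    ring
  · simp only [mem_insert, mem_singleton, not_or] at hi
    rw [chm_eq_zero_of_eq μ hne (by simp [Ne.symm hi.1, Ne.symm hi.2, h])]
    simp

theorem ins_sum {ι : Type*} (s : Finset ι) (F : ι → Multiset ℕ → ℂ) (μ : Multiset ℕ) :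
    ins (fun ν => ∑ i ∈ s, F i ν) μ = ∑ i ∈ s, ins (F i) μ := by
  classical
  induction s using Finset.induction_on with
  | empty => simp [ins]
  | insert a s ha ih =>
    simp only [sum_insert ha]
    rw [← ih]
    simp [ins, mul_add, Multiset.sum_map_add]

/-- Inserting a point is multiplying by the content of the box removed. -/
theorem ins_chm : ∀ (μ : Multiset ℕ) (β : Fin N → ℕ), ins (fun ν => (chm ν β : ℂ)) μ =
    ∑ i, if 1 ≤ β i then ((β i : ℂ) - N) * (chm μ (dec β i 1) : ℂ) else 0 := by
  intro μ
  induction μ using Multiset.induction_on with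
  | empty =>
    intro β
    rw [ins_zero]
    symm
    by_cases hinj : Function.Injective β
    · refine sum_eq_zero fun i _ => ?_
      split_ifs with h
      · by_cases hz : chm 0 (dec β i 1) = 0
        · rw [hz]; simp
        have hs := sum_eq_of_chm_ne_zero hz
        rw [Multiset.sum_zero, add_zero] at hs
        obtain ⟨σ, hσ⟩ := eq_stair_comp (injective_of_chm_ne_zero hz) hs.le
        have hi : β i - 1 = (σ i : ℕ) := by
          have := congrFun hσ i
          simpa [dec, stair] using this
        have hN : β i = N := by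
          by_contra hne
          have hlt : β i < N := by have := (σ i).isLt; omega
          obtain ⟨l, hl⟩ := σ.surjective ⟨β i, hlt⟩
          have hli : l ≠ i := fun e => by
            rw [e] at hl
            have := congrArg Fin.val hl
            simp at this
            omega
          refine hli (hinj ?_)
          have := congrFun hσ l
          simpa [dec, stair, hli, hl] using this
        simp [hN]
      · rfl
    · obtain ⟨a, b, hab, hne⟩ := Function.not_injective_iff.1 hinj
      refine Eq.trans ?_ (sum_antisym_eq_zero 0 hne hab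
        (fun v => if 1 ≤ v then (v : ℂ) - N else 0) (fun v => v - 1))
      refine sum_congr rfl fun i _ => ?_
      simp only [dec]
      split_ifs <;> simp
  | cons a μ ih =>
    intro β
    rw [ins_cons]
    have h1 : (fun ν => (chm (a ::ₘ ν) β : ℂ)) =
        fun ν => ∑ k, (if a ≤ β k then 1 else 0 : ℂ) * (chm ν (dec β k a) : ℂ) := by
      funext ν
      rw [chm_cons, Int.cast_sum]
      exact sum_congr rfl fun k _ => by split_ifs <;> simp
    rw [h1, ins_sum]
    have h2 : ∀ k, ins (fun ν => (if a ≤ β k then 1 else 0 : ℂ) * (chm ν (dec β k a) : ℂ)) μ =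
        (if a ≤ β k then 1 else 0 : ℂ) * ins (fun ν => (chm ν (dec β k a) : ℂ)) μ := by
      intro k
      simp only [ins, ← Multiset.sum_map_mul_left, mul_left_comm (if a ≤ β k then 1 else 0 : ℂ)]
    simp only [h2, ih, mul_sum, chm_cons, Int.cast_sum, ite_sum_zero]
    rw [sum_comm (γ := Fin N), ← sum_add_distrib]
    refine sum_congr rfl fun i _ => ?_
    have hdiag : (a : ℂ) * ((if a + 1 ≤ β i then chm μ (dec β i (a + 1)) else 0 : ℤ) : ℂ) =
        ∑ k, if k = i then
          (a : ℂ) * ((if a + 1 ≤ β i then chm μ (dec β i (a + 1)) else 0 : ℤ) : ℂ) else 0 := by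
      rw [sum_ite_eq' univ i]; simp
    rw [hdiag, ← sum_add_distrib]
    refine sum_congr rfl fun k _ => ?_
    by_cases hki : k = i
    · subst hki
      simp only [if_true, dec, Function.update_self, Function.update_idem]
      by_cases h : a + 1 ≤ β k
      · rw [if_pos h, if_pos (by omega), if_pos (by omega), if_pos (by omega), if_pos (by omega)]
        rw [show β k - a - 1 = β k - (a + 1) by omega, show β k - 1 - a = β k - (a + 1) by omega,
          Nat.cast_sub (by omega : a ≤ β k)]
        ring
      · rw [if_neg h]
        have e1 : ∀ z : ℂ, (if a ≤ β k then (1 : ℂ) else 0) * (if 1 ≤ β k - a then z else 0) = 0 :=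
          fun z => by
            split_ifs <;> first | (exfalso; omega) | simp
        rw [e1]
        by_cases h1 : 1 ≤ β k
        · rw [if_pos h1, if_neg (by omega)]; simp
        · rw [if_neg h1]; simp
    · have hik : i ≠ k := Ne.symm hki
      simp only [if_neg hki, zero_add, dec, Function.update_of_ne hik, Function.update_of_ne hki]
      rw [Function.update_comm hik]
      split_ifs <;> simp

theorem ins_pow_mul (z : ℂ) (F : Multiset ℕ → ℂ) (μ : Multiset ℕ) :
    ins (fun ν => z ^ ν.card * F ν) μ = z ^ μ.card * ins F μ := by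
  simp only [ins, ← Multiset.sum_map_mul_left]
  refine congrArg Multiset.sum (Multiset.map_congr rfl fun m hm => ?_)
  rw [Multiset.card_cons, Multiset.card_erase_add_one hm]
  ring

/-- The weighted character sum. -/
noncomputable def cyc (n : ℕ) (z : ℂ) (β : Fin N → ℕ) : ℂ :=
  avg n fun μ => z ^ μ.card * (chm μ β : ℂ)

theorem cyc_succ (n : ℕ) (z : ℂ) (β : Fin N → ℕ) : ((n + 1 : ℕ) : ℂ) * cyc (n + 1) z β =
    ∑ i, if 1 ≤ β i then (z + ((β i : ℂ) - N)) * cyc n z (dec β i 1) else 0 := by
  have hstep : ((n + 1 : ℕ) : ℂ) * cyc (n + 1) z β =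
      avg n (fun μ => z ^ (1 ::ₘ μ).card * (chm (1 ::ₘ μ) β : ℂ)) +
        avg n (ins fun μ => z ^ μ.card * (chm μ β : ℂ)) := by
    show _ * ((_ + _) / _) = _
    push_cast
    rw [mul_div_cancel₀ _ (Nat.cast_add_one_ne_zero n)]
  have hF : (fun μ : Multiset ℕ => z ^ (1 ::ₘ μ).card * (chm (1 ::ₘ μ) β : ℂ) +
      ins (fun μ => z ^ μ.card * (chm μ β : ℂ)) μ) = fun μ => ∑ i, (if 1 ≤ β i then
        z + ((β i : ℂ) - N) else 0) * (z ^ μ.card * (chm μ (dec β i 1) : ℂ)) := by
    funext μ
    rw [ins_pow_mul, ins_chm, Multiset.card_cons, chm_cons, Int.cast_sum, mul_sum, mul_sum,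
      ← sum_add_distrib]
    refine sum_congr rfl fun i _ => ?_
    split_ifs
    · ring
    · simp
  rw [hstep, ← avg_add, hF, avg_sum]
  refine sum_congr rfl fun i _ => ?_
  rw [avg_mul]
  split_ifs
  · rfl
  · simp

/-- The product over the boxes counted from the empty sea. -/
noncomputable def seaProd (β : Fin N → ℕ) (z : ℂ) : ℂ :=
  ∏ i, ∏ j ∈ range (β i), (z + ((j : ℂ) + 1 - N))

theorem seaProd_dec {β : Fin N → ℕ} {i : Fin N} (h : 1 ≤ β i) (z : ℂ) :
    seaProd β z = (z + ((β i : ℂ) - N)) * seaProd (dec β i 1) z := by
  unfold seaProd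
  rw [← mul_prod_erase _ _ (mem_univ i), ← mul_prod_erase _ _ (mem_univ i)]
  have h1 : ∀ k ∈ univ.erase i, dec β i 1 k = β k := fun k hk => by
    simp [dec, (mem_erase.1 hk).1]
  have h2 : dec β i 1 i = β i - 1 := by simp [dec]
  obtain ⟨b, hb⟩ : ∃ b, β i = b + 1 := ⟨β i - 1, by omega⟩
  have h3 : ∏ k ∈ univ.erase i, ∏ j ∈ range (dec β i 1 k), (z + ((j : ℂ) + 1 - N)) =
      ∏ k ∈ univ.erase i, ∏ j ∈ range (β k), (z + ((j : ℂ) + 1 - N)) :=
    prod_congr rfl fun k hk => by rw [h1 k hk]
  rw [h3, h2, hb, prod_range_succ, Nat.add_sub_cancel]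
  push_cast
  ring

/-- Jucys' identity. -/
theorem cyc_eq : ∀ (n : ℕ) (z : ℂ) (β : Fin N → ℕ),
    (n.factorial : ℂ) * cyc n z β * seaProd (stair N) z =
      (chm (Multiset.replicate n 1) β : ℂ) * seaProd β z := by
  intro n
  induction n with
  | zero =>
    intro z β
    show ((Nat.factorial 0 : ℕ) : ℂ) * (z ^ (0 : Multiset ℕ).card * (chm 0 β : ℂ)) * _ = _
    simp only [Nat.factorial_zero, Nat.cast_one, Multiset.card_zero, pow_zero, one_mul,
      Multiset.replicate_zero]
    by_cases hz : chm 0 β = 0
    · simp [hz]
    have hs := sum_eq_of_chm_ne_zero hz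
    rw [Multiset.sum_zero, add_zero] at hs
    obtain ⟨σ, hσ⟩ := eq_stair_comp (injective_of_chm_ne_zero hz) hs.le
    congr 1
    subst hσ
    exact (Equiv.prod_comp σ fun i => ∏ j ∈ range (stair N i), (z + ((j : ℂ) + 1 - N))).symm
  | succ n ih =>
    intro z β
    rw [Nat.factorial_succ, Nat.cast_mul, mul_comm ((n + 1 : ℕ) : ℂ), mul_assoc (n.factorial : ℂ),
      cyc_succ, mul_sum, sum_mul, Multiset.replicate_succ, chm_cons, Int.cast_sum, sum_mul]
    refine sum_congr rfl fun i _ => ?_
    split_ifs with h
    · rw [seaProd_dec h]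
      linear_combination (z + ((β i : ℂ) - N)) * ih z (dec β i 1)
    · simp

/-- Removing and adding commute up to a boundary term. -/
theorem raise_cons (k : ℕ) (μ : Multiset ℕ) (β : Fin N → ℕ) (M : ℕ) :
    ∑ i, chm (k ::ₘ μ) (inc β i M) =
      (∑ l, if k ≤ β l then ∑ i, chm μ (inc (dec β l k) i M) else 0) +
      ∑ i, if β i < k ∧ k ≤ β i + M then chm μ (Function.update β i (β i + M - k)) else 0 := by
  simp only [chm_cons, ite_sum_zero]
  rw [sum_comm, ← sum_add_distrib]
  refine sum_congr rfl fun l _ => ?_
  have hd : (if β l < k ∧ k ≤ β l + M then chm μ (Function.update β l (β l + M - k)) else 0) =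
      ∑ i, if i = l then
        (if β l < k ∧ k ≤ β l + M then chm μ (Function.update β l (β l + M - k)) else 0) else 0 := by
    rw [sum_ite_eq' univ l]; simp
  rw [hd, ← sum_add_distrib]
  refine sum_congr rfl fun i _ => ?_
  by_cases hil : i = l
  · subst hil
    simp only [inc, dec, Function.update_self, Function.update_idem, if_true]
    by_cases h : k ≤ β i
    · rw [if_pos (by omega), if_pos h, if_neg (by omega), add_zero]
      congr 2
      omega
    · rw [if_neg h, zero_add]
      by_cases h2 : k ≤ β i + M
      · rw [if_pos h2, if_pos ⟨by omega, h2⟩]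
      · rw [if_neg h2, if_neg (by omega)]
  · simp only [inc, dec, Function.update_of_ne (Ne.symm hil), Function.update_of_ne hil,
      if_neg hil, add_zero]
    rw [Function.update_comm hil]

theorem raise_eq_zero_of_not_injective (μ : Multiset ℕ) {β : Fin N → ℕ}
    (h : ¬ Function.Injective β) (M : ℕ) : ∑ i, chm μ (inc β i M) = 0 := by
  obtain ⟨a, b, hab, hne⟩ := Function.not_injective_iff.1 h
  have := sum_antisym_eq_zero μ hne hab (fun _ => (1 : ℂ)) (fun v => v + M)
  simp only [one_mul, ← Int.cast_sum, Int.cast_eq_zero] at this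
  exact this

/-- Adding a hook of a length not occurring among the cycle lengths gives zero. -/
theorem raise_eq_zero : ∀ (μ : Multiset ℕ) (β : Fin N → ℕ) (M : ℕ), 0 < M → M ∉ μ →
    ∑ i, β i + M = tri N + μ.sum → μ.sum ≤ N → ∑ i, chm μ (inc β i M) = 0 := by
  intro μ
  induction μ using Multiset.induction_on with
  | empty =>
    intro β M hM _ hs _
    refine raise_eq_zero_of_not_injective 0 (fun hinj => ?_) M
    have := tri_le_sum hinj
    simp at hs
    omega
  | cons k μ ih =>
    intro β M hM hmem hs hN
    by_cases hinj : Function.Injective β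
    swap
    · exact raise_eq_zero_of_not_injective _ hinj M
    rw [Multiset.sum_cons] at hs hN
    rw [Multiset.mem_cons, not_or] at hmem
    rw [raise_cons]
    have h1 : ∀ l, (if k ≤ β l then ∑ i, chm μ (inc (dec β l k) i M) else 0) = 0 := by
      intro l
      split_ifs with h
      · refine ih _ M hM hmem.2 ?_ (by omega)
        have := sum_dec β h
        omega
      · rfl
    have h2 : ∀ i, (if β i < k ∧ k ≤ β i + M then
        chm μ (Function.update β i (β i + M - k)) else 0) = 0 := by
      intro i
      split_ifs with h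
      · obtain ⟨j, hj⟩ : ∃ j, β j = β i + M - k := by
          by_contra hne
          push Not at hne
          have := tri_add_le_of_gap hinj hne
          omega
        have hji : j ≠ i := fun e => by
          subst e
          exact hmem.1 (by omega)
        exact chm_eq_zero_of_eq μ hji (by simp [hji, hj])
      · rfl
    simp [h1, h2]

/-- The degree. -/
theorem raise_one : ∀ (n : ℕ), n < N → ∀ β : Fin N → ℕ, ∑ i, β i = tri N + n →
    ∑ i, chm (Multiset.replicate (n + 1) 1) (inc β i 1) =
      ((n + 1 : ℕ) : ℤ) * chm (Multiset.replicate n 1) β := by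
  intro n
  induction n with
  | zero =>
    intro hN β hs
    rw [Multiset.replicate_one, ← Multiset.cons_zero, Multiset.replicate_zero]
    by_cases hinj : Function.Injective β
    swap
    · rw [raise_eq_zero_of_not_injective _ hinj 1]
      obtain ⟨a, b, hab, hne⟩ := Function.not_injective_iff.1 hinj
      rw [chm_eq_zero_of_eq 0 hne hab, mul_zero]
    obtain ⟨σ, hσ⟩ := eq_stair_comp hinj (by omega)
    rw [raise_cons]
    have h1 : ∀ l, (if 1 ≤ β l then ∑ i, chm 0 (inc (dec β l 1) i 1) else 0) = 0 := by
      intro l
      split_ifs with h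
      · refine raise_eq_zero_of_not_injective 0 (fun hi => ?_) 1
        have := tri_le_sum hi
        have := sum_dec β h
        omega
      · rfl
    rw [sum_eq_zero fun l _ => h1 l, zero_add]
    rw [sum_eq_single (σ.symm ⟨0, hN⟩)]
    · have h0 : β (σ.symm ⟨0, hN⟩) = 0 := by
        have := congrFun hσ (σ.symm ⟨0, hN⟩)
        simpa [stair] using this
      have hu : Function.update β (σ.symm ⟨0, hN⟩) 0 = β :=
        (congrArg (Function.update β (σ.symm ⟨0, hN⟩)) h0.symm).trans (Function.update_eq_self _ _)
      simp [h0, hu]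
    · intro i _ hi
      rw [if_neg]
      intro h
      refine hi (σ.injective ?_)
      rw [Equiv.apply_symm_apply]
      have := congrFun hσ i
      simp [stair] at this
      exact Fin.ext (by show (σ i : ℕ) = 0; omega)
    · intro h; exact absurd (mem_univ _) h
  | succ n ih =>
    intro hN β hs
    rw [Multiset.replicate_succ 1 (n + 1), raise_cons]
    by_cases hinj : Function.Injective β
    swap
    · obtain ⟨a, b, hab, hne⟩ := Function.not_injective_iff.1 hinj
      rw [chm_eq_zero_of_eq _ hne hab, mul_zero, ← raise_cons,
        raise_eq_zero_of_not_injective _ hinj 1]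
    obtain ⟨z, hz⟩ : ∃ z, β z = 0 := by
      by_contra hne
      push Not at hne
      have := tri_add_le_of_gap hinj (x := 0) hne
      omega
    have hB : (∑ i, if β i < 1 ∧ 1 ≤ β i + 1 then
        chm (Multiset.replicate (n + 1) 1) (Function.update β i (β i + 1 - 1)) else 0) =
        chm (Multiset.replicate (n + 1) 1) β := by
      rw [sum_eq_single z]
      · have hu : Function.update β z 0 = β := by
          conv_lhs => rw [← hz]
          exact Function.update_eq_self _ _
        simp [hz, hu]
      · intro i _ hi
        rw [if_neg]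
        intro h
        exact hi (hinj (by omega))
      · intro h; exact absurd (mem_univ _) h
    have hA : ∀ l, (if 1 ≤ β l then
        ∑ i, chm (Multiset.replicate (n + 1) 1) (inc (dec β l 1) i 1) else 0) =
        ((n + 1 : ℕ) : ℤ) * if 1 ≤ β l then chm (Multiset.replicate n 1) (dec β l 1) else 0 := by
      intro l
      split_ifs with h
      · refine ih (by omega) _ ?_
        have := sum_dec β h
        omega
      · rw [mul_zero]
    rw [hB, sum_congr rfl fun l _ => hA l, ← mul_sum, ← chm_cons,
      ← Multiset.replicate_succ]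
    push_cast
    ring

theorem deg_nonneg_pos : ∀ (n : ℕ) (β : Fin N → ℕ), StrictMono β → ∑ i, β i = tri N + n →
    0 < chm (Multiset.replicate n 1) β := by
  intro n
  induction n with
  | zero =>
    intro β hβ hs
    rw [Multiset.replicate_zero, chm_zero]
    obtain ⟨σ, hσ⟩ := eq_stair_comp hβ.injective (by omega)
    have hid : β = stair N := by
      have hmono : StrictMono σ := fun a b hab => by
        have := hβ hab
        rw [hσ] at this
        exact this
      have : (σ : Fin N → Fin N) = id := by
        funext x
        exact DFunLike.congr_fun (Subsingleton.elim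
          (hmono.orderIsoOfSurjective σ σ.surjective) (OrderIso.refl (Fin N))) x
      rw [hσ, this]
      rfl
    have hst : Function.Injective (stair N) := fun i j h => Fin.ext h
    rw [hid, alt_self hst]
    norm_num
  | succ n ih =>
    intro β hβ hs
    rw [Multiset.replicate_succ, chm_cons]
    have hval : ∀ i, 1 ≤ β i → Function.Injective (dec β i 1) → StrictMono (dec β i 1) := by
      intro i h hi a b hab
      refine lt_of_le_of_ne ?_ fun e => hab.ne (hi e)
      have := hβ hab
      by_cases ha : a = i
      · subst ha; simp [dec, hab.ne']; omega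
      by_cases hb : b = i
      · subst hb; simp [dec, ha]; omega
      · simp [dec, ha, hb]; omega
    refine sum_pos' (fun i _ => ?_) ?_
    · split_ifs with h
      · by_cases hi : Function.Injective (dec β i 1)
        · refine (ih _ (hval i h hi) ?_).le
          have := sum_dec β h
          omega
        · obtain ⟨a, b, hab, hne⟩ := Function.not_injective_iff.1 hi
          rw [chm_eq_zero_of_eq _ hne hab]
      · exact le_rfl
    · obtain ⟨i, hi, hmin⟩ : ∃ i : Fin N, (i : ℕ) < β i ∧
          ∀ a : Fin N, a < i → β a = (a : ℕ) := by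
        have hge : ∀ a : Fin N, (a : ℕ) ≤ β a := by
          intro a
          have h1 := rk_le hβ.injective a
          have h2 : (univ.filter fun j => β j < β a) = Iio a := by
            ext j; simp [hβ.lt_iff_lt]
          rwa [rk, h2, Fin.card_Iio] at h1
        have hex : (univ.filter fun a : Fin N => (a : ℕ) < β a).Nonempty := by
          by_contra hne
          rw [not_nonempty_iff_eq_empty, filter_eq_empty_iff] at hne
          have : ∑ a, β a = tri N := sum_congr rfl fun a _ =>
            le_antisymm (not_lt.1 (hne (mem_univ a))) (hge a)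
          omega
        refine ⟨_, (mem_filter.1 (min'_mem _ hex)).2, fun a ha => ?_⟩
        refine le_antisymm (not_lt.1 fun h => ?_) (hge a)
        exact absurd (min'_le _ a (mem_filter.2 ⟨mem_univ a, h⟩)) (not_le.2 ha)
      refine ⟨i, mem_univ i, ?_⟩
      rw [if_pos (by omega)]
      have hinj : Function.Injective (dec β i 1) := by
        have key : ∀ a, a ≠ i → β a ≠ β i - 1 := by
          intro a ha
          rcases lt_or_gt_of_ne ha with h | h
          · rw [hmin a h]
            have : (a : ℕ) < i := h
            omega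
          · have := hβ h
            omega
        intro a b hab
        by_cases ha : a = i <;> by_cases hb : b = i
        · rw [ha, hb]
        · exact absurd (by simpa [dec, ha, hb] using hab.symm) (key b hb)
        · exact absurd (by simpa [dec, ha, hb] using hab) (key a ha)
        · exact hβ.injective (by simpa [dec, ha, hb] using hab)
      refine ih _ (hval i (by omega) hinj) ?_
      have := sum_dec β (show 1 ≤ β i by omega)
      omega

theorem deg_ne_zero {n : ℕ} {β : Fin N → ℕ} (hβ : Function.Injective β)
    (hs : ∑ i, β i = tri N + n) : chm (Multiset.replicate n 1) β ≠ 0 := by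
  obtain ⟨σ, hσ⟩ := exists_rk_perm hβ
  have hmono : StrictMono (β ∘ σ.symm) := by
    intro a b hab
    by_contra hle
    rcases (not_lt.1 hle).lt_or_eq with h | h
    · have := rk_lt_rk (β := β) h
      rw [← hσ, ← hσ] at this
      simp only [Function.comp_apply, Equiv.apply_symm_apply] at this
      exact absurd hab (by simp; omega)
    · exact hab.ne (σ.symm.injective (hβ h)).symm
  have hpos := deg_nonneg_pos n _ hmono ((Equiv.sum_comp σ.symm β).trans hs)
  rw [chm_comp] at hpos
  exact fun h => by simp [h] at hpos

end CfsgLib.SymBlocks
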