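import Cfsg.Agent.SymBlocks.Orbits
import Cfsg.Agent.SymBlocks.Ident
import Cfsg.Agent.Char.PermChar
import Cfsg.Agent.Char.Generalized
import Cfsg.Agent.Char.Orthogonality
import Cfsg.Agent.Blocks.CharExtra
import Mathlib.Algebra.Order.Antidiag.Pi
import Mathlib.Data.Fin.Tuple.Basic

/-!
# The irreducible characters of a symmetric group as alternant characters
-/

set_option autoImplicit false
set_option linter.unusedSectionVars false

namespace CfsgLib.SymBlocks

open Finset Cfsg CfsgLib.Char
open scoped ComplexConjugate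

variable {N n : ℕ}

/-- Colourings of `k` weighted items with prescribed weight for each colour. -/
noncomputable def colCount (k : ℕ) (sz : Fin k → ℕ) (α : Fin N → ℕ) : ℕ :=
  (univ.filter fun F : Fin k → Fin N => ∀ i, (∑ o, if F o = i then sz o else 0) = α i).card

theorem colCount_zero (sz : Fin 0 → ℕ) (α : Fin N → ℕ) :
    (colCount 0 sz α : ℤ) = if α = 0 then 1 else 0 := by
  unfold colCount
  split_ifs with h
  · rw [filter_true_of_mem (fun F _ i => by simp [h])]
    simp
  · rw [filter_false_of_mem (fun F _ hF => h (funext fun i => by simpa using (hF i).symm))]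
    simp

theorem colCount_succ (k : ℕ) (sz : Fin (k + 1) → ℕ) (α : Fin N → ℕ) :
    (colCount (k + 1) sz α : ℤ) =
      ∑ c, if sz 0 ≤ α c then (colCount k (fun o => sz o.succ) (dec α c (sz 0)) : ℤ) else 0 := by
  classical
  simp only [colCount, card_filter, Nat.cast_sum, Nat.cast_ite, Nat.cast_one, Nat.cast_zero]
  rw [← Equiv.sum_comp (Fin.consEquiv fun _ => Fin N), Fintype.sum_prod_type]
  refine sum_congr rfl fun c _ => ?_
  have key : ∀ F : Fin k → Fin N, (∀ i, (∑ o, if (Fin.cons c F : Fin (k + 1) → Fin N) o = i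
      then sz o else 0) = α i) ↔
      (sz 0 ≤ α c ∧ ∀ i, (∑ o, if F o = i then sz o.succ else 0) = dec α c (sz 0) i) := by
    intro F
    simp only [Fin.sum_univ_succ, Fin.cons_zero, Fin.cons_succ]
    constructor
    · intro h
      refine ⟨?_, fun i => ?_⟩
      · have := h c; rw [if_pos rfl] at this; omega
      · have := h i
        by_cases hic : i = c
        · subst hic; rw [if_pos rfl] at this; simp [dec]; omega
        · rw [if_neg (Ne.symm hic)] at this; simp [dec, hic]; omega
    · rintro ⟨h1, h2⟩ i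
      have := h2 i
      by_cases hic : i = c
      · subst hic; rw [if_pos rfl]; simp [dec] at this; omega
      · rw [if_neg (Ne.symm hic)]; simp [dec, hic] at this; omega
  simp only [Fin.consEquiv_apply, key]
  split_ifs with h <;> simp [h]

/-- The alternant expansion in colouring counts. -/
theorem chm_eq_colCount : ∀ (k : ℕ) (sz : Fin k → ℕ) (β : Fin N → ℕ),
    chm (List.ofFn sz : Multiset ℕ) β = ∑ σ : Equiv.Perm (Fin N), (Equiv.Perm.sign σ : ℤ) *
      if ∀ i, stair N (σ i) ≤ β i then (colCount k sz fun i => β i - stair N (σ i) : ℤ) else 0 := by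
  intro k
  induction k with
  | zero =>
    intro sz β
    rw [List.ofFn_zero, Multiset.coe_nil, chm_zero, alt_comm, alt_eq_sum]
    refine sum_congr rfl fun σ _ => ?_
    congr 1
    rw [colCount_zero]
    by_cases h : stair N ∘ σ = β
    · subst h; simp [funext_iff]
    · rw [if_neg h]
      split_ifs with h1 h2
      · exact absurd (funext fun i => le_antisymm (h1 i) (Nat.sub_eq_zero_iff_le.1 (congrFun h2 i))) h
      · rfl
      · rfl
  | succ k ih =>
    intro sz β
    rw [List.ofFn_succ, ← Multiset.cons_coe, chm_cons]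
    simp only [ih, colCount_succ, mul_sum, ite_sum_zero]
    rw [sum_comm]
    refine sum_congr rfl fun σ _ => sum_congr rfl fun i _ => ?_
    by_cases hA : sz 0 ≤ β i ∧ ∀ l, stair N (σ l) ≤ dec β i (sz 0) l
    · obtain ⟨h1, h2⟩ := hA
      have h3 : ∀ l, stair N (σ l) ≤ β l := fun l => (h2 l).trans (by
        by_cases hl : l = i
        · subst hl; simp [dec]
        · simp [dec, hl])
      have h4 : sz 0 ≤ β i - stair N (σ i) := by
        have := h2 i; simp [dec] at this; omega
      rw [if_pos h1, if_pos h2, if_pos h3, if_pos h4]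
      congr 3
      funext l
      by_cases hl : l = i
      · subst hl; simp [dec]; omega
      · simp [dec, hl]
    · have : ¬ ((∀ l, stair N (σ l) ≤ β l) ∧ sz 0 ≤ β i - stair N (σ i)) := by
        rintro ⟨h3, h4⟩
        refine hA ⟨by have := h3 i; omega, fun l => ?_⟩
        by_cases hl : l = i
        · subst hl; have := h3 l; simp [dec]; omega
        · simpa [dec, hl] using h3 l
      by_cases h1 : sz 0 ≤ β i
      · rw [if_pos h1, if_neg fun h => hA ⟨h1, h⟩]
        split_ifs with h3 h4
        · exact absurd ⟨h3, h4⟩ this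
        all_goals simp
      · rw [if_neg h1]
        split_ifs with h3 h4
        · exact absurd ⟨h3, h4⟩ this
        all_goals simp

/-- The colourings of the points with prescribed colour class sizes. -/
abbrev Col (n : ℕ) (α : Fin N → ℕ) : Type :=
  {f : Fin n → Fin N // ∀ i, (univ.filter fun x => f x = i).card = α i}

instance colAction (n : ℕ) (α : Fin N → ℕ) : MulAction (Equiv.Perm (Fin n)) (Col n α) where
  smul g f := ⟨f.1 ∘ g.symm, fun i => by
    rw [← f.2 i]
    exact card_equiv g.symm (fun x => by simp)⟩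
  one_smul f := Subtype.ext rfl
  mul_smul g h f := Subtype.ext rfl

theorem colCount_parts (g : Equiv.Perm (Fin n)) :
    ∃ (k : ℕ) (sz : Fin k → ℕ), parts g = (List.ofFn sz : Multiset ℕ) ∧
      ∀ α : Fin N → ℕ, (Nat.card (MulAction.fixedBy (Col n α) g)) = colCount k sz α := by
  classical
  set e := (orbs g).equivFin
  set sz : Fin (orbs g).card → ℕ := fun o => ((e.symm o : Finset (Fin n))).card
  refine ⟨_, sz, ?_, fun α => ?_⟩
  · rw [← Fin.univ_val_map]
    have h : (univ : Finset (Fin (orbs g).card)).val.map (fun o => (e.symm o : Finset (Fin n))) =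
        (orbs g).val := by
      have h1 : ((univ : Finset (Fin (orbs g).card)).map
          (e.symm.toEmbedding.trans (Function.Embedding.subtype _))) = orbs g := by
        ext S
        simp only [mem_map, mem_univ, true_and]
        exact ⟨fun ⟨o, ho⟩ => ho ▸ (e.symm o).2, fun hS => ⟨e ⟨S, hS⟩, by simp⟩⟩
      conv_rhs => rw [← h1]
      rfl
    rw [parts, ← h, Multiset.map_map]
    rfl
  set idx : Fin n → Fin (orbs g).card := fun x => e ⟨orb g x, mem_orbs.2 ⟨x, rfl⟩⟩ with hidx
  have hfib : ∀ o, (univ.filter fun x => idx x = o).card = sz o := by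
    intro o
    obtain ⟨x, hx⟩ := mem_orbs.1 (e.symm o).2
    show _ = ((e.symm o : Finset (Fin n))).card
    rw [← hx, ← filter_orb_eq x]
    congr 1
    ext y
    simp only [mem_filter, mem_univ, true_and, hidx, ← e.eq_symm_apply, Subtype.ext_iff, hx]
  have hsurj : Function.Surjective idx := fun o => by
    obtain ⟨x, hx⟩ := mem_orbs.1 (e.symm o).2
    exact ⟨x, by rw [hidx, ← e.eq_symm_apply]; exact Subtype.ext hx⟩
  have hcount : ∀ (F : Fin (orbs g).card → Fin N) (i : Fin N),
      (univ.filter fun x => F (idx x) = i).card = ∑ o, if F o = i then sz o else 0 := by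
    intro F i
    rw [card_eq_sum_card_fiberwise (t := univ) (f := idx) (fun x _ => mem_univ _)]
    refine sum_congr rfl fun o _ => ?_
    split_ifs with h
    · rw [← hfib o, filter_filter]
      congr 1
      ext x
      simp only [mem_filter, mem_univ, true_and]
      exact ⟨fun hx => hx.2, fun hx => ⟨hx ▸ h, hx⟩⟩
    · rw [card_eq_zero, filter_filter, filter_eq_empty_iff]
      rintro x _ ⟨h1, h2⟩
      exact h (h2 ▸ h1)
  rw [colCount, ← Fintype.card_subtype, ← Nat.card_eq_fintype_card]
  symm
  refine Nat.card_congr (Equiv.ofBijective (fun F => ⟨⟨F.1 ∘ idx, fun i => ?_⟩, ?_⟩) ⟨?_, ?_⟩)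
  · rw [← F.2 i]; exact hcount F.1 i
  · refine Subtype.ext (funext fun x => ?_)
    show F.1 (idx (g.symm x)) = F.1 (idx x)
    refine congrArg F.1 (congrArg e (Subtype.ext (orb_eq_orb.2 ?_)))
    exact Equiv.Perm.sameCycle_symm_apply_left.2 (Equiv.Perm.SameCycle.refl _ _)
  · intro F F' h
    have h1 := congrArg (fun z => z.1.1) h
    exact Subtype.ext (funext fun o => by
      obtain ⟨x, rfl⟩ := hsurj o; exact congrFun h1 x)
  · rintro ⟨⟨f, hf⟩, hfix⟩
    have hinv : ∀ x y, g.SameCycle x y → f x = f y := by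
      have h1 : ∀ x, f (g x) = f x := fun x => by
        have h2 : f (g.symm (g x)) = f (g x) := congrFun (congrArg Subtype.val hfix) (g x)
        rw [Equiv.symm_apply_apply] at h2
        exact h2.symm
      intro x y hxy
      obtain ⟨i, rfl⟩ := hxy.exists_nat_pow_eq
      clear hxy
      induction i with
      | zero => rfl
      | succ i ih => rw [pow_succ', Equiv.Perm.mul_apply, h1]; exact ih
    have hcomp : (fun o => f (Function.surjInv hsurj o)) ∘ idx = f := funext fun x => by
      refine hinv _ _ (orb_eq_orb.1 ?_)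
      have := Function.surjInv_eq hsurj (idx x)
      simpa [hidx, Subtype.ext_iff] using this
    refine ⟨⟨fun o => f (Function.surjInv hsurj o), fun i => ?_⟩, Subtype.ext (Subtype.ext hcomp)⟩
    rw [← hcount, ← hf i]
    congr 1
    ext x
    simp only [mem_filter, mem_univ, true_and]
    exact Iff.of_eq (congrArg (· = i) (congrFun hcomp x))

/-- The alternant character. -/
noncomputable def chi (n : ℕ) (β : Fin N → ℕ) : Equiv.Perm (Fin n) → ℂ :=
  fun g => (chm (parts g) β : ℂ)

theorem chi_isClassFunction (β : Fin N → ℕ) : IsClassFunction (Equiv.Perm (Fin n)) (chi n β) :=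
  fun g h => by rw [chi, chi, parts_conj]

theorem isGeneralized_chi (β : Fin N → ℕ) :
    IsGeneralizedCharacter (Equiv.Perm (Fin n)) (chi n β) := by
  classical
  have h : chi n β = ∑ σ : Equiv.Perm (Fin N), (((Equiv.Perm.sign σ : ℤ) *
      if ∀ i, stair N (σ i) ≤ β i then 1 else 0 : ℤ) : ℂ) • fun g : Equiv.Perm (Fin n) =>
        (Nat.card (MulAction.fixedBy (Col n fun i => β i - stair N (σ i)) g) : ℂ) := by
    funext g
    obtain ⟨k, sz, hparts, hcount⟩ := colCount_parts (N := N) g
    rw [chi, hparts, chm_eq_colCount, Finset.sum_apply, Int.cast_sum]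
    refine sum_congr rfl fun σ _ => ?_
    rw [Pi.smul_apply, smul_eq_mul, hcount]
    split_ifs <;> simp
  rw [h]
  refine isGeneralized_sum _ fun σ _ => IsGeneralized.intCast_smul ?_ _
  haveI := Fintype.ofFinite (MulAction.orbitRel.Quotient (Equiv.Perm (Fin n))
    (Col n fun i => β i - stair N (σ i)))
  rw [fixedBy_eq_sum_orbits (H := Equiv.Perm (Fin n)) (Col n fun i => β i - stair N (σ i))]
  refine isGeneralized_sum _ fun q _ => IsCharacter.isGeneralized ?_
  haveI : Fintype (MulAction.stabilizer (Equiv.Perm (Fin n)) q.out) := Fintype.ofFinite _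
  exact IsCharacter.indFun isCharacter_one

theorem card_perm_fin (n : ℕ) : (Nat.card (Equiv.Perm (Fin n)) : ℂ) = (n.factorial : ℂ) := by
  rw [Nat.card_eq_fintype_card, Fintype.card_perm, Fintype.card_fin]

theorem classInner_chi {β γ : Fin N → ℕ} (hβ : ∑ i, β i = tri N + n)
    (hγ : ∑ i, γ i = tri N + n) : classInner (chi n β) (chi n γ) = (alt β γ : ℂ) := by
  rw [classInner_def, card_perm_fin]
  simp only [chi, map_intCast]
  rw [sum_perm_parts n fun μ => (chm μ β : ℂ) * (chm μ γ : ℂ), avg_chm_mul n β γ hβ hγ,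
    inv_mul_cancel_left₀ (by exact_mod_cast n.factorial_ne_zero)]

theorem chi_one (β : Fin N → ℕ) :
    chi n β 1 = (chm (Multiset.replicate n 1) β : ℂ) := by
  rw [chi, parts_one, Fintype.card_fin]

/-- An alternant character is irreducible up to sign. -/
theorem chi_isIrr_or_neg {β : Fin N → ℕ} (hinj : Function.Injective β)
    (hβ : ∑ i, β i = tri N + n) : IsIrrCharacter (Equiv.Perm (Fin n)) (chi n β) ∨
      IsIrrCharacter (Equiv.Perm (Fin n)) (-chi n β) :=
  IsGeneralized.isIrr_or_neg (isGeneralized_chi β)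
    (by rw [classInner_chi hβ hβ, alt_self hinj, Int.cast_one])

/-- The exponent vectors of a given total. -/
def vecs (N s : ℕ) : Finset (Fin N → ℕ) := piAntidiag univ s

theorem mem_vecs {s : ℕ} {β : Fin N → ℕ} : β ∈ vecs N s ↔ ∑ i, β i = s := by simp [vecs]

/-- The adjunction of adding and removing hooks. -/
theorem sum_vecs_adjoint {R : Type*} [CommRing R] (s m : ℕ) (F G : (Fin N → ℕ) → R) :
    ∑ β ∈ vecs N (s + m), F β * ∑ i, (if m ≤ β i then G (dec β i m) else 0) =
      ∑ γ ∈ vecs N s, (∑ i, F (inc γ i m)) * G γ := by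
  simp only [mul_sum, sum_mul, mul_ite, mul_zero]
  rw [sum_comm]
  conv_rhs => rw [sum_comm]
  refine sum_congr rfl fun i _ => ?_
  rw [← sum_filter]
  refine sum_nbij' (fun β => dec β i m) (fun γ => inc γ i m) ?_ ?_ ?_ ?_ ?_
  · intro β hβ
    obtain ⟨h1, h2⟩ := mem_filter.1 hβ
    rw [mem_vecs]
    have := sum_dec β h2
    have := mem_vecs.1 h1
    omega
  · intro γ hγ
    rw [mem_filter, mem_vecs, sum_inc, mem_vecs.1 hγ]
    exact ⟨rfl, by simp [inc]⟩
  · intro β hβ
    have h2 := (mem_filter.1 hβ).2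
    funext l
    by_cases hl : l = i
    · subst hl; simp [inc, dec]; omega
    · simp [inc, dec, hl]
  · intro γ _
    funext l
    by_cases hl : l = i
    · subst hl; simp [inc, dec]
    · simp [inc, dec, hl]
  · intro β hβ
    have h2 := (mem_filter.1 hβ).2
    congr 2
    funext l
    by_cases hl : l = i
    · subst hl; simp [inc, dec]; omega
    · simp [inc, dec, hl]

/-- Summing against the alternating delta. -/
theorem sum_alt_mul {R : Type*} [CommRing R] (s : ℕ) {F : (Fin N → ℕ) → R}
    (hF : ∀ β (σ : Equiv.Perm (Fin N)), F (β ∘ σ) = ((Equiv.Perm.sign σ : ℤ) : R) * F β)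
    {γ : Fin N → ℕ} (hγ : ∑ i, γ i = s) :
    ∑ β ∈ vecs N s, (alt β γ : R) * F β = (N.factorial : R) * F γ := by
  classical
  simp only [alt_eq_sum, Int.cast_sum, sum_mul, Int.cast_mul, Int.cast_ite, Int.cast_one,
    Int.cast_zero]
  rw [sum_comm]
  have h : ∀ σ : Equiv.Perm (Fin N), ∑ β ∈ vecs N s, ((Equiv.Perm.sign σ : ℤ) : R) *
      (if β ∘ σ = γ then 1 else 0) * F β = F γ := by
    intro σ
    rw [sum_eq_single (γ ∘ σ.symm)]
    · rw [if_pos (by funext l; simp), hF, Equiv.Perm.sign_symm, mul_one, ← mul_assoc,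
        ← Int.cast_mul, ← Units.val_mul, Int.units_mul_self, Units.val_one, Int.cast_one, one_mul]
    · intro β _ hβ
      rw [if_neg fun h => hβ (by rw [← h]; funext l; simp), mul_zero, zero_mul]
    · intro h
      exact absurd (mem_vecs.2 ((Equiv.sum_comp σ.symm γ).trans hγ)) h
  rw [sum_congr rfl fun σ _ => h σ, sum_const, card_univ, Fintype.card_perm, Fintype.card_fin,
    nsmul_eq_mul]

theorem sum_deg_sq : ∀ n : ℕ, n ≤ N → ∑ β ∈ vecs N (tri N + n),
    chm (Multiset.replicate n 1) β * chm (Multiset.replicate n 1) β =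
      (n.factorial : ℤ) * (N.factorial : ℤ) := by
  intro n
  induction n with
  | zero =>
    intro _
    simp only [Multiset.replicate_zero, chm_zero, add_zero, Nat.factorial_zero, Nat.cast_one,
      one_mul]
    have h := sum_alt_mul (R := ℤ) (tri N) (F := fun β : Fin N → ℕ => alt β (stair N))
      (fun β σ => by rw [alt_perm_left, Int.cast_id]) (γ := stair N) rfl
    have hst : Function.Injective (stair N) := fun i j h => Fin.ext h
    simpa [alt_self hst] using h
  | succ n ih =>
    intro hn
    conv_lhs => arg 2; intro β; arg 2; rw [Multiset.replicate_succ, chm_cons]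
    rw [← add_assoc, sum_vecs_adjoint (tri N + n) 1]
    rw [sum_congr rfl fun γ hγ => by
      rw [raise_one n (by omega) γ (mem_vecs.1 hγ), mul_assoc]]
    rw [← mul_sum, ih (by omega), Nat.factorial_succ]
    push_cast
    ring

/-- Every irreducible character is an alternant character up to sign. -/
theorem exists_chi (hn : n ≤ N) (χ : IrrCharacter (Equiv.Perm (Fin n))) :
    ∃ β : Fin N → ℕ, Function.Injective β ∧ ∑ i, β i = tri N + n ∧
      ∃ e : ℂ, (e = 1 ∨ e = -1) ∧ (χ : Equiv.Perm (Fin n) → ℂ) = e • chi n β := by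
  classical
  by_contra hne
  set T := (vecs N (tri N + n)).filter fun β => Function.Injective β
  set Φ : (Fin N → ℕ) → Equiv.Perm (Fin n) → ℂ := fun β =>
    if IsIrrCharacter (Equiv.Perm (Fin n)) (chi n β) then chi n β else -chi n β with hΦ
  have hmem : ∀ β ∈ T, Φ β ∈ (irrFinset (Equiv.Perm (Fin n))).erase χ.1 := by
    intro β hβ
    obtain ⟨h1, h2⟩ := mem_filter.1 hβ
    have h3 := mem_vecs.1 h1
    refine mem_erase.2 ⟨fun heq => hne ⟨β, h2, h3, ?_⟩, mem_irrFinset.2 ?_⟩
    · simp only [hΦ] at heq
      split_ifs at heq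
      · exact ⟨1, Or.inl rfl, by rw [one_smul]; exact heq.symm⟩
      · exact ⟨-1, Or.inr rfl, by rw [neg_one_smul]; exact heq.symm⟩
    · simp only [hΦ]
      split_ifs with h
      · exact h
      · exact (chi_isIrr_or_neg h2 h3).resolve_left h
  set w : (Equiv.Perm (Fin n) → ℂ) → ℕ := fun f => charDegree f ^ 2
  have hw : ∀ β ∈ T, (w (Φ β) : ℤ) =
      chm (Multiset.replicate n 1) β * chm (Multiset.replicate n 1) β := by
    intro β hβ
    have h1 := (Block.Chr.irr_one (⟨Φ β, mem_irrFinset.1 (mem_of_mem_erase (hmem β hβ))⟩ :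
      IrrCharacter (Equiv.Perm (Fin n)))).1
    have h3 : Φ β 1 * Φ β 1 = chi n β 1 * chi n β 1 := by
      simp only [hΦ]; split_ifs <;> simp
    simp only at h1
    rw [h1, chi_one] at h3
    rw [← @Int.cast_inj ℂ, Int.cast_natCast, Int.cast_mul]
    simp only [w, sq, Nat.cast_mul]
    exact h3
  have hsum := sum_deg_sq (N := N) n hn
  have hzero : ∀ β ∈ vecs N (tri N + n), β ∉ T →
      chm (Multiset.replicate n 1) β * chm (Multiset.replicate n 1) β = 0 := by
    intro β hβ hβT
    obtain ⟨a, b, hab, hne'⟩ := Function.not_injective_iff.1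
      fun h => hβT (mem_filter.2 ⟨hβ, h⟩)
    rw [chm_eq_zero_of_eq _ hne' hab, mul_zero]
  rw [← sum_subset (filter_subset _ _) hzero, ← sum_congr rfl hw, ← Nat.cast_sum,
    ← Nat.cast_mul, Nat.cast_inj] at hsum
  have hfib : ∀ f ∈ T.image Φ, (T.filter fun β => Φ β = f).card ≤ N.factorial := by
    intro f hf
    obtain ⟨β, hβ, rfl⟩ := mem_image.1 hf
    refine (card_le_card (t := univ.image fun σ : Equiv.Perm (Fin N) => β ∘ σ) ?_).trans
      (card_image_le.trans (by rw [card_univ, Fintype.card_perm, Fintype.card_fin]))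
    intro γ hγ
    obtain ⟨hγT, hγe⟩ := mem_filter.1 hγ
    obtain ⟨hb1, hb2⟩ := mem_filter.1 hβ
    obtain ⟨hg1, -⟩ := mem_filter.1 hγT
    have hpm : chi n γ = chi n β ∨ chi n γ = -chi n β := by
      simp only [hΦ] at hγe
      split_ifs at hγe
      · exact Or.inl hγe
      · exact Or.inr hγe
      · right; rw [← hγe, neg_neg]
      · exact Or.inl (neg_injective hγe)
    have halt : alt β γ ≠ 0 := by
      intro h0
      have h1 := classInner_chi (mem_vecs.1 hb1) (mem_vecs.1 hg1)
      have h2 := classInner_chi (mem_vecs.1 hb1) (mem_vecs.1 hb1)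
      rw [h0, Int.cast_zero] at h1
      rw [alt_self hb2, Int.cast_one] at h2
      rcases hpm with h | h
      · rw [h, h2] at h1; exact one_ne_zero h1
      · rw [h, classInner_neg_right, h2, neg_eq_zero] at h1; exact one_ne_zero h1
    obtain ⟨σ, hσ⟩ := exists_of_alt_ne_zero halt
    exact mem_image.2 ⟨σ, mem_univ σ, hσ⟩
  have hle : ∑ β ∈ T, w (Φ β) ≤
      N.factorial * ∑ f ∈ (irrFinset (Equiv.Perm (Fin n))).erase χ.1, w f := by
    rw [sum_comp (f := w) (g := Φ), mul_sum]
    refine (sum_le_sum fun f hf => ?_).trans (sum_le_sum_of_subset (fun f hf => ?_))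
    · rw [smul_eq_mul]; exact Nat.mul_le_mul_right _ (hfib f hf)
    · obtain ⟨β, hβ, rfl⟩ := mem_image.1 hf
      exact hmem β hβ
  have htot : ∑ f ∈ irrFinset (Equiv.Perm (Fin n)), w f = n.factorial := by
    have h := sum_degree_sq (G := Equiv.Perm (Fin n))
    rw [card_perm_fin] at h
    apply Nat.cast_injective (R := ℂ)
    rw [← h, Nat.cast_sum]
    refine sum_congr rfl fun f hf => ?_
    have h1 := (Block.Chr.irr_one (⟨f, mem_irrFinset.1 hf⟩ :
      IrrCharacter (Equiv.Perm (Fin n)))).1
    simp only at h1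
    rw [h1]
    simp [w]
  have hpos : 0 < w χ.1 := pow_pos (Block.Chr.irr_one χ).2 2
  rw [← add_sum_erase _ _ (mem_irrFinset.2 χ.2)] at htot
  have := Nat.mul_lt_mul_of_pos_left (show ∑ f ∈ (irrFinset (Equiv.Perm (Fin n))).erase χ.1, w f <
    n.factorial by omega) (Nat.factorial_pos N)
  rw [mul_comm n.factorial] at hsum
  omega

end CfsgLib.SymBlocks
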