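import Cfsg.Agent.SymBlocks.Straighten

/-!
# Counting: coloured parts as words
-/

set_option autoImplicit false

namespace CfsgLib.SymBlocks

open Finset Cfsg

variable {N n p : ℕ}

/-- The position of an entry on its runner. -/
def rnk (r x : Fin N → ℕ) (i : Fin N) : ℕ := (univ.filter fun j => r j = r i ∧ x j < x i).card

/-- The part attached to an entry. -/
def part (r x : Fin N → ℕ) (i : Fin N) : ℕ := x i - rnk r x i

/-- The weight. -/
def wt (r x : Fin N → ℕ) : ℕ := ∑ i, part r x i

/-- The coloured parts. -/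
def code (r x : Fin N → ℕ) : Multiset (ℕ × ℕ) :=
  (univ.val.map fun i => (r i, part r x i)).filter fun q => 0 < q.2

section Runner

variable {r x : Fin N → ℕ}

theorem rnk_le (hx : ∀ i j, r i = r j → x i = x j → i = j) (i : Fin N) : rnk r x i ≤ x i := by
  have h : (univ.filter fun j => r j = r i ∧ x j < x i).image x ⊆ range (x i) := by
    intro v hv
    obtain ⟨j, hj, rfl⟩ := mem_image.1 hv
    exact mem_range.2 (mem_filter.1 hj).2.2
  have := card_le_card h
  rw [card_image_of_injOn fun a ha b hb hab => hx a b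
    ((mem_filter.1 ha).2.1.trans (mem_filter.1 hb).2.1.symm) hab, card_range] at this
  exact this

theorem rnk_lt (i : Fin N) : rnk r x i < (univ.filter fun j => r j = r i).card :=
  card_lt_card ((ssubset_iff_of_subset fun j hj =>
    mem_filter.2 ⟨mem_univ j, (mem_filter.1 hj).2.1⟩).2
    ⟨i, mem_filter.2 ⟨mem_univ i, rfl⟩, fun h => lt_irrefl _ (mem_filter.1 h).2.2⟩)

theorem rnk_lt_rnk {i j : Fin N} (hr : r i = r j) (h : x i < x j) : rnk r x i < rnk r x j :=
  card_lt_card ((ssubset_iff_of_subset fun k hk => mem_filter.2 ⟨mem_univ k,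
    (mem_filter.1 hk).2.1.trans hr, (mem_filter.1 hk).2.2.trans h⟩).2
    ⟨i, mem_filter.2 ⟨mem_univ i, hr, h⟩, fun hi => lt_irrefl _ (mem_filter.1 hi).2.2⟩)

theorem rnk_injective (hx : ∀ i j, r i = r j → x i = x j → i = j) {i j : Fin N} (hr : r i = r j)
    (h : rnk r x i = rnk r x j) : i = j := by
  rcases lt_trichotomy (x i) (x j) with h' | h' | h'
  · exact absurd h (rnk_lt_rnk hr h').ne
  · exact hx i j hr h'
  · exact absurd h (rnk_lt_rnk hr.symm h').ne'

theorem part_mono (hx : ∀ i j, r i = r j → x i = x j → i = j) {i j : Fin N} (hr : r i = r j)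
    (h : rnk r x i ≤ rnk r x j) : part r x i ≤ part r x j := by
  classical
  rcases h.eq_or_lt with h | h
  · rw [rnk_injective hx hr h]
  have hlt : x i < x j := by
    by_contra hle
    rcases (not_lt.1 hle).lt_or_eq with h' | h'
    · have := rnk_lt_rnk hr.symm h'; omega
    · rw [hx j i hr.symm h'] at h; omega
  -- between the two entries
  have hsub : (univ.filter fun k => r k = r j ∧ x k < x j) ⊆
      (univ.filter fun k => r k = r i ∧ x k < x i) ∪
      (univ.filter fun k => r k = r j ∧ x i ≤ x k ∧ x k < x j) := by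
    intro k hk
    obtain ⟨-, h1, h2⟩ := mem_filter.1 hk
    by_cases h3 : x k < x i
    · exact mem_union_left _ (mem_filter.2 ⟨mem_univ k, h1.trans hr.symm, h3⟩)
    · exact mem_union_right _ (mem_filter.2 ⟨mem_univ k, h1, not_lt.1 h3, h2⟩)
  have h1 := (card_le_card hsub).trans (card_union_le _ _)
  have h2 : ((univ.filter fun k => r k = r j ∧ x i ≤ x k ∧ x k < x j).image x) ⊆ Ico (x i) (x j) := by
    intro v hv
    obtain ⟨k, hk, rfl⟩ := mem_image.1 hv
    exact mem_Ico.2 ⟨(mem_filter.1 hk).2.2.1, (mem_filter.1 hk).2.2.2⟩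
  have h3 := card_le_card h2
  rw [card_image_of_injOn fun a ha b hb hab => hx a b
    ((mem_filter.1 ha).2.1.trans (mem_filter.1 hb).2.1.symm) hab, Nat.card_Ico] at h3
  have h4 := rnk_le hx i
  unfold part rnk at *
  omega

theorem card_part_le_eq {x' : Fin N → ℕ} (hcode : code r x = code r x') (c v : ℕ) :
    (univ.filter fun j => r j = c ∧ part r x j ≤ v).card =
      (univ.filter fun j => r j = c ∧ part r x' j ≤ v).card := by
  classical
  have h : ∀ y : Fin N → ℕ, (univ.filter fun j => r j = c ∧ part r y j ≤ v).card +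
      (code r y).countP (fun q => q.1 = c ∧ v < q.2) = (univ.filter fun j => r j = c).card := by
    intro y
    rw [code, Multiset.countP_filter, Multiset.countP_map, ← filter_val, ← card_def,
      ← card_union_of_disjoint]
    · congr 1
      ext j
      simp only [mem_union, mem_filter, mem_univ, true_and]
      omega
    · rw [Finset.disjoint_left]
      intro j h1 h2
      simp only [mem_filter, mem_univ, true_and] at h1 h2
      omega
  have h1 := h x
  have h2 := h x'
  rw [hcode] at h1
  omega

theorem part_not_lt (hx : ∀ i j, r i = r j → x i = x j → i = j) {x' : Fin N → ℕ}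
    (hx' : ∀ i j, r i = r j → x' i = x' j → i = j) {i i' : Fin N}
    (hcard : ∀ v, (univ.filter fun j => r j = r i ∧ part r x j ≤ v).card =
      (univ.filter fun j => r j = r i ∧ part r x' j ≤ v).card)
    (hr : r i = r i') (hk : rnk r x i = rnk r x' i') : ¬ part r x i < part r x' i' := by
  intro hlt
  have h1 : rnk r x i + 1 ≤
      (univ.filter fun j => r j = r i ∧ part r x j ≤ part r x i).card := by
    rw [rnk, ← card_insert_of_notMem (a := i) (by simp)]
    refine card_le_card fun j hj => ?_
    rcases mem_insert.1 hj with rfl | hj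
    · simp
    · obtain ⟨-, h1, h2⟩ := mem_filter.1 hj
      exact mem_filter.2 ⟨mem_univ j, h1, part_mono hx h1 (rnk_lt_rnk h1 h2).le⟩
  have h2 : (univ.filter fun j => r j = r i ∧ part r x' j ≤ part r x i).card ≤ rnk r x' i' := by
    refine card_le_card fun j hj => ?_
    obtain ⟨-, h1, h2⟩ := mem_filter.1 hj
    refine mem_filter.2 ⟨mem_univ j, h1.trans hr, ?_⟩
    by_contra hle
    have hle' : rnk r x' i' ≤ rnk r x' j := by
      rcases (not_lt.1 hle).lt_or_eq with h' | h'
      · exact (rnk_lt_rnk (hr.symm.trans h1.symm) h').le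
      · rw [hx' i' j (hr.symm.trans h1.symm) h']
    have := part_mono hx' (hr.symm.trans h1.symm) hle'
    omega
  rw [hcard] at h1
  omega

theorem part_eq_of_code_eq (hx : ∀ i j, r i = r j → x i = x j → i = j) {x' : Fin N → ℕ}
    (hx' : ∀ i j, r i = r j → x' i = x' j → i = j) (hcode : code r x = code r x') {i i' : Fin N}
    (hr : r i = r i') (hk : rnk r x i = rnk r x' i') : ¬ part r x i < part r x' i' :=
  part_not_lt hx hx' (card_part_le_eq hcode _) hr hk

theorem exists_perm_of_code_eq (hx : ∀ i j, r i = r j → x i = x j → i = j) {x' : Fin N → ℕ}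
    (hx' : ∀ i j, r i = r j → x' i = x' j → i = j) (hcode : code r x = code r x') :
    ∃ σ : Equiv.Perm (Fin N), r ∘ σ = r ∧ x ∘ σ = x' := by
  classical
  set K : Finset (ℕ × ℕ) := (univ.image r).biUnion fun c =>
    (range (univ.filter fun j => r j = c).card).map ⟨fun k => (c, k), fun a b h => (Prod.ext_iff.1 h).2⟩
  have hK : K.card ≤ N := by
    refine card_biUnion_le.trans (le_of_eq ?_)
    simp only [card_map, card_range]
    rw [← card_eq_sum_card_image, card_univ, Fintype.card_fin]
  have hinj : Function.Injective fun i => (r i, rnk r x i) := fun i j h =>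
    rnk_injective hx (Prod.ext_iff.1 h).1 (Prod.ext_iff.1 h).2
  have hsub : univ.image (fun i => (r i, rnk r x i)) ⊆ K := by
    intro q hq
    obtain ⟨i, -, rfl⟩ := mem_image.1 hq
    exact mem_biUnion.2 ⟨r i, mem_image_of_mem _ (mem_univ i),
      mem_map.2 ⟨_, mem_range.2 (rnk_lt i), rfl⟩⟩
  have heq : univ.image (fun i => (r i, rnk r x i)) = K := eq_of_subset_of_card_le hsub (by
    rw [card_image_of_injective _ hinj, card_univ, Fintype.card_fin]; exact hK)
  have hex : ∀ i', ∃ i, r i = r i' ∧ rnk r x i = rnk r x' i' := by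
    intro i'
    have : (r i', rnk r x' i') ∈ K := mem_biUnion.2 ⟨r i', mem_image_of_mem _ (mem_univ i'),
      mem_map.2 ⟨_, mem_range.2 (rnk_lt i'), rfl⟩⟩
    rw [← heq] at this
    obtain ⟨i, -, hi⟩ := mem_image.1 this
    exact ⟨i, (Prod.ext_iff.1 hi).1, (Prod.ext_iff.1 hi).2⟩
  choose σ hσr hσk using hex
  have hσinj : Function.Injective σ := fun a b h =>
    rnk_injective hx' (by rw [← hσr a, ← hσr b, h]) (by rw [← hσk a, ← hσk b, h])
  refine ⟨Equiv.ofBijective σ (Finite.injective_iff_bijective.1 hσinj), funext hσr,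
    funext fun i' => ?_⟩
  have h1 := part_eq_of_code_eq hx hx' hcode (hσr i') (hσk i')
  have h2 := part_eq_of_code_eq hx' hx hcode.symm (hσr i').symm (hσk i').symm
  have h3 := rnk_le hx (σ i')
  have h4 := rnk_le hx' i'
  have h5 := hσk i'
  show x (σ i') = x' i'
  unfold part at h1 h2
  omega

theorem two_mul_sum_rnk (hx : ∀ i j, r i = r j → x i = x j → i = j) :
    2 * ∑ i, rnk r x i = ∑ i, (univ.filter fun j => r j = r i ∧ j ≠ i).card := by
  simp only [rnk, card_filter]
  rw [two_mul]
  nth_rw 2 [sum_comm]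
  rw [← sum_add_distrib]
  refine sum_congr rfl fun i _ => ?_
  rw [← sum_add_distrib]
  refine sum_congr rfl fun j _ => ?_
  by_cases hr : r j = r i
  · by_cases hji : j = i
    · subst hji; simp
    · have hne : x j ≠ x i := fun h => hji (hx j i hr h)
      simp only [hr, hji, true_and, ne_eq, not_false_eq_true, if_true]
      split_ifs <;> omega
  · simp [hr, Ne.symm hr]

theorem wt_eq (hx : ∀ i j, r i = r j → x i = x j → i = j) :
    wt r x + ∑ i, rnk r x i = ∑ i, x i := by
  rw [wt, ← sum_add_distrib]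
  exact sum_congr rfl fun i _ => Nat.sub_add_cancel (rnk_le hx i)

end Runner

/-- Spelling a list of coloured parts. -/
def spell : List (ℕ × ℕ) → List ℕ
  | [] => []
  | q :: l => q.1 :: (List.replicate (q.2 - 1) 0 ++ spell l)

theorem replicate_append_spell {l l' : List (ℕ × ℕ)} (hl : ∀ q ∈ l, q.1 ≠ 0)
    (hl' : ∀ q ∈ l', q.1 ≠ 0) : ∀ a b, List.replicate a 0 ++ spell l = List.replicate b 0 ++ spell l' →
      a = b ∧ spell l = spell l' := by
  intro a
  induction a with
  | zero =>
    intro b h
    cases b with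
    | zero => exact ⟨rfl, by simpa using h⟩
    | succ b =>
      cases l with
      | nil => simp [spell, List.replicate_succ] at h
      | cons q l =>
        simp [spell, List.replicate_succ] at h
        exact absurd h.1 (hl q List.mem_cons_self)
  | succ a ih =>
    intro b h
    cases b with
    | zero =>
      cases l' with
      | nil => simp [spell, List.replicate_succ] at h
      | cons q l' =>
        simp [spell, List.replicate_succ] at h
        exact absurd h.1.symm (hl' q List.mem_cons_self)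
    | succ b =>
      simp [List.replicate_succ] at h
      obtain ⟨h1, h2⟩ := ih b h
      exact ⟨by rw [h1], h2⟩

theorem spell_inj : ∀ l l' : List (ℕ × ℕ), (∀ q ∈ l, q.1 ≠ 0 ∧ 0 < q.2) →
    (∀ q ∈ l', q.1 ≠ 0 ∧ 0 < q.2) → spell l = spell l' → l = l' := by
  intro l
  induction l with
  | nil =>
    intro l' _ _ h
    cases l' with
    | nil => rfl
    | cons q l' => simp [spell] at h
  | cons q l ih =>
    intro l' hl hl' h
    cases l' with
    | nil => simp [spell] at h
    | cons q' l' =>
      simp only [spell, List.cons.injEq] at h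
      simp only [List.mem_cons, forall_eq_or_imp] at hl hl'
      obtain ⟨h1, h2⟩ := replicate_append_spell (fun q hq => (hl.2 q hq).1)
        (fun q hq => (hl'.2 q hq).1) _ _ h.2
      have h3 : q.2 = q'.2 := by omega
      rw [ih l' hl.2 hl'.2 h2, Prod.ext h.1 h3]

theorem spell_length : ∀ l : List (ℕ × ℕ), (∀ q ∈ l, 0 < q.2) →
    (spell l).length = (l.map Prod.snd).sum
  | [], _ => rfl
  | q :: l, h => by
    simp only [List.mem_cons, forall_eq_or_imp] at h
    simp [spell, spell_length l h.2]
    omega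

theorem spell_lt {p : ℕ} (hp : 0 < p) : ∀ l : List (ℕ × ℕ), (∀ q ∈ l, q.1 < p) →
    ∀ d ∈ spell l, d < p
  | [], _, d, hd => by simp [spell] at hd
  | q :: l, h, d, hd => by
    simp only [List.mem_cons, forall_eq_or_imp] at h
    simp only [spell, List.mem_cons, List.mem_append, List.mem_replicate] at hd
    rcases hd with rfl | ⟨-, rfl⟩ | hd
    · exact h.1
    · exact hp
    · exact spell_lt hp l h.2 d hd

/-- The regular parts of the alternant characters with given residues span little. -/
theorem finrank_span_vec_le (hp : 2 ≤ p) (hn : n ≤ N) {r x₀ : Fin N → ℕ} (hr : ∀ i, r i < p)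
    (hx₀ : ∑ i, join p r x₀ i = tri N + n) (hinj₀ : Function.Injective (join p r x₀)) :
    Module.finrank ℂ ↥(Submodule.span ℂ
      (vec n p r '' {x : Fin N → ℕ | ∑ i, join p r x i = tri N + n})) <
      if wt r x₀ = 0 then 2 else p ^ wt r x₀ := by
  classical
  set w := wt r x₀ with hw
  set Bas : Set (Fin N → ℕ) := {y : Fin N → ℕ | ∑ i, join p r y i = tri N + n ∧
    Function.Injective (join p r y) ∧ ∑ i ∈ zeroRunner r, y i = tri (zeroRunner r).card}
  have hrun : ∀ y : Fin N → ℕ, Function.Injective (join p r y) →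
      ∀ i j, r i = r j → y i = y j → i = j := fun y hy i j h1 h2 => hy (by simp [join, h1, h2])
  have hwt : ∀ y ∈ Bas, wt r y = w := by
    intro y hy
    have h1 := wt_eq (hrun y hy.2.1)
    have h2 := wt_eq (hrun x₀ hinj₀)
    have h3 := two_mul_sum_rnk (hrun y hy.2.1)
    have h4 := two_mul_sum_rnk (hrun x₀ hinj₀)
    have h5 : ∑ i, y i = ∑ i, x₀ i := by
      have h := hy.1
      rw [← hx₀, sum_join, sum_join] at h
      exact Nat.eq_of_mul_eq_mul_left (by omega) (Nat.add_right_cancel h)
    omega
  have hzero : ∀ y ∈ Bas, ∀ i, r i = 0 → part r y i = 0 := by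
    intro y hy i hi
    set m := (zeroRunner r).card
    set e := (zeroRunner r).equivFin.symm
    set z : Fin m → ℕ := fun a => y (e a : Fin N) with hz
    have hzinj : Function.Injective z := fun a b h => e.injective (Subtype.ext
      (hrun y hy.2.1 _ _ (((mem_filter.1 (e a).2).2).trans (mem_filter.1 (e b).2).2.symm) h))
    have hzs : ∑ a, z a ≤ tri m := by
      rw [← hy.2.2]
      refine le_of_eq ?_
      exact sum_bij (fun a _ => (e a : Fin N)) (fun a _ => (e a).2)
        (fun a _ b _ h => e.injective (Subtype.ext h))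
        (fun i hi => ⟨e.symm ⟨i, hi⟩, mem_univ _, by simp⟩) fun a _ => rfl
    obtain ⟨σ, hσ⟩ := eq_stair_comp hzinj hzs
    obtain ⟨a, ha⟩ : ∃ a, (e a : Fin N) = i :=
      ⟨e.symm ⟨i, mem_filter.2 ⟨mem_univ i, hi⟩⟩, by simp⟩
    have hya : y i = (σ a : ℕ) := by rw [← ha]; exact congrFun hσ a
    have hle : (σ a : ℕ) ≤ rnk r y i := by
      rw [← Fin.card_Iio (σ a), rnk]
      refine card_le_card_of_injOn (fun b => (e (σ.symm b) : Fin N)) (fun b hb => ?_)
        fun b _ b' _ h => σ.symm.injective (e.injective (Subtype.ext h))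
      simp only [coe_filter, mem_univ, true_and, Set.mem_setOf_eq]
      refine ⟨((mem_filter.1 (e (σ.symm b)).2).2).trans hi.symm, ?_⟩
      have := congrFun hσ (σ.symm b)
      simp only [hz, stair, Function.comp_apply, Equiv.apply_symm_apply] at this
      rw [this, hya]
      simpa using mem_Iio.1 hb
    unfold part
    omega
  set word : (Fin N → ℕ) → List ℕ := fun y => spell (code r y).toList
  have hcode : ∀ y ∈ Bas, ∀ q ∈ (code r y).toList, q.1 ≠ 0 ∧ 0 < q.2 ∧ q.1 < p := by
    intro y hy q hq
    rw [Multiset.mem_toList, code, Multiset.mem_filter, Multiset.mem_map] at hq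
    obtain ⟨⟨i, -, rfl⟩, h2⟩ := hq
    exact ⟨fun h => by have := hzero y hy i h; simp only at h2; omega, h2, hr i⟩
  have hlen : ∀ y ∈ Bas, (word y).length = w := by
    intro y hy
    rw [spell_length _ fun q hq => (hcode y hy q hq).2.1, ← Multiset.sum_coe, ← Multiset.map_coe,
      Multiset.coe_toList, ← hwt y hy, wt, code, Multiset.filter_map, Multiset.map_map,
      ← filter_val]
    show ∑ i ∈ univ.filter (fun i => 0 < part r y i), part r y i = _
    exact sum_subset (filter_subset _ _) fun i _ hi => by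
      simp only [mem_filter, mem_univ, true_and] at hi; omega
  haveI : NeZero p := ⟨by omega⟩
  set key : (Fin N → ℕ) → (Fin w → Fin p) := fun y k => Fin.ofNat p ((word y).getD k 0) with hkey
  have hinj : ∀ y ∈ Bas, ∀ y' ∈ Bas, key y = key y' →
      vec n p r y ∈ Submodule.span ℂ {vec n p r y'} := by
    intro y hy y' hy' h
    have hword : word y = word y' := by
      refine List.ext_getElem ((hlen y hy).trans (hlen y' hy').symm) fun k h1 h2 => ?_
      have := congrArg Fin.val (congrFun h ⟨k, hlen y hy ▸ h1⟩)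
      simp only [hkey, Fin.val_ofNat, List.getD_eq_getElem?_getD, List.getElem?_eq_getElem h1, List.getElem?_eq_getElem h2, Option.getD_some] at this
      rwa [Nat.mod_eq_of_lt (spell_lt (by omega) _ (fun q hq => (hcode y hy q hq).2.2) _
          (List.getElem_mem h1)),
        Nat.mod_eq_of_lt (spell_lt (by omega) _ (fun q hq => (hcode y' hy' q hq).2.2) _
          (List.getElem_mem h2))] at this
    have hc := spell_inj _ _ (fun q hq => ⟨(hcode y' hy' q hq).1, (hcode y' hy' q hq).2.1⟩)
      (fun q hq => ⟨(hcode y hy q hq).1, (hcode y hy q hq).2.1⟩) hword.symm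
    have hc' : code r y' = code r y := by
      rw [← Multiset.coe_toList (code r y'), hc, Multiset.coe_toList]
    obtain ⟨σ, hσr, rfl⟩ := exists_perm_of_code_eq (hrun y' hy'.2.1) (hrun y hy.2.1) hc'
    rw [vec_comp _ _ hσr]
    exact Submodule.smul_mem _ _ (Submodule.mem_span_singleton_self _)
  have hfin : Bas.Finite := by
    refine Set.Finite.subset (Set.Finite.pi' fun _ : Fin N => Set.finite_Iic (tri N + n)) fun y hy i =>
      Set.mem_Iic.2 ?_
    have h1 : join p r y i ≤ ∑ k, join p r y k :=
      single_le_sum (fun k _ => Nat.zero_le (join p r y k)) (mem_univ i)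
    rw [hy.1] at h1
    have h2 : y i ≤ p * y i := Nat.le_mul_of_pos_left _ (by omega)
    have h3 : join p r y i = p * y i + r i := rfl
    omega
  set D := hfin.toFinset.image key with hD
  have hpick : ∀ k ∈ D, ∃ y ∈ Bas, key y = k := fun k hk => by
    obtain ⟨y, hy, rfl⟩ := mem_image.1 hk
    exact ⟨y, hfin.mem_toFinset.1 hy, rfl⟩
  choose pick hpick1 hpick2 using hpick
  set V : Finset (Equiv.Perm (Fin n) → ℂ) := D.attach.image fun k => vec n p r (pick k.1 k.2)
  have hspan : Submodule.span ℂ (vec n p r '' {x : Fin N → ℕ | ∑ i, join p r x i = tri N + n}) ≤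
      Submodule.span ℂ (V : Set (Equiv.Perm (Fin n) → ℂ)) := by
    rw [Submodule.span_le]
    rintro _ ⟨x, hx, rfl⟩
    refine (Submodule.span_le.2 ?_) (vec_mem_span (by omega) hn r x hx)
    rintro _ ⟨y, hy, rfl⟩
    have hk : key y ∈ D := mem_image_of_mem _ (hfin.mem_toFinset.2 hy)
    refine (Submodule.span_mono ?_) (hinj y hy _ (hpick1 _ hk) (hpick2 _ hk).symm)
    rw [Set.singleton_subset_iff]
    exact mem_coe.2 (mem_image.2 ⟨⟨key y, hk⟩, mem_attach _ _, rfl⟩)
  refine (Submodule.finrank_mono hspan).trans_lt ?_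
  refine ((finrank_span_finset_le_card V).trans (card_image_le.trans (le_of_eq card_attach))).trans_lt ?_
  split_ifs with hw0
  · have := card_le_univ D
    rw [Fintype.card_fun, Fintype.card_fin, Fintype.card_fin] at this
    have h1 : p ^ w = 1 := by rw [hw0, pow_zero]
    omega
  · have h0 : (fun _ => 0 : Fin w → Fin p) ∉ D := by
      intro h
      obtain ⟨y, hy, hy0⟩ := mem_image.1 h
      have hy := hfin.mem_toFinset.1 hy
      have hl := hlen y hy
      rcases hL : (code r y).toList with _ | ⟨q, l⟩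
      · simp [word, hL, spell] at hl; omega
      · have hq := hcode y hy q (by rw [hL]; exact List.mem_cons_self)
        have := congrArg Fin.val (congrFun hy0 ⟨0, by omega⟩)
        simp [hkey, word, hL, spell, Nat.mod_eq_of_lt hq.2.2] at this
        exact hq.1 this
    have := card_lt_card ((ssubset_iff_of_subset (subset_univ D)).2
      ⟨_, mem_univ _, h0⟩)
    rwa [card_univ, Fintype.card_fun, Fintype.card_fin, Fintype.card_fin] at this


theorem code_weight {r x : Fin N → ℕ} : ((code r x).map Prod.snd).sum = wt r x := by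
  rw [wt, code, Multiset.filter_map, Multiset.map_map, ← filter_val]
  show ∑ i ∈ univ.filter (fun i => 0 < part r x i), part r x i = _
  exact sum_subset (filter_subset _ _) fun i _ hi => by
    simp only [mem_filter, mem_univ, true_and] at hi; omega

/-- Representatives, one for each code, whose regular parts span. -/
theorem exists_reps (hp : 2 ≤ p) (hn : n ≤ N) {r x₀ : Fin N → ℕ} (hr : ∀ i, r i < p)
    (hx₀ : ∑ i, join p r x₀ i = tri N + n) (hinj₀ : Function.Injective (join p r x₀)) :
    ∃ T : Finset (Fin N → ℕ),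
      (∀ y ∈ T, ∑ i, join p r y i = tri N + n ∧ Function.Injective (join p r y) ∧
        wt r y = wt r x₀ ∧ ∀ q ∈ code r y, q.1 ≠ 0 ∧ 0 < q.2 ∧ q.1 < p) ∧
      Set.InjOn (code r) T ∧
      Submodule.span ℂ (vec n p r '' {x : Fin N → ℕ | ∑ i, join p r x i = tri N + n}) ≤
        Submodule.span ℂ (vec n p r '' (T : Set (Fin N → ℕ))) := by
  classical
  set w := wt r x₀ with hw
  set Bas : Set (Fin N → ℕ) := {y : Fin N → ℕ | ∑ i, join p r y i = tri N + n ∧
    Function.Injective (join p r y) ∧ ∑ i ∈ zeroRunner r, y i = tri (zeroRunner r).card}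
  have hrun : ∀ y : Fin N → ℕ, Function.Injective (join p r y) →
      ∀ i j, r i = r j → y i = y j → i = j := fun y hy i j h1 h2 => hy (by simp [join, h1, h2])
  have hwt : ∀ y ∈ Bas, wt r y = w := by
    intro y hy
    have h1 := wt_eq (hrun y hy.2.1)
    have h2 := wt_eq (hrun x₀ hinj₀)
    have h3 := two_mul_sum_rnk (hrun y hy.2.1)
    have h4 := two_mul_sum_rnk (hrun x₀ hinj₀)
    have h5 : ∑ i, y i = ∑ i, x₀ i := by
      have h := hy.1
      rw [← hx₀, sum_join, sum_join] at h
      exact Nat.eq_of_mul_eq_mul_left (by omega) (Nat.add_right_cancel h)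
    omega
  have hzero : ∀ y ∈ Bas, ∀ i, r i = 0 → part r y i = 0 := by
    intro y hy i hi
    set m := (zeroRunner r).card
    set e := (zeroRunner r).equivFin.symm
    set z : Fin m → ℕ := fun a => y (e a : Fin N) with hz
    have hzinj : Function.Injective z := fun a b h => e.injective (Subtype.ext
      (hrun y hy.2.1 _ _ (((mem_filter.1 (e a).2).2).trans (mem_filter.1 (e b).2).2.symm) h))
    have hzs : ∑ a, z a ≤ tri m := by
      rw [← hy.2.2]
      refine le_of_eq ?_
      exact sum_bij (fun a _ => (e a : Fin N)) (fun a _ => (e a).2)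
        (fun a _ b _ h => e.injective (Subtype.ext h))
        (fun i hi => ⟨e.symm ⟨i, hi⟩, mem_univ _, by simp⟩) fun a _ => rfl
    obtain ⟨σ, hσ⟩ := eq_stair_comp hzinj hzs
    obtain ⟨a, ha⟩ : ∃ a, (e a : Fin N) = i :=
      ⟨e.symm ⟨i, mem_filter.2 ⟨mem_univ i, hi⟩⟩, by simp⟩
    have hya : y i = (σ a : ℕ) := by rw [← ha]; exact congrFun hσ a
    have hle : (σ a : ℕ) ≤ rnk r y i := by
      rw [← Fin.card_Iio (σ a), rnk]
      refine card_le_card_of_injOn (fun b => (e (σ.symm b) : Fin N)) (fun b hb => ?_)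
        fun b _ b' _ h => σ.symm.injective (e.injective (Subtype.ext h))
      simp only [coe_filter, mem_univ, true_and, Set.mem_setOf_eq]
      refine ⟨((mem_filter.1 (e (σ.symm b)).2).2).trans hi.symm, ?_⟩
      have := congrFun hσ (σ.symm b)
      simp only [hz, stair, Function.comp_apply, Equiv.apply_symm_apply] at this
      rw [this, hya]
      simpa using mem_Iio.1 hb
    unfold part
    omega
  have hcode : ∀ y ∈ Bas, ∀ q ∈ code r y, q.1 ≠ 0 ∧ 0 < q.2 ∧ q.1 < p := by
    intro y hy q hq
    rw [code, Multiset.mem_filter, Multiset.mem_map] at hq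
    obtain ⟨⟨i, -, rfl⟩, h2⟩ := hq
    exact ⟨fun h => by have := hzero y hy i h; simp only at h2; omega, h2, hr i⟩
  have hfin : Bas.Finite := by
    refine Set.Finite.subset (Set.Finite.pi' fun _ : Fin N => Set.finite_Iic (tri N + n)) fun y hy i =>
      Set.mem_Iic.2 ?_
    have h1 : join p r y i ≤ ∑ k, join p r y k :=
      single_le_sum (fun k _ => Nat.zero_le (join p r y k)) (mem_univ i)
    rw [hy.1] at h1
    have h2 : y i ≤ p * y i := Nat.le_mul_of_pos_left _ (by omega)
    have h3 : join p r y i = p * y i + r i := rfl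
    omega
  have hpick : ∀ k ∈ hfin.toFinset.image (code r), ∃ y ∈ Bas, code r y = k := fun k hk => by
    obtain ⟨y, hy, rfl⟩ := mem_image.1 hk
    exact ⟨y, hfin.mem_toFinset.1 hy, rfl⟩
  choose pick hpick1 hpick2 using hpick
  refine ⟨(hfin.toFinset.image (code r)).attach.image fun k => pick k.1 k.2, ?_, ?_, ?_⟩
  · intro y hy
    obtain ⟨k, -, rfl⟩ := mem_image.1 hy
    have h := hpick1 k.1 k.2
    exact ⟨h.1, h.2.1, hwt _ h, hcode _ h⟩
  · intro y hy y' hy' h
    obtain ⟨k, -, rfl⟩ := mem_image.1 (mem_coe.1 hy)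
    obtain ⟨k', -, rfl⟩ := mem_image.1 (mem_coe.1 hy')
    rw [hpick2, hpick2] at h
    rw [show k = k' from Subtype.ext h]
  · rw [Submodule.span_le]
    rintro _ ⟨x, hx, rfl⟩
    refine (Submodule.span_le.2 ?_) (vec_mem_span (by omega) hn r x hx)
    rintro _ ⟨y, hy, rfl⟩
    have hk : code r y ∈ hfin.toFinset.image (code r) :=
      mem_image_of_mem _ (hfin.mem_toFinset.2 hy)
    have hy' := hpick1 _ hk
    obtain ⟨σ, hσr, hσ⟩ := exists_perm_of_code_eq (hrun _ hy'.2.1) (hrun y hy.2.1) (hpick2 _ hk)
    rw [← hσ, vec_comp _ _ hσr]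
    refine Submodule.smul_mem _ _ (Submodule.subset_span ⟨_, ?_, rfl⟩)
    exact mem_coe.2 (mem_image.2 ⟨⟨_, hk⟩, mem_attach _ _, rfl⟩)

end CfsgLib.SymBlocks
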