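import Cfsg.Agent.SymBlocks.Count
import Mathlib.Data.ZMod.Basic
import Mathlib.Algebra.Group.Subgroup.Map
import Mathlib.GroupTheory.PGroup

/-!
# The value at a product of disjoint `p`-cycles, and the group they generate
-/

set_option autoImplicit false

namespace CfsgLib.SymBlocks

open Finset Cfsg

variable {N p : ℕ}

/-- The position on its runner of an index, in the order of the indices. -/
def low (r : Fin N → ℕ) (i : Fin N) : ℕ := (univ.filter fun j => j < i ∧ r j = r i).card

theorem rnk_eq_low {r x : Fin N → ℕ} (hx : ∀ i j, i < j → r i = r j → x i < x j) (i : Fin N) :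
    rnk r x i = low r i := by
  unfold rnk low
  congr 1
  ext j
  simp only [mem_filter, mem_univ, true_and]
  constructor
  · rintro ⟨h1, h2⟩
    refine ⟨?_, h1⟩
    rcases lt_trichotomy j i with h | h | h
    · exact h
    · subst h; exact absurd h2 (lt_irrefl _)
    · exact absurd (hx i j h h1.symm) (by omega)
  · rintro ⟨h1, h2⟩
    exact ⟨h2, hx j i h1 h2⟩

theorem runner_injective {r x : Fin N → ℕ} (hx : ∀ i j, i < j → r i = r j → x i < x j) :
    ∀ i j, r i = r j → x i = x j → i = j := by
  intro i j hr h
  rcases lt_trichotomy i j with h' | h' | h'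
  · exact absurd h (hx i j h' hr).ne
  · exact h'
  · exact absurd h (hx j i h' hr.symm).ne'

theorem join_injective {r x : Fin N → ℕ} (hr : ∀ i, r i < p)
    (hx : ∀ i j, r i = r j → x i = x j → i = j) : Function.Injective (join p r x) := by
  intro i j h
  have hp : 0 < p := (Nat.zero_le (r i)).trans_lt (hr i)
  have h1 : r i = r j := by
    have := congrArg (fun v => v % p) h
    simpa [join, Nat.mod_eq_of_lt (hr i), Nat.mod_eq_of_lt (hr j)] using this
  refine hx i j h1 ?_
  simp only [join, h1] at h
  exact Nat.eq_of_mul_eq_mul_left hp (Nat.add_right_cancel h)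

/-- Removing `p`-hooks of a character leaves a multiple of the core. -/
theorem chm_replicate_add {r : Fin N → ℕ} (hr : ∀ i, r i < p) (m : ℕ) :
    ∀ (k : ℕ) (x : Fin N → ℕ), (∀ i j, i < j → r i = r j → x i < x j) → wt r x = k →
      ∑ i, join p r x i = tri N + (p * k + m) →
      ∃ c : ℤ, 0 < c ∧ ∀ μ : Multiset ℕ, chm (Multiset.replicate k p + μ) (join p r x) =
        c * chm μ (join p r (low r)) := by
  classical
  intro k
  induction k with
  | zero =>
    intro x hx hw _
    refine ⟨1, one_pos, ?_⟩
    have hxe : x = low r := funext fun i => by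
      have h1 := (sum_eq_zero_iff.1 hw) i (mem_univ i)
      have h2 := rnk_le (runner_injective hx) i
      rw [rnk_eq_low hx] at h2
      unfold part at h1
      rw [rnk_eq_low hx] at h1
      omega
    intro μ
    rw [Multiset.replicate_zero, zero_add, one_mul, hxe]
  | succ k ih =>
    intro x hx hw hs
    have hp : 0 < p := by
      rcases Nat.eq_zero_or_pos N with rfl | hN
      · simp [wt] at hw
      · exact (Nat.zero_le _).trans_lt (hr ⟨0, hN⟩)
    have hle : ∀ i, p ≤ join p r x i ↔ 1 ≤ x i := by
      intro i
      have hi := hr i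
      refine ⟨fun h => ?_, fun h => ?_⟩
      · by_contra h0
        simp only [join, show x i = 0 by omega] at h
        omega
      · have : p ≤ p * x i := Nat.le_mul_of_pos_right p h
        simp only [join]
        omega
    have hdec : ∀ i, 1 ≤ x i → dec (join p r x) i p = join p r (dec x i 1) := by
      intro i hi
      funext l
      by_cases hl : l = i
      · subst hl
        simp only [dec, join, Function.update_self]
        rw [Nat.mul_sub, mul_one]
        have : p ≤ p * x l := Nat.le_mul_of_pos_right p hi
        omega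
      · simp [dec, join, hl]
    have hstep : ∀ i, ∃ c : ℤ, (0 ≤ c) ∧
        ((1 ≤ x i ∧ (∀ a b, a < b → r a = r b → dec x i 1 a < dec x i 1 b)) → 0 < c) ∧
        ∀ μ : Multiset ℕ, (if p ≤ join p r x i then
          chm (Multiset.replicate k p + μ) (dec (join p r x) i p) else 0) =
          c * chm μ (join p r (low r)) := by
      intro i
      by_cases h1 : 1 ≤ x i
      swap
      · exact ⟨0, le_rfl, fun h => absurd h.1 h1, fun μ => by rw [if_neg (by rwa [hle]), zero_mul]⟩
      simp only [if_pos ((hle i).2 h1), hdec i h1]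
      by_cases hm : ∀ a b, a < b → r a = r b → dec x i 1 a < dec x i 1 b
      · have hs' : ∑ l, join p r (dec x i 1) l = tri N + (p * k + m) := by
          rw [← hdec i h1]
          have := sum_dec (join p r x) ((hle i).2 h1)
          rw [mul_add, mul_one] at hs
          omega
        have hw' : wt r (dec x i 1) = k := by
          have e1 := wt_eq (runner_injective hm)
          have e2 := wt_eq (runner_injective hx)
          have e3 := sum_dec x h1
          simp only [rnk_eq_low hm] at e1
          simp only [rnk_eq_low hx] at e2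
          omega
        obtain ⟨c, hc, hv⟩ := ih _ hm hw' hs'
        exact ⟨c, hc.le, fun _ => hc, hv⟩
      · refine ⟨0, le_rfl, fun h => absurd h.2 hm, ?_⟩
        push Not at hm
        obtain ⟨a, b, hab, hrab, hle'⟩ := hm
        have hlt := hx a b hab hrab
        have heq : dec x i 1 a = dec x i 1 b := by
          by_cases hb : b = i
          · subst hb
            simp [dec, hab.ne] at hle' ⊢
            omega
          by_cases ha : a = i
          · subst ha; simp [dec, hb] at hle' ⊢; omega
          · simp [dec, ha, hb] at hle'; omega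
        intro μ; rw [chm_eq_zero_of_eq _ hab.ne (by simp [join, heq, hrab]), zero_mul]
    choose c hc0 hcpos hval using hstep
    refine ⟨∑ i, c i, sum_pos' (fun i _ => hc0 i) ?_, fun μ => by
      rw [Multiset.replicate_succ, Multiset.cons_add, chm_cons, sum_mul]
      exact sum_congr rfl fun i _ => hval i μ⟩
    have hne : (univ.filter fun i => low r i < x i).Nonempty := by
      rw [filter_nonempty_iff]
      by_contra hall
      push Not at hall
      have : wt r x = 0 := sum_eq_zero fun i _ => by
        unfold part
        rw [rnk_eq_low hx]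
        have := hall i (mem_univ i)
        omega
      omega
    set i := (univ.filter fun i => low r i < x i).min' hne
    have hi : low r i < x i := (mem_filter.1 (min'_mem _ hne)).2
    refine ⟨i, mem_univ i, hcpos i ⟨by omega, fun a b hab hrab => ?_⟩⟩
    have hlt := hx a b hab hrab
    by_cases ha : a = i
    · subst ha; simp [dec, hab.ne']; omega
    by_cases hb : b = i
    · have hlow : x a ≤ low r a := by
        by_contra h
        have hmem : a ∈ univ.filter (fun i => low r i < x i) := mem_filter.2 ⟨mem_univ a, by omega⟩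
        have := min'_le _ a hmem
        rw [hb] at hab
        exact absurd hab (not_lt.2 this)
      subst hb
      have h2 : low r a < low r i := by
        rw [← rnk_eq_low hx, ← rnk_eq_low hx]
        exact rnk_lt_rnk hrab hlt
      simp [dec, ha]
      omega
    · simp [dec, ha, hb]; omega

/-- Removing `p`-hooks never cancels. -/
theorem chm_replicate_ne_zero {r : Fin N → ℕ} (hr : ∀ i, r i < p) (m : ℕ)
    (k : ℕ) (x : Fin N → ℕ) (hx : ∀ i j, i < j → r i = r j → x i < x j) (hw : wt r x = k)
    (hs : ∑ i, join p r x i = tri N + (p * k + m)) :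
    ∃ c : ℤ, 0 < c ∧ chm (Multiset.replicate k p + Multiset.replicate m 1) (join p r x) =
      c * chm (Multiset.replicate m 1) (join p r (low r)) := by
  obtain ⟨c, hc, h⟩ := chm_replicate_add hr m k x hx hw hs
  exact ⟨c, hc, h _⟩

theorem sum_low_le {r x : Fin N → ℕ} (hx : ∀ i j, i < j → r i = r j → x i < x j) :
    wt r x + ∑ i, low r i = ∑ i, x i := by
  have := wt_eq (runner_injective hx)
  simpa only [rnk_eq_low hx] using this

/-- The orbit lengths from a map separating exactly the orbits. -/
theorem parts_eq_of_classes {X I : Type*} [Fintype X] [DecidableEq X] [Fintype I] [DecidableEq I]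
    (g : Equiv.Perm X) (f : X → I) (hf : Function.Surjective f)
    (h : ∀ a b, g.SameCycle a b ↔ f a = f b) :
    parts g = (univ : Finset I).val.map fun c => (univ.filter fun a => f a = c).card := by
  have horb : ∀ a, orb g a = univ.filter fun b => f b = f a := fun a => by
    ext b; simp [mem_orb, h, eq_comm]
  have himg : orbs g = univ.image fun c => univ.filter fun a => f a = c := by
    ext S
    simp only [mem_orbs, mem_image, mem_univ, true_and, horb]
    constructor
    · rintro ⟨a, rfl⟩; exact ⟨f a, rfl⟩
    · rintro ⟨c, rfl⟩; obtain ⟨a, rfl⟩ := hf c; exact ⟨a, rfl⟩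
  have hinj : Function.Injective fun c => univ.filter fun a => f a = c := by
    intro c d hcd
    obtain ⟨a, rfl⟩ := hf c
    have := Finset.ext_iff.1 hcd a
    simpa using this
  rw [parts, himg, image_val_of_injOn hinj.injOn, Multiset.map_map]
  rfl

section Model

variable (p) (w m : ℕ)

/-- The points moved by `w` cycles of length `p` and `m` fixed points. -/
abbrev Pts : Type := (Fin w × ZMod p) ⊕ Fin m

/-- The translation of each cycle. -/
def shift : Multiplicative (Fin w → ZMod p) →* Equiv.Perm (Pts p w m) where
  toFun v := Equiv.sumCongr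
    { toFun := fun z => (z.1, z.2 + v.toAdd z.1)
      invFun := fun z => (z.1, z.2 - v.toAdd z.1)
      left_inv := fun z => by simp
      right_inv := fun z => by simp } (Equiv.refl _)
  map_one' := Equiv.ext (by rintro (z | b) <;> simp)
  map_mul' v v' := Equiv.ext (by
    rintro (z | b)
    · simp [Equiv.Perm.mul_apply, add_comm, add_left_comm]
    · simp [Equiv.Perm.mul_apply])

/-- The product of the cycles. -/
def cyclesPerm : Equiv.Perm (Pts p w m) := shift p w m (Multiplicative.ofAdd fun _ => 1)

variable {p w m}

@[simp] theorem shift_inl (v : Multiplicative (Fin w → ZMod p)) (j : Fin w) (a : ZMod p) :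
    shift p w m v (Sum.inl (j, a)) = Sum.inl (j, a + v.toAdd j) := rfl

@[simp] theorem shift_inr (v : Multiplicative (Fin w → ZMod p)) (b : Fin m) :
    shift p w m v (Sum.inr b) = Sum.inr b := rfl

@[simp] theorem cyclesPerm_inl (j : Fin w) (a : ZMod p) :
    cyclesPerm p w m (Sum.inl (j, a)) = Sum.inl (j, a + 1) := rfl

@[simp] theorem cyclesPerm_inr (b : Fin m) : cyclesPerm p w m (Sum.inr b) = Sum.inr b := rfl

theorem shift_injective [NeZero p] : Function.Injective (shift p w m) := by
  intro v v' h
  refine Multiplicative.toAdd.injective (funext fun j => ?_)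
  have := congrArg (fun g : Equiv.Perm (Pts p w m) => g (Sum.inl (j, 0))) h
  simpa using this

theorem cyclesPerm_pow_inl (i : ℕ) (j : Fin w) (a : ZMod p) :
    (cyclesPerm p w m ^ i) (Sum.inl (j, a)) = Sum.inl (j, a + i) := by
  induction i with
  | zero => simp
  | succ i ih => rw [pow_succ', Equiv.Perm.mul_apply, ih, cyclesPerm_inl]; simp [add_assoc]

theorem cyclesPerm_pow_eq_one : cyclesPerm p w m ^ p = 1 := by
  rw [cyclesPerm, ← map_pow, ← ofAdd_nsmul, ← map_one (shift p w m)]
  congr 1
  rw [show (p • fun _ : Fin w => (1 : ZMod p)) = 0 from funext fun _ => by simp, ofAdd_zero]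

theorem orderOf_cyclesPerm [Fact p.Prime] : ∃ k, orderOf (cyclesPerm p w m) = p ^ k := by
  obtain ⟨k, -, hk⟩ := (Nat.dvd_prime_pow (Fact.out : p.Prime)).1
    (show orderOf (cyclesPerm p w m) ∣ p ^ 1 by
      rw [pow_one]; exact orderOf_dvd_of_pow_eq_one cyclesPerm_pow_eq_one)
  exact ⟨k, hk⟩

theorem parts_cyclesPerm [NeZero p] :
    parts (cyclesPerm p w m) = Multiset.replicate w p + Multiset.replicate m 1 := by
  classical
  set f : Pts p w m → Fin w ⊕ Fin m := Sum.map Prod.fst id
  have hf : Function.Surjective f := by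
    rintro (j | b)
    · exact ⟨Sum.inl (j, 0), rfl⟩
    · exact ⟨Sum.inr b, rfl⟩
  rw [parts_eq_of_classes (cyclesPerm p w m) f hf fun a b => ⟨fun h => ?_, fun h => ?_⟩]
  · have h1 : (univ : Finset (Fin w ⊕ Fin m)).val =
        (univ : Finset (Fin w)).val.map Sum.inl + (univ : Finset (Fin m)).val.map Sum.inr := rfl
    rw [h1, Multiset.map_add, Multiset.map_map, Multiset.map_map]
    congr 1
    · refine Multiset.eq_replicate.2 ⟨by simp, fun q hq => ?_⟩
      obtain ⟨j, -, rfl⟩ := Multiset.mem_map.1 hq
      have he : (univ.filter fun a : Pts p w m => f a = Sum.inl j) =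
          univ.image fun a : ZMod p => Sum.inl (j, a) := by
        ext (⟨j', a⟩ | b) <;> simp [f, eq_comm]
      simp only [Function.comp_apply]
      rw [he, card_image_of_injective _ (fun a a' h => by simpa using h), card_univ, ZMod.card]
    · refine Multiset.eq_replicate.2 ⟨by simp, fun q hq => ?_⟩
      obtain ⟨b, -, rfl⟩ := Multiset.mem_map.1 hq
      simp only [Function.comp_apply]
      rw [card_eq_one]
      exact ⟨Sum.inr b, by ext (⟨j', a⟩ | b') <;> simp [f]⟩
  · obtain ⟨i, rfl⟩ := h.exists_nat_pow_eq
    rcases a with ⟨j, a⟩ | b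
    · rw [cyclesPerm_pow_inl]; rfl
    · clear h
      induction i with
      | zero => rfl
      | succ i ih =>
        have hfix : ∀ i : ℕ, (cyclesPerm p w m ^ i) (Sum.inr b) = Sum.inr b := fun i =>
          Equiv.Perm.pow_apply_eq_self_of_apply_eq_self (cyclesPerm_inr b) i
        rw [hfix]
  · rcases a with ⟨j, a⟩ | b' <;> rcases b with ⟨j', a'⟩ | b''
    · simp only [f, Sum.map_inl, Sum.inl.injEq] at h
      subst h
      refine ⟨(((a' - a : ZMod p).val : ℕ) : ℤ), ?_⟩
      rw [zpow_natCast, cyclesPerm_pow_inl, ZMod.natCast_zmod_val]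
      simp
    · simp [f] at h
    · simp [f] at h
    · simp only [f, Sum.map_inr, id, Sum.inr.injEq] at h
      subst h
      exact Equiv.Perm.SameCycle.refl _ _

theorem shift_mem_centralizer (v : Multiplicative (Fin w → ZMod p)) :
    shift p w m v * cyclesPerm p w m = cyclesPerm p w m * shift p w m v := by
  rw [cyclesPerm, ← map_mul, ← map_mul, mul_comm]

theorem conj_shift_mem (hp : 1 < p) {g : Equiv.Perm (Pts p w m)}
    (hg : Commute g (cyclesPerm p w m)) (v : Multiplicative (Fin w → ZMod p)) :
    g * shift p w m v * g⁻¹ ∈ (shift p w m).range := by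
  haveI : NeZero p := ⟨by omega⟩
  haveI : Fact (1 < p) := ⟨hp⟩
  have hfix : ∀ {h : Equiv.Perm (Pts p w m)}, Commute h (cyclesPerm p w m) →
      (∀ j, ∃ k b, h (Sum.inl (j, 0)) = Sum.inl (k, b)) ∧ ∀ b, ∃ b', h (Sum.inr b) = Sum.inr b' := by
    intro h hc
    have hc' : ∀ z, h (cyclesPerm p w m z) = cyclesPerm p w m (h z) := fun z =>
      congrArg (fun q : Equiv.Perm (Pts p w m) => q z) hc.eq
    constructor
    · intro j
      rcases hh : h (Sum.inl (j, 0)) with ⟨k, b⟩ | b
      · exact ⟨k, b, rfl⟩
      · have h1 := hc' (Sum.inl (j, 0))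
        rw [hh, cyclesPerm_inr, cyclesPerm_inl, ← hh] at h1
        have := h.injective h1
        simp at this
    · intro b
      rcases hh : h (Sum.inr b) with ⟨k, a⟩ | b'
      · have h1 := hc' (Sum.inr b)
        rw [hh, cyclesPerm_inr, cyclesPerm_inl, hh] at h1
        simp at h1
      · exact ⟨b', rfl⟩
  have hg' : Commute g⁻¹ (cyclesPerm p w m) := hg.inv_left
  obtain ⟨hgl, hgr⟩ := hfix hg
  obtain ⟨hil, hir⟩ := hfix hg'
  choose π s hπ using hil
  have hlift : ∀ {h : Equiv.Perm (Pts p w m)}, Commute h (cyclesPerm p w m) → ∀ j k b (a : ZMod p),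
      h (Sum.inl (j, 0)) = Sum.inl (k, b) → h (Sum.inl (j, a)) = Sum.inl (k, b + a) := by
    intro h hc j k b a hh
    have h1 := congrArg (fun q : Equiv.Perm (Pts p w m) => q (Sum.inl (j, 0))) (hc.pow_right a.val).eq
    simp only [Equiv.Perm.mul_apply, cyclesPerm_pow_inl, hh, ZMod.natCast_zmod_val, zero_add] at h1
    exact h1
  refine ⟨Multiplicative.ofAdd fun k => v.toAdd (π k), Equiv.ext ?_⟩
  rintro (⟨k, a⟩ | b)
  · rw [Equiv.Perm.mul_apply, Equiv.Perm.mul_apply, shift_inl,
      hlift hg' k (π k) (s k) a (hπ k), shift_inl, toAdd_ofAdd]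
    have h2 := hlift hg' k (π k) (s k) (a + v.toAdd (π k)) (hπ k)
    rw [← add_assoc] at h2
    rw [← h2]; simp
  · obtain ⟨b', hb'⟩ := hir b
    rw [Equiv.Perm.mul_apply, Equiv.Perm.mul_apply, shift_inr, hb', shift_inr, ← hb']
    simp

end Model

end CfsgLib.SymBlocks
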