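import Cfsg.Agent.SymBlocks.AltFamily
import Mathlib.LinearAlgebra.Vandermonde
import Mathlib.RingTheory.Polynomial.Pochhammer

/-!
# The valuations of the degrees, runner by runner
-/

set_option autoImplicit false

namespace CfsgLib.SymBlocks

open Finset Cfsg CfsgLib.Block CfsgLib.Char

variable {N n p : ℕ}

/-- The falling factorials of the entries. -/
def descMat (β : Fin N → ℕ) : Matrix (Fin N) (Fin N) ℤ :=
  Matrix.of fun i j => ((β i).descFactorial j : ℤ)

theorem succ_mul_desc (b k : ℕ) :
    (((b + 1 : ℕ) : ℤ)) * (b.descFactorial k : ℤ) =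
      (((b + 1 : ℕ) : ℤ) - k) * ((b + 1).descFactorial k : ℤ) := by
  rw [← Nat.cast_mul, ← Nat.succ_descFactorial_succ, Nat.descFactorial_succ, Nat.cast_mul]
  by_cases h : k ≤ b + 1
  · rw [Nat.cast_sub h]
  · rw [Nat.descFactorial_eq_zero_iff_lt.2 (by omega)]
    simp

/-- Frobenius' degree formula. -/
theorem deg_formula : ∀ (n : ℕ) (β : Fin N → ℕ), ∑ i, β i = tri N + n →
    chm (Multiset.replicate n 1) β * ∏ i, ((β i).factorial : ℤ) =
      (n.factorial : ℤ) * (descMat β).det := by
  classical
  intro n
  induction n with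
  | zero =>
    intro β hs
    rw [Multiset.replicate_zero, chm_zero, Nat.factorial_zero, Nat.cast_one, one_mul]
    by_cases hinj : Function.Injective β
    swap
    · obtain ⟨a, b, hab, hne⟩ := Function.not_injective_iff.1 hinj
      rw [alt_eq_zero_of_eq hne hab, zero_mul]
      exact (Matrix.det_zero_of_row_eq hne (funext fun k => by simp [descMat, hab])).symm
    obtain ⟨σ, rfl⟩ := eq_stair_comp hinj (by omega)
    rw [alt_perm_left, alt_self (show Function.Injective (stair N) from fun i j h => Fin.ext h), mul_one,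
      show descMat (stair N ∘ σ) = (descMat (stair N)).submatrix σ id from rfl, Matrix.det_permute]
    congr 1
    rw [Matrix.det_of_isLowerTriangular _ (fun i j (hij : i < j) => by
      show ((Nat.descFactorial (i : ℕ) (j : ℕ) : ℕ) : ℤ) = 0
      rw [Nat.descFactorial_eq_zero_iff_lt.2 hij, Nat.cast_zero])]
    refine (Equiv.prod_comp σ fun i => (((stair N) i).factorial : ℤ)).trans ?_
    exact prod_congr rfl fun i _ => by simp [descMat, stair, Nat.descFactorial_self]
  | succ n ih =>
    intro β hs
    rw [Multiset.replicate_succ, chm_cons, sum_mul]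
    have hstep : ∀ i, (if 1 ≤ β i then chm (Multiset.replicate n 1) (dec β i 1) else 0) *
        ∏ k, ((β k).factorial : ℤ) =
        (n.factorial : ℤ) * ∑ σ : Equiv.Perm (Fin N), (Equiv.Perm.sign σ : ℤ) *
          (((β i : ℤ) - ((σ.symm i : Fin N) : ℕ)) * ∏ k, ((β (σ k)).descFactorial k : ℤ)) := by
      intro i
      by_cases h : 1 ≤ β i
      · obtain ⟨b, hb⟩ : ∃ b, β i = b + 1 := ⟨β i - 1, by omega⟩
        have hd := ih (dec β i 1) (by have := sum_dec β h; omega)
        have hfac : ∏ k, ((β k).factorial : ℤ) =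
            (β i : ℤ) * ∏ k, ((dec β i 1 k).factorial : ℤ) := by
          rw [← mul_prod_erase _ _ (mem_univ i), ← mul_prod_erase _ _ (mem_univ i), ← mul_assoc]
          congr 1
          · rw [show dec β i 1 i = b by simp [dec, hb], hb, Nat.factorial_succ, Nat.cast_mul]
          · exact prod_congr rfl fun k hk => by simp [dec, (mem_erase.1 hk).1]
        rw [if_pos h, hfac, mul_left_comm, hd, mul_left_comm, Matrix.det_apply', mul_sum]
        refine congrArg _ (sum_congr rfl fun σ _ => ?_)
        rw [mul_left_comm]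
        refine congrArg _ ?_
        simp only [descMat, Matrix.of_apply]
        rw [← mul_prod_erase _ _ (mem_univ (σ.symm i)), ← mul_prod_erase _ _ (mem_univ (σ.symm i)),
          Equiv.apply_symm_apply, show dec β i 1 i = b by simp [dec, hb], hb, ← mul_assoc,
          ← mul_assoc, succ_mul_desc]
        congr 1
        exact prod_congr rfl fun k hk => by
          have hne : σ k ≠ i := fun e => (mem_erase.1 hk).1 (by rw [← e, Equiv.symm_apply_apply])
          simp [dec, hne]
      · rw [if_neg h, zero_mul, sum_eq_zero, mul_zero]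
        intro σ _
        rw [← mul_prod_erase _ _ (mem_univ (σ.symm i)), Equiv.apply_symm_apply,
          show β i = 0 by omega]
        rcases Nat.eq_zero_or_pos ((σ.symm i : Fin N) : ℕ) with h0 | h0
        · simp [h0]
        · simp [Nat.descFactorial_eq_zero_iff_lt.2 h0]
    rw [sum_congr rfl fun i _ => hstep i, ← mul_sum, sum_comm, Matrix.det_apply', mul_sum, mul_sum]
    refine sum_congr rfl fun σ _ => ?_
    rw [← mul_sum, ← sum_mul]
    have hsum : ∑ i, ((β i : ℤ) - ((σ.symm i : Fin N) : ℕ)) = ((n + 1 : ℕ) : ℤ) := by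
      rw [sum_sub_distrib, Equiv.sum_comp σ.symm fun k : Fin N => ((k : ℕ) : ℤ)]
      have h1 : ((∑ i, β i : ℕ) : ℤ) = ((tri N + (n + 1) : ℕ) : ℤ) := by rw [hs]
      simp only [tri] at h1
      push_cast at h1 ⊢
      linarith
    rw [hsum, Nat.factorial_succ, Nat.cast_mul]
    simp only [descMat, Matrix.of_apply, Int.cast_id]
    ring

theorem descMat_det (β : Fin N → ℕ) :
    (descMat β).det = ∏ i : Fin N, ∏ j ∈ Ioi i, ((β j : ℤ) - (β i : ℤ)) := by
  rw [← Matrix.det_vandermonde, Matrix.det_eval_matrixOfPolynomials_eq_det_vandermonde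
    (fun i => (β i : ℤ)) (fun j => descPochhammer ℤ j)
    (fun j => descPochhammer_natDegree ℤ j) (fun j => monic_descPochhammer ℤ j)]
  congr 1
  ext i j
  simp [descMat, descPochhammer_eval_eq_descFactorial]

theorem natAbs_prod' {ι : Type*} (s : Finset ι) (f : ι → ℤ) :
    (∏ i ∈ s, f i).natAbs = ∏ i ∈ s, (f i).natAbs := map_prod Int.natAbsHom f s

/-- The valuation of the distances. -/
def dv (p : ℕ) (β : Fin N → ℕ) : ℕ :=
  ∑ i, ∑ j ∈ univ.filter (fun j => β j < β i), (β i - β j).factorization p

theorem factorization_natAbs_det {β : Fin N → ℕ} (hinj : Function.Injective β) :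
    (descMat β).det.natAbs.factorization p = dv p β := by
  classical
  rw [descMat_det, natAbs_prod', Nat.factorization_prod, Finset.sum_apply']
  swap
  · intro i _
    rw [Int.natAbs_ne_zero, prod_ne_zero_iff]
    intro j hj
    rw [sub_ne_zero]
    exact fun h => (mem_Ioi.1 hj).ne' (hinj (by exact_mod_cast h))
  set f : Fin N → Fin N → ℕ := fun i j => (((β j : ℤ) - β i).natAbs).factorization p with hf
  have hfs : ∀ i j, f i j = f j i := fun i j => by
    simp only [hf]; rw [← Int.natAbs_neg, neg_sub]
  have h1 : ∀ i, (∏ j ∈ Ioi i, ((β j : ℤ) - β i)).natAbs.factorization p =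
      ∑ j, if i < j then f i j else 0 := by
    intro i
    rw [natAbs_prod', Nat.factorization_prod, Finset.sum_apply', ← sum_filter]
    · exact sum_congr (by ext j; simp) fun j _ => rfl
    · intro j hj
      rw [Int.natAbs_ne_zero, sub_ne_zero]
      exact fun h => (mem_Ioi.1 hj).ne' (hinj (by exact_mod_cast h))
  have h2 : dv p β = ∑ i, ∑ j, if β j < β i then f i j else 0 := by
    refine sum_congr rfl fun i _ => ?_
    rw [sum_filter]
    refine sum_congr rfl fun j _ => ?_
    split_ifs with h
    · simp only [hf]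
      congr 2
      omega
    · rfl
  rw [sum_congr rfl fun i _ => h1 i, h2]
  have hT : ∀ R : Fin N → Fin N → Prop, ∀ [DecidableRel R], (∀ i j, i ≠ j → (R i j ↔ ¬ R j i)) →
      (∀ i, ¬ R i i) → 2 * (∑ i, ∑ j, if R i j then f i j else 0) =
        ∑ i, ∑ j, if i = j then 0 else f i j := by
    intro R _ hR hirr
    rw [two_mul]
    nth_rw 2 [sum_comm]
    rw [← sum_add_distrib]
    refine sum_congr rfl fun i _ => ?_
    rw [← sum_add_distrib]
    refine sum_congr rfl fun j _ => ?_
    by_cases hij : i = j
    · subst hij; simp [hirr i]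
    · rw [if_neg hij, hfs j i]
      by_cases h : R i j
      · rw [if_pos h, if_neg ((hR i j hij).1 h), add_zero]
      · rw [if_neg h, if_pos (by by_contra h'; exact h ((hR i j hij).2 h')), zero_add]
  have e1 := hT (fun i j => i < j) (fun i j h => by omega) fun i => lt_irrefl i
  have e2 := hT (fun i j => β j < β i) (fun i j h => by
    have : β i ≠ β j := fun e => h (hinj e)
    omega) fun i => lt_irrefl _
  omega

/-- The degree of a member is the absolute value of the alternant degree. -/
theorem Expo.degree {r y : Fin N → ℕ} {φ : IrrCharacter (Equiv.Perm (Fin n))}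
    (h : Expo n p r y φ) :
    charDegree (φ : Equiv.Perm (Fin n) → ℂ) =
      (chm (Multiset.replicate n 1) (join p r y)).natAbs := by
  obtain ⟨c, hc, hφ⟩ := h.2.2
  have hd := (Chr.irr_one φ).1
  have habs : (φ : Equiv.Perm (Fin n) → ℂ) 1 = chi n (join p r y) 1 ∨
      (φ : Equiv.Perm (Fin n) → ℂ) 1 = -chi n (join p r y) 1 := by
    rcases chi_isIrr_or_neg h.2.1 h.1 with hi | hi
    · rw [eq_of_smul_eq (φ := φ) (ψ := ⟨_, hi⟩) (c := c) hφ]; exact Or.inl rfl
    · rw [eq_of_smul_eq (φ := φ) (ψ := ⟨_, hi⟩) (c := -c) (by simpa using hφ)]; exact Or.inr rfl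
  set z := chm (Multiset.replicate n 1) (join p r y) with hz
  rw [chi_one, hd, ← hz] at habs
  rcases habs with h1 | h1
  · have h2 : ((charDegree (φ : Equiv.Perm (Fin n) → ℂ) : ℕ) : ℤ) = z := by exact_mod_cast h1
    omega
  · have h2 : ((charDegree (φ : Equiv.Perm (Fin n) → ℂ) : ℕ) : ℤ) = -z := by exact_mod_cast h1
    omega

/-- The valuation of the hook product on the runners. -/
def hv (p : ℕ) (r x : Fin N → ℕ) : ℕ :=
  ∑ i, ((x i).factorial.factorization p -
    ∑ j ∈ univ.filter (fun j => r j = r i ∧ x j < x i), (x i - x j).factorization p)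

theorem diffs_le (p : ℕ) {r x : Fin N → ℕ} (hx : ∀ i j, r i = r j → x i = x j → i = j) (i : Fin N) :
    ∑ j ∈ univ.filter (fun j => r j = r i ∧ x j < x i), (x i - x j).factorization p ≤
      (x i).factorial.factorization p := by
  have hne : ∀ j ∈ univ.filter (fun j => r j = r i ∧ x j < x i), x i - x j ≠ 0 := fun j hj => by
    have := (mem_filter.1 hj).2.2; omega
  rw [← Finset.sum_apply', ← Nat.factorization_prod hne]
  refine (Nat.factorization_le_iff_dvd (prod_ne_zero_iff.2 hne) (Nat.factorial_ne_zero _)).2 ?_ p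
  have hinj : Set.InjOn (fun j => x i - x j)
      (univ.filter (fun j => r j = r i ∧ x j < x i) : Finset (Fin N)) := by
    intro j hj k hk h
    obtain ⟨-, h1, h2⟩ := mem_filter.1 hj
    obtain ⟨-, h3, h4⟩ := mem_filter.1 hk
    simp only at h
    exact hx j k (h1.trans h3.symm) (by omega)
  rw [← prod_image (f := fun v => v) hinj, ← Finset.prod_Ico_id_eq_factorial]
  refine prod_dvd_prod_of_subset _ _ _ fun v hv => ?_
  obtain ⟨j, hj, rfl⟩ := mem_image.1 hv
  have := (mem_filter.1 hj).2.2
  exact mem_Ico.2 ⟨by omega, by omega⟩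

theorem dv_join (hp : p.Prime) {r x : Fin N → ℕ} (hr : ∀ i, r i < p) :
    dv p (join p r x) = ∑ i, rnk r x i +
      ∑ i, ∑ j ∈ univ.filter (fun j => r j = r i ∧ x j < x i), (x i - x j).factorization p := by
  rw [dv, ← sum_add_distrib]
  refine sum_congr rfl fun i _ => ?_
  rw [rnk, card_eq_sum_ones, ← sum_add_distrib]
  symm
  refine (sum_congr rfl fun j hj => ?_).trans
    (sum_subset (fun j hj => ?_) fun j hj hj' => ?_)
  · obtain ⟨-, h1, h2⟩ := mem_filter.1 hj
    rw [show join p r x i - join p r x j = p * (x i - x j) by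
      simp only [join, h1]; rw [Nat.mul_sub]; omega]
    rw [Nat.factorization_mul hp.ne_zero (by omega), Finsupp.add_apply, hp.factorization_self]
  · obtain ⟨-, h1, h2⟩ := mem_filter.1 hj
    have := Nat.mul_lt_mul_of_pos_left h2 hp.pos
    exact mem_filter.2 ⟨mem_univ j, by simp only [join, h1]; omega⟩
  · obtain ⟨-, h⟩ := mem_filter.1 hj
    refine Nat.factorization_eq_zero_of_not_dvd fun hd => hj' (mem_filter.2 ⟨mem_univ j, ?_⟩)
    have hm := (Nat.modEq_iff_dvd' h.le).2 hd
    have hrr : r j = r i := by
      have e : ∀ k, join p r x k % p = r k := fun k => by simp [join, Nat.mod_eq_of_lt (hr k)]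
      rw [← e j, ← e i]
      exact hm
    refine ⟨hrr, ?_⟩
    by_contra hle
    have := Nat.mul_le_mul_left p (not_lt.1 hle)
    simp only [join, hrr] at h
    omega

/-- The valuation of the degree. -/
theorem Expo.degree_val (hp : p.Prime) {r y : Fin N → ℕ} (hr : ∀ i, r i < p)
    {φ : IrrCharacter (Equiv.Perm (Fin n))} (h : Expo n p r y φ) :
    (charDegree (φ : Equiv.Perm (Fin n) → ℂ)).factorization p + wt r y + hv p r y =
      n.factorial.factorization p := by
  haveI := Fact.mk hp
  have hne : chm (Multiset.replicate n 1) (join p r y) ≠ 0 := deg_ne_zero h.2.1 h.1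
  have hdet : (descMat (join p r y)).det.natAbs ≠ 0 := by
    rw [Int.natAbs_ne_zero]
    intro h0
    have := deg_formula n (join p r y) h.1
    rw [h0, mul_zero, mul_eq_zero] at this
    exact this.elim hne (prod_ne_zero_iff.2 fun i _ => by exact_mod_cast Nat.factorial_ne_zero _)
  have hform := congrArg (fun z : ℤ => z.natAbs.factorization p) (deg_formula n (join p r y) h.1)
  simp only [Int.natAbs_mul, Int.natAbs_natCast, natAbs_prod'] at hform
  rw [Nat.factorization_mul (Int.natAbs_ne_zero.2 hne)
      (prod_ne_zero_iff.2 fun i _ => Nat.factorial_ne_zero _),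
    Nat.factorization_mul (Nat.factorial_ne_zero _) hdet, Finsupp.add_apply, Finsupp.add_apply,
    Nat.factorization_prod fun i _ => Nat.factorial_ne_zero _, Finset.sum_apply',
    factorization_natAbs_det h.2.1, dv_join hp hr, ← h.degree] at hform
  have hfac : ∀ i, (join p r y i).factorial.factorization p = y i + (y i).factorial.factorization p := by
    intro i
    rw [show join p r y i = p * y i + r i from rfl, Nat.factorization_def _ hp,
      Nat.factorization_def _ hp, padicValNat_factorial_mul_add _ (hr i), padicValNat_factorial_mul]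
    omega
  rw [sum_congr rfl fun i _ => hfac i, sum_add_distrib] at hform
  have h2 : hv p r y + ∑ i, ∑ j ∈ univ.filter (fun j => r j = r i ∧ y j < y i),
      (y i - y j).factorization p = ∑ i, (y i).factorial.factorization p := by
    rw [hv, ← sum_add_distrib]
    exact sum_congr rfl fun i _ => Nat.sub_add_cancel (diffs_le p h.runner i)
  have h3 := wt_eq h.runner
  omega

end CfsgLib.SymBlocks
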