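import Cfsg.Agent.SymBlocks.DegVal
import Cfsg.Agent.SymBlocks.SelfAssoc

/-!
# Bounds for the valuation of the hook product on the runners
-/

set_option autoImplicit false

namespace CfsgLib.SymBlocks

open Finset Cfsg CfsgLib.Block CfsgLib.Char

variable {N n p : ℕ}

/-- The contribution of one entry. -/
def hterm (p : ℕ) (r x : Fin N → ℕ) (i : Fin N) : ℕ :=
  (x i).factorial.factorization p -
    ∑ j ∈ univ.filter (fun j => r j = r i ∧ x j < x i), (x i - x j).factorization p

theorem hv_eq (p : ℕ) (r x : Fin N → ℕ) : hv p r x = ∑ i, hterm p r x i := rfl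

/-- The weight on the runner of residue `c`. -/
def kc (r x : Fin N → ℕ) (c : ℕ) : ℕ := ∑ i ∈ univ.filter (fun i => r i = c), part r x i

theorem sum_kc {r x : Fin N → ℕ} (hr : ∀ i, r i < p) : ∑ c ∈ range p, kc r x c = wt r x :=
  sum_fiberwise_of_maps_to (fun i _ => mem_range.2 (hr i)) fun i => part r x i

/-- On a runner the value is that of the degree of a partition. -/
theorem exists_runner_deg {r x : Fin N → ℕ} (hx : ∀ i j, r i = r j → x i = x j → i = j) (c : ℕ) :
    ∃ (R : ℕ) (z : Fin R → ℕ), Function.Injective z ∧ ∑ b, z b = tri R + kc r x c ∧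
      ∑ i ∈ univ.filter (fun i => r i = c), hterm p r x i +
        (chm (Multiset.replicate (kc r x c) 1) z).natAbs.factorization p =
          (kc r x c).factorial.factorization p := by
  classical
  set s : Finset (Fin N) := univ.filter fun i => r i = c with hs
  set e := s.equivFin.symm
  set z : Fin s.card → ℕ := fun b => x (e b : Fin N) with hz
  have hrc : ∀ b, r (e b : Fin N) = c := fun b => (mem_filter.1 (e b).2).2
  have hzinj : Function.Injective z := fun b b' h =>
    e.injective (Subtype.ext (hx _ _ ((hrc b).trans (hrc b').symm) h))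
  have hsum : ∀ F : Fin N → ℕ, ∑ b, F (e b : Fin N) = ∑ i ∈ s, F i := fun F =>
    (Equiv.sum_comp e fun i : s => F i).trans (sum_coe_sort s F)
  have hzsum : ∑ b, z b = tri s.card + kc r x c := by
    have h := sum_runSet hx c
    rw [runSet, sum_image (fun i hi j hj h => hx i j
      ((mem_filter.1 hi).2.trans (mem_filter.1 hj).2.symm) h),
      card_image_of_injOn (fun i hi j hj h => hx i j
      ((mem_filter.1 hi).2.trans (mem_filter.1 hj).2.symm) h)] at h
    rw [hsum x, ← h, kc, hs]
    omega
  refine ⟨s.card, z, hzinj, hzsum, ?_⟩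
  have hform := congrArg (fun q : ℤ => q.natAbs.factorization p) (deg_formula _ z hzsum)
  have hne := deg_ne_zero hzinj hzsum
  have hdet : (descMat z).det.natAbs ≠ 0 := by
    rw [Int.natAbs_ne_zero]
    intro h0
    have := deg_formula _ z hzsum
    rw [h0, mul_zero, mul_eq_zero] at this
    exact this.elim hne (prod_ne_zero_iff.2 fun i _ => by exact_mod_cast Nat.factorial_ne_zero _)
  simp only [Int.natAbs_mul, Int.natAbs_natCast, natAbs_prod'] at hform
  rw [Nat.factorization_mul (Int.natAbs_ne_zero.2 hne)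
      (prod_ne_zero_iff.2 fun i _ => Nat.factorial_ne_zero _),
    Nat.factorization_mul (Nat.factorial_ne_zero _) hdet, Finsupp.add_apply, Finsupp.add_apply,
    Nat.factorization_prod fun i _ => Nat.factorial_ne_zero _, Finset.sum_apply',
    factorization_natAbs_det hzinj, hsum (fun i => (x i).factorial.factorization p)] at hform
  have hdv : dv p z = ∑ i ∈ s,
      ∑ j ∈ univ.filter (fun j => r j = r i ∧ x j < x i), (x i - x j).factorization p := by
    rw [← hsum, dv]
    refine sum_congr rfl fun b _ => ?_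
    refine sum_bij (fun b' _ => (e b' : Fin N)) (fun b' hb' => ?_)
      (fun b₁ _ b₂ _ h => e.injective (Subtype.ext h)) (fun i hi => ?_) fun b' _ => rfl
    · exact mem_filter.2 ⟨mem_univ _, (hrc b').trans (hrc b).symm, (mem_filter.1 hb').2⟩
    · obtain ⟨-, h1, h2⟩ := mem_filter.1 hi
      exact ⟨e.symm ⟨i, mem_filter.2 ⟨mem_univ i, h1.trans (hrc b)⟩⟩,
        mem_filter.2 ⟨mem_univ _, by simpa [z] using h2⟩, by simp⟩
  have hterms : ∑ i ∈ s, hterm p r x i + dv p z = ∑ i ∈ s, (x i).factorial.factorization p := by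
    rw [hdv, ← sum_add_distrib]
    exact sum_congr rfl fun i _ => Nat.sub_add_cancel (diffs_le p hx i)
  omega

theorem hterm_runner_le {r x : Fin N → ℕ} (hx : ∀ i j, r i = r j → x i = x j → i = j) (c : ℕ) :
    ∑ i ∈ univ.filter (fun i => r i = c), hterm p r x i ≤ (kc r x c).factorial.factorization p := by
  obtain ⟨R, z, -, -, h⟩ := exists_runner_deg (p := p) hx c
  omega

theorem hv_le_sum {r x : Fin N → ℕ} (hr : ∀ i, r i < p)
    (hx : ∀ i j, r i = r j → x i = x j → i = j) :
    hv p r x ≤ ∑ c ∈ range p, (kc r x c).factorial.factorization p := by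
  rw [hv_eq, ← sum_fiberwise_of_maps_to (t := range p) (g := r) (fun i _ => mem_range.2 (hr i))]
  exact sum_le_sum fun c _ => hterm_runner_le hx c

theorem hv_le {r x : Fin N → ℕ} (hr : ∀ i, r i < p)
    (hx : ∀ i j, r i = r j → x i = x j → i = j) : hv p r x ≤ (wt r x).factorial.factorization p := by
  refine (hv_le_sum hr hx).trans ?_
  rw [← Finset.sum_apply', ← Nat.factorization_prod fun c _ => Nat.factorial_ne_zero _, ← sum_kc hr]
  exact (Nat.factorization_le_iff_dvd (prod_ne_zero_iff.2 fun c _ => Nat.factorial_ne_zero _)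
    (Nat.factorial_ne_zero _)).2 (Nat.prod_factorial_dvd_factorial_sum _ _) p

/-- A partition of two has degree one. -/
theorem natAbs_chm_two {R : ℕ} {z : Fin R → ℕ} (hz : Function.Injective z)
    (hs : ∑ b, z b = tri R + 2) : (chm (Multiset.replicate 2 1) z).natAbs = 1 := by
  classical
  have key : ∀ φ : IrrCharacter (Equiv.Perm (Fin 2)),
      charDegree (φ : Equiv.Perm (Fin 2) → ℂ) ≤ 1 := by
    intro φ
    have h := CfsgLib.Char.sum_degree_sq (G := Equiv.Perm (Fin 2))
    rw [card_perm_fin] at h
    have htot : ∑ f ∈ irrFinset (Equiv.Perm (Fin 2)), charDegree f ^ 2 = Nat.factorial 2 := by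
      apply Nat.cast_injective (R := ℂ)
      rw [← h, Nat.cast_sum]
      refine sum_congr rfl fun f hf => ?_
      have h1 := (Chr.irr_one (⟨f, mem_irrFinset.1 hf⟩ : IrrCharacter (Equiv.Perm (Fin 2)))).1
      simp only at h1
      rw [h1]
      simp
    have hle : charDegree (φ : Equiv.Perm (Fin 2) → ℂ) ^ 2 ≤ Nat.factorial 2 :=
      htot ▸ single_le_sum (f := fun f => charDegree f ^ 2) (fun f _ => Nat.zero_le _)
        (mem_irrFinset.2 φ.2)
    by_contra hgt
    have := Nat.pow_le_pow_left (show 2 ≤ charDegree (φ : Equiv.Perm (Fin 2) → ℂ) by omega) 2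
    norm_num at hle
    omega
  have hne := Int.natAbs_ne_zero.2 (deg_ne_zero hz hs)
  have hle : (chm (Multiset.replicate 2 1) z).natAbs ≤ 1 := by
    rcases chi_isIrr_or_neg hz hs with h | h
    · have h1 := key ⟨_, h⟩
      have h2 := (Chr.irr_one (⟨_, h⟩ : IrrCharacter (Equiv.Perm (Fin 2)))).1
      simp only at h1 h2
      rw [chi_one] at h2
      have h3 : chm (Multiset.replicate 2 1) z = (charDegree (chi 2 z) : ℤ) := by exact_mod_cast h2
      omega
    · have h1 := key ⟨_, h⟩
      have h2 := (Chr.irr_one (⟨_, h⟩ : IrrCharacter (Equiv.Perm (Fin 2)))).1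
      simp only at h1 h2
      rw [Pi.neg_apply, chi_one] at h2
      have h3 : -chm (Multiset.replicate 2 1) z = (charDegree (-chi 2 z) : ℤ) := by exact_mod_cast h2
      omega
  omega

/-- A runner of weight two contributes fully. -/
theorem hterm_runner_eq_one {r x : Fin N → ℕ} (hx : ∀ i j, r i = r j → x i = x j → i = j) {c : ℕ}
    (hc : kc r x c = 2) : ∑ i ∈ univ.filter (fun i => r i = c), hterm 2 r x i = 1 := by
  obtain ⟨R, z, hz, hzs, h⟩ := exists_runner_deg (p := 2) hx c
  rw [hc] at hzs h
  rw [natAbs_chm_two hz hzs, Nat.factorization_one] at h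
  rw [show Nat.factorial 2 = 2 from rfl, Nat.prime_two.factorization_self] at h
  simpa using h

/-- The two runners of a self-reflecting set have one weight. -/
theorem kc_eq_of_selfRefl {a : ℕ} {r x : Fin N → ℕ} (hr : ∀ i, r i < 2) (hN : N = 2 * a)
    (hlt : ∀ i, join 2 r x i < 2 * N) (hself : SelfRefl (join 2 r x))
    (hx : ∀ i j, r i = r j → x i = x j → i = j) : kc r x 0 = kc r x 1 := by
  have h1 := sum_runSet hx 0
  have h2 := sum_runSet hx 1
  have h3 := refl_weight (2 * a) (runSet_subset hr hN hlt 0)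
    (runSet_refl hr hN hlt hself (show (0 : ℕ) < 2 by omega))
  simp only [show 2 - 1 - 0 = 1 from rfl] at h3
  unfold kc
  omega

end CfsgLib.SymBlocks
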