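import Cfsg.Agent.SymBlocks.Avg
import Mathlib.GroupTheory.Perm.Option
import Mathlib.GroupTheory.Perm.Cycle.Basic
import Mathlib.Logic.Equiv.Fin.Basic

/-!
# The orbit lengths of a permutation, and sums over a symmetric group
-/

set_option autoImplicit false
set_option linter.unusedSectionVars false

namespace CfsgLib.SymBlocks

open Finset Equiv

variable {X : Type*} [Fintype X] [DecidableEq X]

/-- The orbit of `x`. -/
noncomputable def orb (g : Equiv.Perm X) (x : X) : Finset X := by
  classical exact univ.filter fun y => g.SameCycle x y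

theorem mem_orb {g : Equiv.Perm X} {x y : X} : y ∈ orb g x ↔ g.SameCycle x y := by
  simp [orb]

theorem mem_orb_self (g : Equiv.Perm X) (x : X) : x ∈ orb g x :=
  mem_orb.2 (Equiv.Perm.SameCycle.refl g x)

theorem orb_eq_orb {g : Equiv.Perm X} {x y : X} : orb g x = orb g y ↔ g.SameCycle x y := by
  refine ⟨fun h => mem_orb.1 (h ▸ mem_orb_self g y), fun h => ?_⟩
  ext z
  rw [mem_orb, mem_orb]
  exact ⟨fun hz => h.symm.trans hz, fun hz => h.trans hz⟩

/-- The set of orbits. -/
noncomputable def orbs (g : Equiv.Perm X) : Finset (Finset X) := univ.image (orb g)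

/-- The orbit lengths. -/
noncomputable def parts (g : Equiv.Perm X) : Multiset ℕ := (orbs g).val.map Finset.card

theorem mem_orbs {g : Equiv.Perm X} {S : Finset X} : S ∈ orbs g ↔ ∃ x, orb g x = S := by
  simp [orbs]

theorem parts_pos {g : Equiv.Perm X} {m : ℕ} (hm : m ∈ parts g) : 0 < m := by
  obtain ⟨S, hS, rfl⟩ := Multiset.mem_map.1 hm
  obtain ⟨x, rfl⟩ := mem_orbs.1 hS
  exact card_pos.2 ⟨x, mem_orb_self g x⟩

theorem filter_orb_eq {g : Equiv.Perm X} (x : X) :
    univ.filter (fun y => orb g y = orb g x) = orb g x := by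
  ext y
  simp only [mem_filter, mem_univ, true_and, orb_eq_orb, mem_orb]
  exact Equiv.Perm.sameCycle_comm

theorem parts_sum (g : Equiv.Perm X) : (parts g).sum = Fintype.card X := by
  show ∑ S ∈ orbs g, S.card = _
  rw [← Finset.card_univ, card_eq_sum_card_image (orb g) univ]
  refine sum_congr rfl fun S hS => ?_
  obtain ⟨x, rfl⟩ := mem_orbs.1 hS
  rw [filter_orb_eq]

theorem parts_permCongr {Y : Type*} [Fintype Y] [DecidableEq Y] (e : X ≃ Y) (g : Equiv.Perm X) :
    parts (e.permCongr g) = parts g := by
  have hsc : ∀ a b, (e.permCongr g).SameCycle a b ↔ g.SameCycle (e.symm a) (e.symm b) := by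
    intro a b
    have hz : ∀ i : ℤ, ∀ x, (e.permCongr g ^ i) x = e ((g ^ i) (e.symm x)) := by
      intro i x
      have h := map_zpow e.permCongrHom g i
      exact (congrArg (fun q : Equiv.Perm Y => q x) h).symm
    simp only [Equiv.Perm.SameCycle, hz]
    exact exists_congr fun i => (Equiv.eq_symm_apply e).symm
  have horb : ∀ x, orb (e.permCongr g) (e x) = (orb g x).map e.toEmbedding := by
    intro x
    ext b
    rw [mem_orb, hsc, mem_map_equiv, mem_orb, Equiv.symm_apply_apply]
  have himg : orbs (e.permCongr g) = (orbs g).map (Finset.mapEmbedding e.toEmbedding).toEmbedding := by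
    ext S
    simp only [mem_orbs, mem_map, RelEmbedding.coe_toEmbedding, Finset.mapEmbedding_apply]
    constructor
    · rintro ⟨y, rfl⟩
      exact ⟨orb g (e.symm y), ⟨e.symm y, rfl⟩, by rw [← horb, e.apply_symm_apply]⟩
    · rintro ⟨T, ⟨x, rfl⟩, rfl⟩
      exact ⟨e x, horb x⟩
  simp only [parts, himg, Finset.map_val, Multiset.map_map]
  exact Multiset.map_congr rfl fun S _ => by simp

theorem parts_conj (g h : Equiv.Perm X) : parts (h * g * h⁻¹) = parts g := by
  rw [← parts_permCongr h g]
  congr 1

theorem parts_one : parts (1 : Equiv.Perm X) = Multiset.replicate (Fintype.card X) 1 := by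
  have h : ∀ x : X, orb (1 : Equiv.Perm X) x = {x} := fun x => by
    ext y; simp [mem_orb, eq_comm]
  refine Multiset.eq_replicate.2 ⟨?_, fun m hm => ?_⟩
  · show (Multiset.map Finset.card (orbs 1).val).card = _
    rw [Multiset.card_map]
    show (orbs (1 : Equiv.Perm X)).card = _
    rw [orbs, card_image_of_injective _ fun a b hab => by simpa [h] using hab, card_univ]
  · obtain ⟨S, hS, rfl⟩ := Multiset.mem_map.1 hm
    obtain ⟨x, rfl⟩ := mem_orbs.1 hS
    rw [h, card_singleton]

/-- An orbit length divides the order. -/
theorem dvd_orderOf_of_mem_parts {g : Equiv.Perm X} {m : ℕ} (hm : m ∈ parts g) :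
    m ∣ orderOf g := by
  obtain ⟨S, hS, rfl⟩ := Multiset.mem_map.1 hm
  obtain ⟨x, rfl⟩ := mem_orbs.1 hS
  have h : (MulAction.orbit (Subgroup.zpowers g) x) = ((orb g x : Finset X) : Set X) := by
    ext y
    simp only [MulAction.mem_orbit_iff, mem_coe, mem_orb, Subgroup.exists_zpowers]
    constructor
    · rintro ⟨i, hi⟩; exact ⟨i, hi⟩
    · rintro ⟨i, hi⟩; exact ⟨i, hi⟩
  have h1 : Nat.card (MulAction.orbit (Subgroup.zpowers g) x) ∣ Nat.card (Subgroup.zpowers g) := by
    rw [Nat.card_congr (MulAction.orbitEquivQuotientStabilizer (Subgroup.zpowers g) x)]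
    exact Subgroup.card_quotient_dvd_card _
  rw [Nat.card_zpowers, h, Nat.card_coe_set_eq, Set.ncard_coe_finset] at h1
  exact h1

/-- The orbits after inserting a point. -/
theorem parts_insert (p : Equiv.Perm X) (j : X) :
    parts (Equiv.swap none (some j) * p.optionCongr) =
      ((orb p j).card + 1) ::ₘ (parts p).erase (orb p j).card := by
  set g : Equiv.Perm (Option X) := Equiv.swap none (some j) * p.optionCongr with hg
  set π : Option X → X := fun a => a.getD j with hπ
  have hnone : g none = some j := by simp [hg]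
  have hsome : ∀ x, g (some x) = if p x = j then none else some (p x) := by
    intro x
    simp only [hg, Equiv.Perm.mul_apply, Equiv.optionCongr_apply, Option.map_some]
    split_ifs with h
    · rw [h, Equiv.swap_apply_right]
    · rw [Equiv.swap_apply_of_ne_of_ne (by simp) (by simpa using h)]
  have hstep : ∀ a, p.SameCycle (π a) (π (g a)) := by
    rintro (_ | x)
    · rw [hnone]; exact Equiv.Perm.SameCycle.refl _ _
    · rw [hsome]
      have : π (if p x = j then none else some (p x)) = p x := by
        split_ifs with h <;> simp [hπ, h]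
      rw [this]
      exact Equiv.Perm.sameCycle_apply_right.2 (Equiv.Perm.SameCycle.refl _ _)
  have hback : ∀ x y, p.SameCycle x y → g.SameCycle (some x) (some y) := by
    intro x y hxy
    obtain ⟨i, rfl⟩ := hxy.exists_nat_pow_eq
    clear hxy
    induction i with
    | zero => exact Equiv.Perm.SameCycle.refl _ _
    | succ i ih =>
      rw [pow_succ', Equiv.Perm.mul_apply]
      set z := (p ^ i) x
      refine ih.trans ?_
      by_cases h : p z = j
      · rw [h, ← hnone, Equiv.Perm.sameCycle_apply_right,
          show none = g (some z) by rw [hsome, if_pos h], Equiv.Perm.sameCycle_apply_right]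
      · rw [show some (p z) = g (some z) by rw [hsome, if_neg h],
          Equiv.Perm.sameCycle_apply_right]
  have hsec : ∀ a, g.SameCycle a (some (π a)) := by
    rintro (_ | x)
    · show g.SameCycle none (some j)
      rw [← hnone, Equiv.Perm.sameCycle_apply_right]
    · exact Equiv.Perm.SameCycle.refl _ _
  have hiff : ∀ a b, g.SameCycle a b ↔ p.SameCycle (π a) (π b) := by
    intro a b
    refine ⟨fun h => ?_, fun h => ((hsec a).trans (hback _ _ h)).trans (hsec b).symm⟩
    obtain ⟨i, rfl⟩ := h.exists_nat_pow_eq
    clear h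
    induction i with
    | zero => exact Equiv.Perm.SameCycle.refl _ _
    | succ i ih =>
      rw [pow_succ', Equiv.Perm.mul_apply]
      exact ih.trans (hstep _)
  set P : Finset X → Finset (Option X) := fun S => univ.filter fun a => π a ∈ S with hP
  have horb : ∀ a, orb g a = P (orb p (π a)) := by
    intro a; ext b; simp [hP, mem_orb, hiff]
  have hπsurj : ∀ x, π (some x) = x := fun x => rfl
  have hPinj : Function.Injective P := by
    intro S T h
    ext x
    simpa [hP, hπsurj] using Finset.ext_iff.1 h (some x)
  have himg : orbs g = (orbs p).image P := by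
    ext S
    simp only [mem_orbs, mem_image]
    constructor
    · rintro ⟨a, rfl⟩; exact ⟨_, ⟨π a, rfl⟩, (horb a).symm⟩
    · rintro ⟨T, ⟨x, rfl⟩, rfl⟩; exact ⟨some x, horb (some x)⟩
  have hcard : ∀ S : Finset X, (P S).card = S.card + if j ∈ S then 1 else 0 := by
    intro S
    have : P S = S.map Function.Embedding.some ∪ if j ∈ S then {none} else ∅ := by
      ext (_ | x)
      · simp only [hP, hπ, mem_filter, mem_univ, true_and, Option.getD_none, mem_union, mem_map,
          Function.Embedding.some_apply]
        split_ifs with h <;> simp [h]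
      · simp only [hP, hπ, mem_filter, mem_univ, true_and, Option.getD_some, mem_union, mem_map,
          Function.Embedding.some_apply]
        split_ifs <;> simp
    rw [this, card_union_of_disjoint, card_map]
    · split_ifs <;> simp
    · split_ifs <;> simp [Finset.disjoint_left]
  have hmem : orb p j ∈ (orbs p).val := mem_orbs.2 ⟨j, rfl⟩
  show ((orbs g).val.map Finset.card) = _
  rw [himg, image_val_of_injOn hPinj.injOn, Multiset.map_map]
  conv_lhs => rw [← Multiset.cons_erase hmem, Multiset.map_cons]
  simp only [Function.comp_apply, hcard, if_pos (mem_orb_self p j)]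
  congr 1
  conv_rhs => rw [parts, ← Multiset.cons_erase hmem, Multiset.map_cons,
    Multiset.erase_cons_head]
  refine Multiset.map_congr rfl fun S hS => ?_
  have hne : S ≠ orb p j := fun e => by
    rw [e] at hS
    exact (Multiset.Nodup.notMem_erase (orbs p).nodup) hS
  obtain ⟨x, rfl⟩ := mem_orbs.1 (Multiset.mem_of_mem_erase hS)
  rw [if_neg, add_zero]
  exact fun hj => hne (orb_eq_orb.2 (mem_orb.1 hj))

theorem parts_optionCongr (p : Equiv.Perm X) : parts p.optionCongr = 1 ::ₘ parts p := by
  set g : Equiv.Perm (Option X) := p.optionCongr with hg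
  have hnone : orb g none = {none} := by
    ext a
    rw [mem_orb, mem_singleton]
    refine ⟨fun h => (h.eq_of_left ?_).symm, fun h => h ▸ Equiv.Perm.SameCycle.refl _ _⟩
    simp [Function.IsFixedPt, hg]
  have hsc : ∀ (i : ℕ) x, (g ^ i) (some x) = some ((p ^ i) x) := by
    intro i
    induction i with
    | zero => simp
    | succ i ih => intro x; rw [pow_succ', pow_succ', Equiv.Perm.mul_apply, ih]; simp [hg]
  have hsome : ∀ x, orb g (some x) = (orb p x).map Function.Embedding.some := by
    intro x
    ext a
    simp only [mem_orb, mem_map, Function.Embedding.some_apply]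
    constructor
    · intro h
      obtain ⟨i, rfl⟩ := h.exists_nat_pow_eq
      exact ⟨(p ^ i) x, ⟨(i : ℤ), by simp⟩, (hsc i x).symm⟩
    · rintro ⟨y, hy, rfl⟩
      obtain ⟨i, rfl⟩ := hy.exists_nat_pow_eq
      exact ⟨(i : ℤ), by rw [zpow_natCast, hsc]⟩
  have himg : orbs g = insert {none} ((orbs p).map (Finset.mapEmbedding Function.Embedding.some).toEmbedding) := by
    ext S
    simp only [mem_orbs, mem_insert, mem_map, RelEmbedding.coe_toEmbedding,
      Finset.mapEmbedding_apply]
    constructor
    · rintro ⟨_ | x, rfl⟩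
      · exact Or.inl hnone
      · exact Or.inr ⟨_, ⟨x, rfl⟩, (hsome x).symm⟩
    · rintro (rfl | ⟨T, ⟨x, rfl⟩, rfl⟩)
      · exact ⟨none, hnone⟩
      · exact ⟨some x, hsome x⟩
  have hnot : ({none} : Finset (Option X)) ∉
      (orbs p).map (Finset.mapEmbedding Function.Embedding.some).toEmbedding := by
    simp only [mem_map, RelEmbedding.coe_toEmbedding, Finset.mapEmbedding_apply, not_exists, not_and]
    intro T _ h
    have := Finset.ext_iff.1 h none
    simp at this
  simp only [parts, himg]
  rw [insert_val_of_notMem hnot, Multiset.map_cons, card_singleton, map_val, Multiset.map_map]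
  congr 1
  exact Multiset.map_congr rfl fun S _ => by simp

/-- Summing a function of the orbit lengths over the symmetric group. -/
theorem sum_perm_parts : ∀ (n : ℕ) (F : Multiset ℕ → ℂ),
    ∑ g : Equiv.Perm (Fin n), F (parts g) = (n.factorial : ℂ) * avg n F := by
  intro n
  induction n with
  | zero =>
    intro F
    have hz : ∀ g : Equiv.Perm (Fin 0), parts g = 0 := fun g => by
      rw [parts, orbs, univ_eq_empty]; rfl
    simp [hz, avg]
  | succ n ih =>
    intro F
    rw [← Equiv.sum_comp (finSuccEquiv n).symm.permCongr]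
    simp only [parts_permCongr]
    rw [← Equiv.sum_comp Equiv.Perm.decomposeOption.symm, Fintype.sum_prod_type,
      Fintype.sum_option]
    simp only [Equiv.Perm.decomposeOption_symm_apply, Equiv.swap_self]
    rw [← Equiv.Perm.one_def]
    simp only [one_mul, parts_optionCongr, parts_insert]
    rw [ih (fun μ => F (1 ::ₘ μ)), sum_comm]
    have hins : ∀ p : Equiv.Perm (Fin n),
        ∑ j, F (((orb p j).card + 1) ::ₘ (parts p).erase (orb p j).card) = ins F (parts p) := by
      intro p
      rw [← sum_fiberwise_of_maps_to (t := orbs p) (g := orb p)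
        (fun j _ => mem_orbs.2 ⟨j, rfl⟩)]
      rw [ins, parts, Multiset.map_map]
      refine sum_congr rfl fun S hS => ?_
      obtain ⟨x, rfl⟩ := mem_orbs.1 hS
      rw [sum_congr rfl fun j hj => by rw [(mem_filter.1 hj).2], sum_const, filter_orb_eq,
        nsmul_eq_mul]
      rfl
    rw [sum_congr rfl fun p _ => hins p, ih (ins F)]
    show _ = _ * ((_ + _) / _)
    rw [Nat.factorial_succ]
    push_cast
    field_simp

end CfsgLib.SymBlocks
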