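import Cfsg.Agent.SymBlocks.HookBound

/-!
# Exponents with prescribed weights on the tops of the runners
-/

set_option autoImplicit false

namespace CfsgLib.SymBlocks

open Finset Cfsg CfsgLib.Block CfsgLib.Char

variable {N n p : ℕ}

/-- The number of entries on a runner. -/
def cnt (r : Fin N → ℕ) (c : ℕ) : ℕ := (univ.filter fun i => r i = c).card

/-- The lifts of the top entries, and of those below them. -/
def lift2 (r : Fin N → ℕ) (t t' : ℕ → ℕ) (i : Fin N) : ℕ :=
  low r i + (if low r i + 1 = cnt r (r i) then t (r i)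
    else if low r i + 2 = cnt r (r i) then t' (r i) else 0)

section

variable {r : Fin N → ℕ}

theorem low_lt_cnt (i : Fin N) : low r i < cnt r (r i) :=
  card_lt_card ((ssubset_iff_of_subset fun j hj =>
    mem_filter.2 ⟨mem_univ j, (mem_filter.1 hj).2.2⟩).2
    ⟨i, mem_filter.2 ⟨mem_univ i, rfl⟩, fun h => lt_irrefl _ (mem_filter.1 h).2.1⟩)

theorem low_strict : ∀ i j, i < j → r i = r j → low r i < low r j := fun i j hij hr =>
  card_lt_card ((ssubset_iff_of_subset fun k hk => mem_filter.2 ⟨mem_univ k,
    (mem_filter.1 hk).2.1.trans hij, (mem_filter.1 hk).2.2.trans hr⟩).2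
    ⟨i, mem_filter.2 ⟨mem_univ i, hij, hr⟩, fun h => lt_irrefl _ (mem_filter.1 h).2.1⟩)

theorem image_low (c : ℕ) : (univ.filter fun i => r i = c).image (low r) = range (cnt r c) := by
  refine eq_of_subset_of_card_le (fun q hq => ?_) ?_
  · obtain ⟨j, hj, rfl⟩ := mem_image.1 hq
    have := low_lt_cnt (r := r) j
    rw [(mem_filter.1 hj).2] at this
    exact mem_range.2 this
  · rw [card_range, card_image_of_injOn fun a ha b hb h => runner_injective low_strict a b
      ((mem_filter.1 ha).2.trans (mem_filter.1 hb).2.symm) h]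
    exact le_rfl

theorem exists_low_eq {c q : ℕ} (h : q < cnt r c) : ∃ i, r i = c ∧ low r i = q := by
  have := mem_range.2 h
  rw [← image_low] at this
  obtain ⟨i, hi, hq⟩ := mem_image.1 this
  exact ⟨i, (mem_filter.1 hi).2, hq⟩

variable {t t' : ℕ → ℕ}

theorem lift2_strict (htt : ∀ c, t' c ≤ t c) :
    ∀ i j, i < j → r i = r j → lift2 r t t' i < lift2 r t t' j := by
  intro i j hij hr
  have h1 := low_strict i j hij hr
  have h2 := low_lt_cnt (r := r) j
  have h3 := htt (r j)
  unfold lift2
  rw [hr] at *
  split_ifs <;> omega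

theorem part_lift2 (htt : ∀ c, t' c ≤ t c) (i : Fin N) :
    part r (lift2 r t t') i = lift2 r t t' i - low r i := by
  rw [part, rnk_eq_low (lift2_strict htt)]

theorem kc_lift2 (htt : ∀ c, t' c ≤ t c) {c : ℕ} (hc : 2 ≤ cnt r c) :
    kc r (lift2 r t t') c = t c + t' c := by
  classical
  obtain ⟨i, hi, hil⟩ := exists_low_eq (r := r) (show cnt r c - 1 < cnt r c by omega)
  obtain ⟨j, hj, hjl⟩ := exists_low_eq (r := r) (show cnt r c - 2 < cnt r c by omega)
  have hij : i ≠ j := fun e => by rw [e, hjl] at hil; omega
  rw [kc, ← sum_subset (s₁ := {i, j}) ?_ ?_, sum_pair hij]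
  · rw [part_lift2 htt, part_lift2 htt, lift2, lift2, hil, hjl, hi, hj, if_pos (by omega),
      if_neg (by omega), if_pos (by omega)]
    omega
  · intro k hk
    rcases mem_insert.1 hk with rfl | hk
    · exact mem_filter.2 ⟨mem_univ _, hi⟩
    · rw [mem_singleton.1 hk]; exact mem_filter.2 ⟨mem_univ _, hj⟩
  · intro k hk hk'
    simp only [mem_insert, mem_singleton, not_or] at hk'
    have hkc := (mem_filter.1 hk).2
    rw [part_lift2 htt, lift2, hkc, if_neg, if_neg]
    · omega
    · exact fun e => hk'.2 (runner_injective low_strict k j (hkc.trans hj.symm) (by omega))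
    · exact fun e => hk'.1 (runner_injective low_strict k i (hkc.trans hi.symm) (by omega))

theorem join_lift2 (hp : 0 < p) (hr : ∀ i, r i < p) (htt : ∀ c, t' c ≤ t c)
    (hcnt : ∀ c < p, 2 ≤ cnt r c) {w : ℕ} (hw : ∑ c ∈ range p, (t c + t' c) = w)
    (hcore : ∑ i, join p r (low r) i + p * w = tri N + n) :
    ∑ i, join p r (lift2 r t t') i = tri N + n ∧ wt r (lift2 r t t') = w := by
  have hwt : wt r (lift2 r t t') = w := by
    rw [← sum_kc hr, ← hw]
    exact sum_congr rfl fun c hc => kc_lift2 htt (hcnt c (mem_range.1 hc))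
  refine ⟨?_, hwt⟩
  rw [← hcore, sum_join, sum_join, ← sum_low_le (lift2_strict htt), hwt, mul_add]
  ring

/-- An entry above a full initial segment. -/
theorem hterm_of_segment {x : Fin N → ℕ} (hx : ∀ i j, r i = r j → x i = x j → i = j) {i : Fin N}
    {R s : ℕ} (himg : (univ.filter fun j => r j = r i ∧ x j < x i).image x = range R)
    (hxi : x i = R + s) : hterm p r x i = s.factorial.factorization p := by
  classical
  have hinj : Set.InjOn x (univ.filter (fun j => r j = r i ∧ x j < x i) : Finset (Fin N)) :=
    fun a ha b hb h => hx a b ((mem_filter.1 ha).2.1.trans (mem_filter.1 hb).2.1.symm) h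
  rw [hterm, ← sum_image (f := fun q => (x i - q).factorization p) hinj, himg, hxi]
  have hprod : ∏ q ∈ range R, (R + s - q) = (R + s).descFactorial R :=
    (Nat.descFactorial_eq_prod_range _ _).symm
  have hne : ∀ q ∈ range R, R + s - q ≠ 0 := fun q hq => by have := mem_range.1 hq; omega
  rw [← Finset.sum_apply', ← Nat.factorization_prod hne, hprod]
  have h := Nat.factorial_mul_descFactorial (show R ≤ R + s by omega)
  rw [Nat.add_sub_cancel_left] at h
  rw [← h, Nat.factorization_mul (Nat.factorial_ne_zero _) (by
    rw [← hprod]; exact prod_ne_zero_iff.2 hne), Finsupp.add_apply]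
  omega

/-- One hook on each runner. -/
theorem hterm_rows (i : Fin N) : hterm p r (lift2 r t fun _ => 0) i =
    if low r i + 1 = cnt r (r i) then (t (r i)).factorial.factorization p else 0 := by
  classical
  have htt : ∀ c, (fun _ => 0 : ℕ → ℕ) c ≤ t c := fun c => Nat.zero_le _
  have hstrict := lift2_strict (r := r) (t := t) htt
  set x := lift2 r t fun _ => 0 with hx
  have hxlow : ∀ j, low r j + 1 ≠ cnt r (r j) → x j = low r j := fun j hj => by
    simp [hx, lift2, hj]
  have hlower : ∀ j, r j = r i → (x j < x i ↔ low r j < low r i) := by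
    intro j hj
    rcases lt_trichotomy j i with h | h | h
    · exact iff_of_true (hstrict j i h hj) (low_strict j i h hj)
    · subst h; simp
    · exact iff_of_false (not_lt.2 (hstrict i j h hj.symm).le)
        (not_lt.2 (low_strict i j h hj.symm).le)
  have himg : (univ.filter fun j => r j = r i ∧ x j < x i).image x = range (low r i) := by
    ext q
    simp only [mem_image, mem_filter, mem_univ, true_and, mem_range]
    constructor
    · rintro ⟨j, ⟨hj, hlt⟩, rfl⟩
      have h := (hlower j hj).1 hlt
      have := low_lt_cnt (r := r) i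
      rw [hxlow j (by rw [hj]; omega)]
      exact h
    · intro hq
      obtain ⟨j, hj, hjq⟩ := exists_low_eq (r := r) (hq.trans (low_lt_cnt i))
      refine ⟨j, ⟨hj, (hlower j hj).2 (by omega)⟩, ?_⟩
      have := low_lt_cnt (r := r) i
      rw [hxlow j (by rw [hj]; omega), hjq]
  rw [hterm_of_segment (runner_injective hstrict) himg
    (s := if low r i + 1 = cnt r (r i) then t (r i) else 0) (by simp [hx, lift2])]
  split_ifs <;> simp

theorem hv_rows (hr : ∀ i, r i < p) (hcnt : ∀ c < p, 2 ≤ cnt r c) :
    hv p r (lift2 r t fun _ => 0) = ∑ c ∈ range p, (t c).factorial.factorization p := by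
  classical
  rw [hv_eq, ← sum_fiberwise_of_maps_to (t := range p) (g := r) (fun i _ => mem_range.2 (hr i))]
  refine sum_congr rfl fun c hc => ?_
  obtain ⟨i, hi, hil⟩ := exists_low_eq (r := r) (show cnt r c - 1 < cnt r c by
    have := hcnt c (mem_range.1 hc); omega)
  rw [sum_eq_single i]
  · rw [hterm_rows, hil, hi, if_pos (by have := hcnt c (mem_range.1 hc); omega)]
  · intro j hj hji
    rw [hterm_rows, if_neg]
    intro e
    exact hji (runner_injective low_strict j i ((mem_filter.1 hj).2.trans hi.symm)
      (by rw [(mem_filter.1 hj).2] at e; omega))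
  · intro h; exact absurd (mem_filter.2 ⟨mem_univ i, hi⟩) h

/-- The hook `(w - 1, 1)` on the runner of residue zero, for `p = 2`. -/
theorem hv_hook (hr : ∀ i, r i < 2) (hcnt : ∀ c < 2, 2 ≤ cnt r c) {w : ℕ} (hw : 2 ≤ w) :
    hv 2 r (lift2 r (fun c => if c = 0 then w - 1 else 0) fun c => if c = 0 then 1 else 0) +
      (w - 1).factorization 2 = w.factorial.factorization 2 := by
  classical
  set t : ℕ → ℕ := fun c => if c = 0 then w - 1 else 0 with ht
  set t' : ℕ → ℕ := fun c => if c = 0 then 1 else 0 with ht'
  have htt : ∀ c, t' c ≤ t c := fun c => by simp only [ht, ht']; split_ifs <;> omega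
  have hstrict := lift2_strict (r := r) (t := t) htt
  set x := lift2 r t t' with hx
  have hn0 := hcnt 0 (by omega)
  obtain ⟨i, hi, hil⟩ := exists_low_eq (r := r) (show cnt r 0 - 1 < cnt r 0 by omega)
  obtain ⟨j, hj, hjl⟩ := exists_low_eq (r := r) (show cnt r 0 - 2 < cnt r 0 by omega)
  have hlower : ∀ a b, r a = r b → (x a < x b ↔ low r a < low r b) := by
    intro a b hab
    rcases lt_trichotomy a b with h | h | h
    · exact iff_of_true (hstrict a b h hab) (low_strict a b h hab)
    · subst h; simp
    · exact iff_of_false (not_lt.2 (hstrict b a h hab.symm).le)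
        (not_lt.2 (low_strict b a h hab.symm).le)
  have hval : ∀ a, x a = low r a + (if a = i then w - 1 else if a = j then 1 else 0) := by
    intro a
    simp only [hx, lift2]
    by_cases hra : r a = 0
    · by_cases hai : a = i
      · subst hai; rw [if_pos rfl, hra, hil, if_pos (by omega)]; simp [ht]
      by_cases haj : a = j
      · subst haj; rw [if_neg hai, if_pos rfl, hra, hjl, if_neg (by omega), if_pos (by omega)]
        simp [ht']
      · rw [if_neg hai, if_neg haj, if_neg, if_neg]
        · exact fun e => haj (runner_injective low_strict a j (hra.trans hj.symm)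
            (by rw [hra] at e; omega))
        · exact fun e => hai (runner_injective low_strict a i (hra.trans hi.symm)
            (by rw [hra] at e; omega))
    · rw [if_neg (show a ≠ i from fun e => hra (e ▸ hi)), if_neg (show a ≠ j from fun e => hra (e ▸ hj))]
      simp [ht, ht', hra]
  have hij : i ≠ j := fun e => by rw [e, hjl] at hil; omega
  have hxi : x i = cnt r 0 - 1 + (w - 1) := by rw [hval, if_pos rfl, hil]
  have hxj : x j = cnt r 0 - 2 + 1 := by rw [hval, if_neg hij.symm, if_pos rfl, hjl]
  have hseg : ∀ a, a ≠ i →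
      (univ.filter fun b => r b = r a ∧ x b < x a).image x = range (low r a) := by
    intro a ha
    have hnot : ∀ b, r b = r a → low r b < low r a → x b = low r b := by
      intro b hb hlt
      have h1 := low_lt_cnt (r := r) a
      rw [hval, if_neg, if_neg, add_zero]
      · intro e
        subst e
        rw [← hb, hj] at h1
        refine ha (runner_injective low_strict a i ((hb.symm.trans hj).trans hi.symm) ?_)
        omega
      · intro e
        subst e
        rw [← hb, hi] at h1
        omega
    ext q
    simp only [mem_image, mem_filter, mem_univ, true_and, mem_range]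
    constructor
    · rintro ⟨b, ⟨hb, hlt⟩, rfl⟩
      have h := (hlower b a hb).1 hlt
      rw [hnot b hb h]
      exact h
    · intro hq
      obtain ⟨b, hb, hbq⟩ := exists_low_eq (r := r) (hq.trans (low_lt_cnt a))
      exact ⟨b, ⟨hb, (hlower b a hb).2 (by omega)⟩, by rw [hnot b hb (by omega), hbq]⟩
  have hother : ∀ a, a ≠ i → hterm 2 r x a = 0 := by
    intro a ha
    rw [hterm_of_segment (runner_injective hstrict) (hseg a ha)
      (s := if a = j then 1 else 0) (by rw [hval, if_neg ha])]
    split_ifs <;> simp
  rw [hv_eq, sum_eq_single i (fun a _ ha => hother a ha) (fun h => absurd (mem_univ i) h)]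
  -- the lifted top
  set R := cnt r 0 - 1 with hR
  have hlow_img : (univ.filter fun b => r b = r i ∧ x b < x i).image x =
      (range (R + 1)).erase (R - 1) := by
    ext q
    simp only [mem_image, mem_filter, mem_univ, true_and, mem_erase, mem_range]
    constructor
    · rintro ⟨b, ⟨hb, hlt⟩, rfl⟩
      have h := (hlower b i hb).1 hlt
      have hbi : b ≠ i := fun e => by subst e; omega
      rw [hval, if_neg hbi]
      by_cases hbj : b = j
      · subst hbj; rw [if_pos rfl]; omega
      · rw [if_neg hbj]
        have : low r b ≠ low r j := fun e => hbj (runner_injective low_strict b j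
          ((hb.trans hi).trans hj.symm) e)
        omega
    · rintro ⟨hq1, hq2⟩
      by_cases hqR : q = R
      · exact ⟨j, ⟨hj.trans hi.symm, (hlower j i (hj.trans hi.symm)).2 (by omega)⟩,
          by rw [hxj]; omega⟩
      · obtain ⟨b, hb, hbq⟩ := exists_low_eq (r := r) (show q < cnt r 0 by omega)
        refine ⟨b, ⟨hb.trans hi.symm, (hlower b i (hb.trans hi.symm)).2 (by omega)⟩, ?_⟩
        rw [hval, if_neg (fun e => by subst e; omega), if_neg (fun e => by subst e; omega), hbq,
          add_zero]
  have hinj : Set.InjOn x (univ.filter (fun b => r b = r i ∧ x b < x i) : Finset (Fin N)) :=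
    fun a ha b hb h => runner_injective hstrict a b
      ((mem_filter.1 ha).2.1.trans (mem_filter.1 hb).2.1.symm) h
  rw [hterm, ← sum_image (f := fun q => (x i - q).factorization 2) hinj, hlow_img, hxi]
  have hne : ∀ q ∈ range (R + 1), R + (w - 1) - q ≠ 0 := fun q hq => by
    have := mem_range.1 hq; omega
  have hfull : ∑ q ∈ range (R + 1), (R + (w - 1) - q).factorization 2 +
      (w - 2).factorial.factorization 2 = (R + (w - 1)).factorial.factorization 2 := by
    have h := Nat.factorial_mul_descFactorial (show R + 1 ≤ R + (w - 1) by omega)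
    rw [show R + (w - 1) - (R + 1) = w - 2 by omega, Nat.descFactorial_eq_prod_range] at h
    rw [← h, Nat.factorization_mul (Nat.factorial_ne_zero _) (prod_ne_zero_iff.2 hne),
      Finsupp.add_apply, Nat.factorization_prod hne, Finset.sum_apply']
    omega
  have herase := sum_erase_add (range (R + 1)) (fun q => (R + (w - 1) - q).factorization 2)
    (mem_range.2 (show R - 1 < R + 1 by omega))
  rw [show R + (w - 1) - (R - 1) = w by omega] at herase
  obtain ⟨v, hv⟩ : ∃ v, w = v + 2 := ⟨w - 2, by omega⟩
  have hw2 : w.factorial.factorization 2 =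
      w.factorization 2 + (w - 1).factorization 2 + (w - 2).factorial.factorization 2 := by
    subst hv
    simp only [Nat.add_sub_cancel, show v + 2 - 1 = v + 1 by omega]
    rw [Nat.factorial_succ, Nat.factorial_succ, Nat.factorization_mul (by omega)
      (Nat.mul_ne_zero (by omega) (Nat.factorial_ne_zero _)),
      Nat.factorization_mul (by omega) (Nat.factorial_ne_zero _), Finsupp.add_apply,
      Finsupp.add_apply]
    rw [show v + 1 + 1 = v + 2 from rfl]
    omega
  omega

/-- Every runner has two entries. -/
theorem two_le_cnt (hr : ∀ i, r i < p) {m : ℕ} (hcore : ∑ i, join p r (low r) i = tri N + m)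
    (hN : m + 2 * p ≤ N) {c : ℕ} (hc : c < p) : 2 ≤ cnt r c := by
  have hinj := join_injective hr (runner_injective (low_strict (r := r)))
  obtain ⟨i, hi⟩ : ∃ i, join p r (low r) i = p + c := by
    by_contra h
    push Not at h
    have := tri_add_le_of_gap hinj h
    omega
  have hp : 0 < p := (Nat.zero_le c).trans_lt hc
  have hri : r i = c := by
    have := congrArg (fun v => v % p) hi
    simpa [join, Nat.mod_eq_of_lt (hr i), Nat.mod_eq_of_lt hc] using this
  have hli : 1 ≤ low r i := by
    by_contra h
    simp only [join, hri, show low r i = 0 by omega] at hi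
    omega
  have := low_lt_cnt (r := r) i
  rw [hri] at this
  omega

/-- Two equal rows are not self-reflecting. -/
theorem not_selfRefl_rows {a k : ℕ} (hr : ∀ i, r i < 2) (hN : N = 2 * a)
    (hcnt : ∀ c < 2, 2 ≤ cnt r c) (hk : 2 ≤ k)
    (hlt : ∀ i, join 2 r (lift2 r (fun _ => k) fun _ => 0) i < 2 * N) :
    ¬ SelfRefl (join 2 r (lift2 r (fun _ => k) fun _ => 0)) := by
  intro hself
  set x := lift2 r (fun _ => k) fun _ => 0
  have hmem : ∀ c < 2, cnt r c - 1 + k ∈ runSet r x c ∧ ∀ q < cnt r c - 1, q ∈ runSet r x c := by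
    intro c hc
    have := hcnt c hc
    refine ⟨?_, fun q hq => ?_⟩
    · obtain ⟨i, hi, hl⟩ := exists_low_eq (r := r) (show cnt r c - 1 < cnt r c by omega)
      refine mem_runSet.2 ⟨i, hi, ?_⟩
      simp only [x, lift2, hl, hi]
      rw [if_pos (by omega)]
    · obtain ⟨i, hi, hl⟩ := exists_low_eq (r := r) (show q < cnt r c by omega)
      refine mem_runSet.2 ⟨i, hi, ?_⟩
      simp only [x, lift2, hl, hi]
      rw [if_neg (by omega)]
      split_ifs <;> omega
  obtain ⟨h0, -⟩ := hmem 0 (by omega)
  obtain ⟨-, h1⟩ := hmem 1 (by omega)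
  have hlt0 := mem_range.1 (runSet_subset hr hN hlt 0 h0)
  have h := (mem_runSet_refl hr hN hself (show (0 : ℕ) < 2 by omega) hlt0).1 h0
  refine h (h1 _ ?_)
  have htot : cnt r 0 + cnt r 1 = N := by
    have h2 := card_eq_sum_card_fiberwise (s := (univ : Finset (Fin N))) (t := range 2) (f := r)
      (fun i _ => mem_coe.2 (mem_range.2 (hr i)))
    rw [card_univ, Fintype.card_fin, sum_range_succ, sum_range_one] at h2
    exact h2.symm
  have := hcnt 1 (by omega)
  omega

end

end CfsgLib.SymBlocks
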